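import Cfsg.Agent.Lib.Helper41.Dickson.Cards

/-!
# Tools for maximality proofs in `PSL₂(F)`
-/

set_option autoImplicit false
set_option linter.style.haveILetI false
set_option linter.unusedSectionVars false
set_option linter.unusedSimpArgs false

namespace Cfsg.Agent.Lib.Helper41.Dickson

open Matrix
open scoped MatrixGroups

set_option maxRecDepth 100000 in
theorem perm4_orders : ∀ g : Equiv.Perm (Fin 4), g ^ 2 = 1 ∨ g ^ 3 = 1 ∨ g ^ 4 = 1 := by decide

set_option maxRecDepth 100000 in
theorem alt4_orders :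
    ∀ g : Equiv.Perm (Fin 4), Equiv.Perm.sign g = 1 → g ^ 2 = 1 ∨ g ^ 3 = 1 := by decide

set_option maxRecDepth 1000000 in
theorem alt5_orders :
    ∀ g : Equiv.Perm (Fin 5), Equiv.Perm.sign g = 1 → g ^ 2 = 1 ∨ g ^ 3 = 1 ∨ g ^ 5 = 1 := by decide

theorem orderOf_of_perm_four {M : Type*} [Group M] (e : M ≃* Equiv.Perm (Fin 4)) (t : M) :
    orderOf t ∣ 2 ∨ orderOf t ∣ 3 ∨ orderOf t ∣ 4 := by
  rw [← e.orderOf_eq t]
  rcases perm4_orders (e t) with h | h | h
  · exact Or.inl (orderOf_dvd_of_pow_eq_one h)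
  · exact Or.inr (Or.inl (orderOf_dvd_of_pow_eq_one h))
  · exact Or.inr (Or.inr (orderOf_dvd_of_pow_eq_one h))

theorem orderOf_of_alt_four {M : Type*} [Group M] (e : M ≃* alternatingGroup (Fin 4)) (t : M) :
    orderOf t ∣ 2 ∨ orderOf t ∣ 3 := by
  rw [← e.orderOf_eq t, ← Subgroup.orderOf_coe]
  rcases alt4_orders (e t) (e t).2 with h | h
  · exact Or.inl (orderOf_dvd_of_pow_eq_one h)
  · exact Or.inr (orderOf_dvd_of_pow_eq_one h)

theorem orderOf_of_alt_five {M : Type*} [Group M] (e : M ≃* alternatingGroup (Fin 5)) (t : M) :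
    orderOf t ∣ 2 ∨ orderOf t ∣ 3 ∨ orderOf t ∣ 5 := by
  rw [← e.orderOf_eq t, ← Subgroup.orderOf_coe]
  rcases alt5_orders (e t) (e t).2 with h | h | h
  · exact Or.inl (orderOf_dvd_of_pow_eq_one h)
  · exact Or.inr (Or.inl (orderOf_dvd_of_pow_eq_one h))
  · exact Or.inr (Or.inr (orderOf_dvd_of_pow_eq_one h))

/-- alternating groups have no subgroup of index two -/
theorem alt_index_ne_two {α : Type*} [Fintype α] [DecidableEq α]
    (H : Subgroup (alternatingGroup α)) : H.index ≠ 2 := by
  intro h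
  have h1 : ∀ g : alternatingGroup α, g ^ 2 ∈ H := Subgroup.sq_mem_of_index_two h
  have h2 : alternatingGroup α ≤ H.map (alternatingGroup α).subtype := by
    refine le_trans (le_of_eq Equiv.Perm.closure_three_cycles_eq_alternating.symm) ?_
    rw [Subgroup.closure_le]
    intro σ hσ
    refine ⟨⟨σ, hσ.mem_alternatingGroup⟩, ?_, rfl⟩
    have h3 : σ ^ 3 = 1 := by rw [← hσ.orderOf]; exact pow_orderOf_eq_one σ
    have h4 : (⟨σ, hσ.mem_alternatingGroup⟩ : alternatingGroup α) =
        ((⟨σ, hσ.mem_alternatingGroup⟩ : alternatingGroup α) ^ 2) ^ 2 := by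
      apply Subtype.ext
      show σ = (σ ^ 2) ^ 2
      rw [← pow_mul]
      calc σ = σ ^ 3 * σ := by rw [h3, one_mul]
        _ = σ ^ (2 * 2) := by rw [← pow_succ]
    rw [SetLike.mem_coe, h4]
    exact h1 _
  have h5 : H = ⊤ := by
    rw [eq_top_iff]
    intro g _
    obtain ⟨g', hg', hgg⟩ := h2 g.2
    have : g' = g := Subtype.ext hgg
    rwa [this] at hg'
  rw [h5] at h
  simp at h

/-- transported version -/
theorem no_index_two_of_alt {G : Type*} [Group G] {α : Type*} [Fintype α] [DecidableEq α]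
    (N M : Subgroup G) [Finite M] (hNM : N ≤ M) (e : M ≃* alternatingGroup α)
    (h : Nat.card M = 2 * Nat.card N) : False := by
  apply alt_index_ne_two ((N.subgroupOf M).map e.toMonoidHom)
  have h1 : Nat.card ((N.subgroupOf M).map e.toMonoidHom) = Nat.card N := by
    rw [← Nat.card_congr ((N.subgroupOf M).equivMapOfInjective e.toMonoidHom e.injective).toEquiv,
      Nat.card_congr (Subgroup.subgroupOfEquivOfLe hNM).toEquiv]
  have h2 := ((N.subgroupOf M).map e.toMonoidHom).card_mul_index
  rw [h1, ← Nat.card_congr e.toEquiv, h] at h2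
  have h3 : 0 < Nat.card N := by
    haveI : Finite N := Finite.of_injective (Subgroup.inclusion hNM) (Subgroup.inclusion_injective hNM)
    exact Nat.card_pos
  have h4 : Nat.card N * ((N.subgroupOf M).map e.toMonoidHom).index = Nat.card N * 2 := by
    rw [h2]; ring
  exact Nat.eq_of_mul_eq_mul_left h3 h4

theorem isCoatom_of_card {G : Type*} [Group G] [Finite G] (N : Subgroup G) (hN : N ≠ ⊤)
    (h : ∀ M : Subgroup G, N ≤ M → M ≠ ⊤ → Nat.card M ≤ Nat.card N) : IsCoatom N := by
  refine ⟨hN, fun M hM => ?_⟩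
  by_contra hcon
  exact hM.ne (Subgroup.eq_of_le_of_card_ge hM.le (h M hM.le hcon))

/-- element orders in `PGL₂(K)` -/
theorem pgl2_orderOf_dvd {K : Type*} [Field K] [Fintype K] (p : ℕ) [Fact p.Prime] [CharP K p]
    (x : Matrix.ProjGenLinGroup (Fin 2) K) :
    orderOf x ∣ p ∨ orderOf x ∣ Fintype.card K - 1 ∨ orderOf x ∣ Fintype.card K + 1 := by
  classical
  have hq1 : 1 ≤ Fintype.card K := Fintype.card_pos
  have hd1 : Nat.gcd 2 (Fintype.card K - 1) ∣ Fintype.card K - 1 := Nat.gcd_dvd_right _ _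
  have hd2 := gcd_two_dvd_add (Fintype.card K) hq1
  have hinj := Matrix.ProjectiveSpecialLinearGroup.toPGL_injective (n := Fin 2) (R := K)
  induction x using Matrix.ProjGenLinGroup.induction_on with | mk g =>
  by_cases hp2 : p = 2
  · subst hp2
    have hsq : IsSquare (g.det : K) :=
      FiniteField.isSquare_of_char_two ((ringChar.eq_iff).2 inferInstance) _
    obtain ⟨y, hy⟩ := Cfsg.Agent.Lib.Helper14.pgl2_mk_mem_range g hsq
    rw [← hy, orderOf_injective _ hinj]
    rcases psl2_orderOf_dvd 2 y with h | h | h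
    · exact Or.inl h
    · exact Or.inr (Or.inl (h.trans (Nat.div_dvd_of_dvd hd1)))
    · exact Or.inr (Or.inr (h.trans (Nat.div_dvd_of_dvd hd2)))
  · have hodd : Odd (Fintype.card K) := by
      obtain ⟨n, -, hn⟩ := FiniteField.card K p
      rw [hn]
      exact ((Fact.out : p.Prime).odd_of_ne_two hp2).pow
    have hgcd : Nat.gcd 2 (Fintype.card K - 1) = 2 := by
      obtain ⟨a, ha⟩ := hodd
      exact Nat.gcd_eq_left ⟨a, by omega⟩
    have hsq : IsSquare ((g * g).det : K) := ⟨(g.det : K), by rw [map_mul]; rfl⟩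
    obtain ⟨y, hy⟩ := Cfsg.Agent.Lib.Helper14.pgl2_mk_mem_range (g * g) hsq
    have hy' : Matrix.ProjectiveSpecialLinearGroup.toPGL y = (Matrix.ProjGenLinGroup.mk g) ^ 2 := by
      rw [hy, sq, map_mul]
    have hpow : ∀ j : ℕ, orderOf y ∣ j → (Matrix.ProjGenLinGroup.mk g) ^ (2 * j) = 1 := by
      intro j hj
      rw [pow_mul, ← hy', ← map_pow, orderOf_dvd_iff_pow_eq_one.1 hj, map_one]
    rw [hgcd] at hd1 hd2
    rcases psl2_orderOf_dvd p y with h | h | h
    · -- the unipotent case
      have h1 := hpow p h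
      let L := AlgebraicClosure K
      haveI : CharP L p := charP_of_injective_algebraMap (algebraMap K L).injective p
      let φ := Matrix.ProjGenLinGroup.map (n := Fin 2) (algebraMap K L)
      have hφ : Function.Injective φ := Cfsg.Agent.Lib.Helper14.pgl2_map_injective _
      have hA : Mob (Matrix.ProjGenLinGroup (Fin 2) L) (OnePoint L) := pgl_mob
      set a := φ (Matrix.ProjGenLinGroup.mk g) with ha
      have h2 : (a ^ 2) ^ p = 1 := by rw [← pow_mul, ha, ← map_pow, h1, map_one]
      by_cases ha2 : a ^ 2 = 1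
      · right; left
        have h3 : (Matrix.ProjGenLinGroup.mk g) ^ 2 = 1 := hφ (by rw [map_pow, map_one]; exact ha2)
        exact (orderOf_dvd_of_pow_eq_one h3).trans hd1
      · left
        have hu : Uni (OnePoint L) (a ^ 2) := by
          by_contra hcon
          obtain ⟨x, y, hxy, hx, hy, -⟩ := hA.exists_two_fix hcon
          exact ha2 (pgl_semi_pow p _ x y hx hy hxy h2)
        obtain ⟨z, hz⟩ := hA.exists_fix (a ^ 2)
        have haz : a • z = z := by
          have h3 : (a ^ 2) • (a • z) = a • z := by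
            rw [← mul_smul, ← pow_succ, pow_succ', mul_smul, hz]
          rcases hu with h4 | h4
          · exact absurd h4 ha2
          · exact h4 _ _ h3 hz
        have hua : Uni (OnePoint L) a :=
          hA.uni_of_commute (x := z) (u := a ^ 2) ⟨hz, hu⟩ ha2 haz (by rw [← pow_succ, ← pow_succ'])
        have h5 : a ^ p = 1 := pgl_par_pow p a hua
        apply orderOf_dvd_of_pow_eq_one
        exact hφ (by rw [map_pow, map_one]; exact h5)
    · right; left
      rw [hgcd] at h
      have := hpow _ h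
      rw [Nat.mul_div_cancel' hd1] at this
      exact orderOf_dvd_of_pow_eq_one this
    · right; right
      rw [hgcd] at h
      have := hpow _ h
      rw [Nat.mul_div_cancel' hd2] at this
      exact orderOf_dvd_of_pow_eq_one this

end Cfsg.Agent.Lib.Helper41.Dickson
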