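import Cfsg.Agent.Lib.Helper41.Dickson.PrimeExp
import Cfsg.Agent.Lib.Helper41.Dickson.MaxTools

/-!
# Tools for the maximal subgroups of `PSL₂(2^n)`
-/

set_option autoImplicit false
set_option linter.style.haveILetI false
set_option linter.unusedSectionVars false
set_option linter.unusedSimpArgs false

namespace Cfsg.Agent.Lib.Helper41.Dickson

open Matrix
open Cfsg.Agent.Lib.Helper41

variable {F : Type*} [Field F] [Fintype F]

local notation "SL2" => Matrix.SpecialLinearGroup (Fin 2) F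
local notation "PSL2" => Matrix.ProjectiveSpecialLinearGroup (Fin 2) F
local notation "M2" => Matrix (Fin 2) (Fin 2) F

theorem charTwo_of_even (heven : Even (Fintype.card F)) : CharP F 2 := by
  have h := (FiniteField.even_card_iff_char_two (F := F)).2 (Nat.even_iff.1 heven)
  exact h ▸ ringChar.charP F

theorem gcd_two_of_even {q : ℕ} (heven : Even q) (hq : 1 ≤ q) : Nat.gcd 2 (q - 1) = 1 := by
  obtain ⟨a, ha⟩ := heven
  have h1 : ¬ 2 ∣ q - 1 := by omega
  exact (Nat.Prime.coprime_iff_not_dvd Nat.prime_two).2 h1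

/-- maximal subgroups inside a Borel subgroup -/
theorem card_of_le_normalizer (p : ℕ) [Fact p.Prime] [CharP F p] (M : Subgroup PSL2)
    (hM : IsCoatom M) (P : Sylow p PSL2)
    (h : M ≤ Subgroup.normalizer ((P : Subgroup PSL2) : Set PSL2)) :
    Nat.gcd 2 (Fintype.card F - 1) * Nat.card M = Fintype.card F * (Fintype.card F - 1) := by
  obtain ⟨h1, -, h3, -⟩ := borel_package p P
  rcases hM.le_iff.1 h with h4 | h4
  · rw [h4, Subgroup.index_top] at h1
    have : 0 < Fintype.card F := Fintype.card_pos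
    omega
  · rw [← h4]; exact h3

theorem card_of_pgroup (p : ℕ) [Fact p.Prime] [CharP F p] (M : Subgroup PSL2)
    (hM : IsCoatom M) (h : IsPGroup p M) :
    Nat.gcd 2 (Fintype.card F - 1) * Nat.card M = Fintype.card F * (Fintype.card F - 1) := by
  obtain ⟨P, hP⟩ := h.exists_le_sylow
  exact card_of_le_normalizer p M hM P (hP.trans Subgroup.le_normalizer)

/-- maximal subgroups with a normal cyclic `p'`-subgroup are the torus normalisers -/
theorem dihedral_of_normal_cyclic (p : ℕ) [Fact p.Prime] [CharP F p] (h4 : 4 ≤ Fintype.card F)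
    (M : Subgroup PSL2) (hM : IsCoatom M) (c : PSL2) (hc : c ^ p ≠ 1)
    (hn : ∀ g ∈ M, g * c * g⁻¹ ∈ Subgroup.zpowers c) :
    ∃ k : ℕ, (Nat.gcd 2 (Fintype.card F - 1) * k = Fintype.card F - 1 ∨
        Nat.gcd 2 (Fintype.card F - 1) * k = Fintype.card F + 1) ∧
      Nonempty (M ≃* DihedralGroup k) := by
  obtain ⟨N, k, t, hk, ⟨e⟩, -, -, hct, hN⟩ := torus_package p c hc
  have hc1 : c ≠ 1 := by
    rintro rfl
    exact hc (one_pow _)
  have hle : M ≤ N := by
    intro g hg
    refine hN g c hct hc1 ?_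
    have : Subgroup.zpowers c ≤ Subgroup.zpowers t := by
      rw [Subgroup.zpowers_le]; exact hct
    exact this (hn g hg)
  have hd0 : 0 < Nat.gcd 2 (Fintype.card F - 1) := Nat.gcd_pos_of_pos_left _ (by norm_num)
  have hd2 : Nat.gcd 2 (Fintype.card F - 1) ≤ 2 := Nat.gcd_le_left _ (by norm_num)
  have hk0 : k ≠ 0 := by
    rintro rfl
    omega
  haveI : NeZero k := ⟨hk0⟩
  rcases hM.le_iff.1 hle with h | h
  · exfalso
    have h1 : Nat.card N = 2 * k := by
      rw [Nat.card_congr e.toEquiv, DihedralGroup.nat_card]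
    rw [h, Subgroup.card_top] at h1
    have h2 := natCard_PSL2 F
    rw [Nat.card_eq_fintype_card (α := F), h1] at h2
    set q := Fintype.card F with hq
    have h3 : Nat.gcd 2 (q - 1) * k ≤ q + 1 := by omega
    have h5 : q * (q ^ 2 - 1) ≤ 2 * (q + 1) := by
      rw [← h2]
      calc Nat.gcd 2 (q - 1) * (2 * k) = 2 * (Nat.gcd 2 (q - 1) * k) := by ring
        _ ≤ 2 * (q + 1) := by omega
    have h6 : q ^ 2 - 1 = (q - 1) * (q + 1) := by
      obtain ⟨r, hr⟩ : ∃ r, q = r + 1 := ⟨q - 1, by omega⟩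
      rw [hr]
      simp only [Nat.add_sub_cancel]
      have : (r + 1) ^ 2 = r * (r + 1 + 1) + 1 := by ring
      rw [this]; simp
    rw [h6] at h5
    have h7 : 4 * (3 * (q + 1)) ≤ q * ((q - 1) * (q + 1)) := by
      apply Nat.mul_le_mul h4
      apply Nat.mul_le_mul_right
      omega
    omega
  · exact ⟨k, hk, ⟨(MulEquiv.subgroupCongr h.symm).trans e⟩⟩

/-- conjugates of the rotation in a dihedral group -/
theorem dihedral_conj_r (k : ℕ) (x : DihedralGroup k) :
    x * DihedralGroup.r 1 * x⁻¹ ∈ Subgroup.zpowers (DihedralGroup.r (1 : ZMod k)) := by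
  rcases x with i | i
  · refine ⟨1, ?_⟩
    simp
  · refine ⟨-1, ?_⟩
    simp

theorem dihedral_sq_of_r_sq (k : ℕ) (h : (DihedralGroup.r (1 : ZMod k)) ^ 2 = 1)
    (x : DihedralGroup k) : x ^ 2 = 1 := by
  rcases x with i | i
  · have h1 : DihedralGroup.r i = (DihedralGroup.r (1 : ZMod k)) ^ (i.cast : ℤ) := by
      rw [DihedralGroup.r_one_zpow]
      simp
    rw [h1, ← zpow_natCast, ← _root_.zpow_mul, mul_comm, _root_.zpow_mul, zpow_natCast, h, _root_.one_zpow]
  · simp [sq]

/-- in characteristic two `PSL₂ ≃ PGL₂` -/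
theorem psl_equiv_pgl_of_even (K : Type*) [Field K] [Finite K] (heven : Even (Nat.card K)) :
    Nonempty (Matrix.ProjectiveSpecialLinearGroup (Fin 2) K ≃* Matrix.ProjGenLinGroup (Fin 2) K) := by
  have hinj := Matrix.ProjectiveSpecialLinearGroup.toPGL_injective (n := Fin 2) (R := K)
  have h1 := natCard_PSL2 K
  have hK : 1 ≤ Nat.card K := Nat.one_le_iff_ne_zero.2 (Nat.card_pos).ne'
  rw [gcd_two_of_even heven hK, one_mul, ← natCard_PGL2 K] at h1
  haveI : Finite (Matrix.ProjGenLinGroup (Fin 2) K) := by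
    apply Nat.finite_of_card_ne_zero
    rw [natCard_PGL2]
    have h2 : 2 ≤ Nat.card K := Finite.one_lt_card
    have h3 : 4 ≤ Nat.card K ^ 2 := by nlinarith
    exact Nat.mul_ne_zero (by omega) (by omega)
  have hbij := (Nat.bijective_iff_injective_and_card _).2 ⟨hinj, h1⟩
  exact ⟨MulEquiv.ofBijective _ hbij⟩

end Cfsg.Agent.Lib.Helper41.Dickson
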