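import Cfsg.Agent.Lib.Helper41.Dickson.Torus

/-!
# Group-theoretic packages for `PSL₂(F)`: Borel subgroups and torus normalisers
-/

set_option autoImplicit false
set_option linter.style.haveILetI false
set_option linter.unusedSectionVars false
set_option linter.unusedSimpArgs false

namespace Cfsg.Agent.Lib.Helper41.Dickson

open Matrix OnePoint MulAction
open scoped MatrixGroups

variable {F : Type*} [Field F] [Fintype F] (p : ℕ) [Fact p.Prime] [CharP F p]

local notation "G" => Matrix.ProjectiveSpecialLinearGroup (Fin 2) F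

theorem borel_package (P : Sylow p G) :
    (Subgroup.normalizer ((P : Subgroup G) : Set G)).index = Fintype.card F + 1 ∧
    Nat.card P = Fintype.card F ∧
    Nat.gcd 2 (Fintype.card F - 1) * Nat.card (Subgroup.normalizer ((P : Subgroup G) : Set G)) =
      Fintype.card F * (Fintype.card F - 1) ∧
    (∀ a ∈ Subgroup.normalizer ((P : Subgroup G) : Set G),
      ∀ b ∈ Subgroup.normalizer ((P : Subgroup G) : Set G), a * b * a⁻¹ * b⁻¹ ∈ P) ∧
    (∀ a ∈ P, ∀ b ∈ P, a * b = b * a) ∧ (∀ a ∈ P, a ^ p = 1) := by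
  classical
  letI := pslAct F (AlgebraicClosure F)
  obtain ⟨x, -, hP, hN, hq, hn, he⟩ := borel_geom (F := F) (L := AlgebraicClosure F) p P
  set hG := psl_mob (F := F) (L := AlgebraicClosure F)
  have hmem : ∀ a : G, a ∈ P ↔ a ∈ hG.Q x := by
    intro a
    rw [← hP]; rfl
  refine ⟨?_, ?_, ?_, ?_, ?_, ?_⟩
  · rw [hN]; exact hn
  · rw [← hq]
    show Nat.card (P : Subgroup G) = _
    rw [hP]; rfl
  · rw [hN]; exact he
  · rw [hN]
    intro a ha b hb
    rw [hmem]
    have ha' : a • x = x := ha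
    have hb' : b • x = x := hb
    refine ⟨?_, hG.comm_uni a b x ha hb⟩
    rw [mul_smul, mul_smul, mul_smul, smul_eq_iff_inv.2 hb', smul_eq_iff_inv.2 ha', hb', ha']
  · intro a ha b hb
    rw [hmem] at ha hb
    exact hG.uni_comm a b x ha.1 hb.1 ha.2 hb.2
  · intro a ha
    rw [hmem] at ha
    exact psl_par_pow p a ha.2

theorem torus_package (c : G) (hc : c ^ p ≠ 1) :
    ∃ (N : Subgroup G) (k : ℕ) (t : G),
      (Nat.gcd 2 (Fintype.card F - 1) * k = Fintype.card F - 1 ∨
        Nat.gcd 2 (Fintype.card F - 1) * k = Fintype.card F + 1) ∧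
      Nonempty (N ≃* DihedralGroup k) ∧ t ∈ N ∧ orderOf t = k ∧ c ∈ Subgroup.zpowers t ∧
      (∀ g : G, ∀ a ∈ Subgroup.zpowers t, a ≠ 1 → g * a * g⁻¹ ∈ Subgroup.zpowers t → g ∈ N) := by
  classical
  letI := pslAct F (AlgebraicClosure F)
  set hG := psl_mob (F := F) (L := AlgebraicClosure F)
  have hcu : ¬ Uni (OnePoint (AlgebraicClosure F)) c := fun h => hc (psl_par_pow p c h)
  obtain ⟨x, y, hxy, hx, hy, ⟨w, hw, hw'⟩, hk⟩ := torus_geom (F := F) (L := AlgebraicClosure F) c hcu
  haveI hcyc : IsCyclic (stabilizer G x ⊓ stabilizer G y : Subgroup G) :=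
    hG.cyclic x y hxy _ inferInstance (fun a ha => ⟨ha.1, ha.2⟩)
  obtain ⟨⟨t, ht⟩, hgen⟩ := IsCyclic.exists_generator
    (α := (stabilizer G x ⊓ stabilizer G y : Subgroup G))
  have hord : orderOf t = Nat.card (stabilizer G x ⊓ stabilizer G y : Subgroup G) := by
    rw [← Subgroup.orderOf_mk t ht, orderOf_eq_card_of_forall_mem_zpowers hgen]
  have hz : ∀ a : G, a ∈ Subgroup.zpowers t ↔ a • x = x ∧ a • y = y := by
    intro a
    constructor
    · intro ha
      have : Subgroup.zpowers t ≤ (stabilizer G x ⊓ stabilizer G y : Subgroup G) := by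
        rw [Subgroup.zpowers_le]; exact ht
      exact this ha
    · intro ha
      obtain ⟨j, hj⟩ := Subgroup.mem_zpowers_iff.1 (hgen ⟨a, ha⟩)
      exact ⟨j, by simpa using congrArg Subtype.val hj⟩
  refine ⟨Mob.pairStab G x y, _, t, hk, hG.pairStab_dihedral x y hxy w hw hw',
    Or.inl ⟨ht.1, ht.2⟩, hord, (hz c).2 ⟨hx, hy⟩, ?_⟩
  intro g a ha ha1 hga
  rw [hz] at ha hga
  have h1 : a • (g⁻¹ • x) = g⁻¹ • x := conj_smul_iff.1 hga.1
  have h2 : a • (g⁻¹ • y) = g⁻¹ • y := conj_smul_iff.1 hga.2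
  have key : ∀ z : OnePoint (AlgebraicClosure F), a • z = z → z = x ∨ z = y := by
    intro z hz'
    by_contra hcon
    push Not at hcon
    exact ha1 (hG.three_fix a x y z ha.1 ha.2 hz' hxy (Ne.symm hcon.1) (Ne.symm hcon.2))
  have hinj : g⁻¹ • x ≠ g⁻¹ • y := fun h => hxy (smul_left_cancel _ h)
  apply (Mob.pairStab G x y).inv_mem_iff.1
  rcases key _ h1 with h3 | h3 <;> rcases key _ h2 with h4 | h4
  · exact absurd (h3.trans h4.symm) hinj
  · exact Or.inl ⟨h3, h4⟩
  · exact Or.inr ⟨h3, h4⟩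
  · exact absurd (h3.trans h4.symm) hinj

omit [Fact p.Prime] [CharP F p] in
theorem exists_orderOf_plus :
    ∃ c : G, Nat.gcd 2 (Fintype.card F - 1) * orderOf c = Fintype.card F + 1 := by
  classical
  letI := pslAct F (AlgebraicClosure F)
  set hG := psl_mob (F := F) (L := AlgebraicClosure F)
  obtain ⟨x₁, -, he₁, hq₁, -⟩ := nonsplit_orbit (F := F) (L := AlgebraicClosure F)
  haveI := hG.stab_cyclic hq₁
  obtain ⟨⟨c, hc⟩, hgen⟩ := IsCyclic.exists_generator (α := stabilizer G x₁)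
  refine ⟨c, ?_⟩
  rw [← Subgroup.orderOf_mk c hc, orderOf_eq_card_of_forall_mem_zpowers hgen]
  exact he₁

omit [Fact p.Prime] [CharP F p] in
theorem exists_orderOf_minus :
    ∃ c : G, Nat.gcd 2 (Fintype.card F - 1) * orderOf c = Fintype.card F - 1 := by
  classical
  letI := pslAct F (AlgebraicClosure F)
  set hG := psl_mob (F := F) (L := AlgebraicClosure F)
  set x : OnePoint (AlgebraicClosure F) := ∞
  set y : OnePoint (AlgebraicClosure F) := ((algebraMap F (AlgebraicClosure F) 0 : AlgebraicClosure F) :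
    OnePoint (AlgebraicClosure F))
  have hxy : x ≠ y := OnePoint.infty_ne_coe _
  haveI hcyc : IsCyclic (stabilizer G x ⊓ stabilizer G y : Subgroup G) :=
    hG.cyclic x y hxy _ inferInstance (fun a ha => ⟨ha.1, ha.2⟩)
  obtain ⟨⟨t, ht⟩, hgen⟩ := IsCyclic.exists_generator
    (α := (stabilizer G x ⊓ stabilizer G y : Subgroup G))
  refine ⟨t, ?_⟩
  rw [← Subgroup.orderOf_mk t ht, orderOf_eq_card_of_forall_mem_zpowers hgen]
  have h1 := hG.card_two_point x (by rw [n_infty, qq_infty]) y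
    (by rw [orbit_infty]; exact coe_mem_ratPts _) (Ne.symm hxy)
  rw [qq_infty] at h1
  have he := card_mul_eq (F := F) (L := AlgebraicClosure F)
  rw [← h1] at he
  have h2 : Fintype.card F * (Nat.gcd 2 (Fintype.card F - 1) *
      Nat.card (stabilizer G x ⊓ stabilizer G y : Subgroup G)) =
      Fintype.card F * (Fintype.card F - 1) := by
    rw [← he]; ring
  exact Nat.eq_of_mul_eq_mul_left Fintype.card_pos h2

end Cfsg.Agent.Lib.Helper41.Dickson
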