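import Cfsg.Agent.Lib.Helper41.Dickson.MaxTools

/-!
# Proper subgroups of `PSL₂(F)` containing a given semisimple element
-/

set_option autoImplicit false
set_option linter.style.haveILetI false
set_option linter.unusedSectionVars false
set_option linter.unusedSimpArgs false

namespace Cfsg.Agent.Lib.Helper41.Dickson

open Matrix
open scoped MatrixGroups

variable {F : Type*} [Field F] [Fintype F]

local notation "G" => Matrix.ProjectiveSpecialLinearGroup (Fin 2) F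

theorem orderOf_equiv_mk {G' M' : Type*} [Group G'] [Group M'] (M : Subgroup G') (e : M ≃* M')
    (t : G') (ht : t ∈ M) : orderOf (e ⟨t, ht⟩) = orderOf t := by
  rw [e.orderOf_eq, Subgroup.orderOf_mk]

theorem dickson_proper (p : ℕ) [Fact p.Prime] [CharP F p] (M : Subgroup G) (hM : M ≠ ⊤) (t : G)
    (ht : t ∈ M) (htp : t ^ p ≠ 1) :
    (IsCyclic M ∧ (Nat.gcd 2 (Fintype.card F - 1) * Nat.card M ∣ Fintype.card F - 1 ∨
      Nat.gcd 2 (Fintype.card F - 1) * Nat.card M ∣ Fintype.card F + 1)) ∨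
    (∃ k : ℕ, (Nat.gcd 2 (Fintype.card F - 1) * k ∣ Fintype.card F - 1 ∨
      Nat.gcd 2 (Fintype.card F - 1) * k ∣ Fintype.card F + 1) ∧
      Nonempty (M ≃* DihedralGroup k) ∧ Nat.card M = 2 * k) ∨
    (∃ P : Sylow p G, M ≤ Subgroup.normalizer ((P : Subgroup G) : Set G)) ∨
    (Nonempty (M ≃* alternatingGroup (Fin 4)) ∧ Nat.card M = 12 ∧
      (orderOf t ∣ 2 ∨ orderOf t ∣ 3)) ∨
    (Nonempty (M ≃* Equiv.Perm (Fin 4)) ∧ Nat.card M = 24 ∧
      (orderOf t ∣ 2 ∨ orderOf t ∣ 3 ∨ orderOf t ∣ 4)) ∨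
    (Nonempty (M ≃* alternatingGroup (Fin 5)) ∧ Nat.card M = 60 ∧
      (orderOf t ∣ 2 ∨ orderOf t ∣ 3 ∨ orderOf t ∣ 5)) ∨
    (∃ (K : Subfield F) (m : ℕ), 2 ≤ m ∧ Fintype.card F = Nat.card K ^ m ∧ 2 ≤ Nat.card K ∧
      ((Nonempty (M ≃* Matrix.ProjectiveSpecialLinearGroup (Fin 2) K) ∧
        Nat.gcd 2 (Fintype.card F - 1) * Nat.card M = Nat.card K * (Nat.card K ^ 2 - 1) ∧
        (Nat.gcd 2 (Fintype.card F - 1) * orderOf t ∣ Nat.card K - 1 ∨
          Nat.gcd 2 (Fintype.card F - 1) * orderOf t ∣ Nat.card K + 1)) ∨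
      (Nonempty (M ≃* Matrix.ProjGenLinGroup (Fin 2) K) ∧
        Nat.card M = Nat.card K * (Nat.card K ^ 2 - 1) ∧
        (orderOf t ∣ Nat.card K - 1 ∨ orderOf t ∣ Nat.card K + 1)))) := by
  have hnp : ¬ orderOf t ∣ p := fun h => htp (orderOf_dvd_iff_pow_eq_one.1 h)
  have hg := natCard_PSL2 F
  rw [Nat.card_eq_fintype_card] at hg
  have hd0 : 0 < Nat.gcd 2 (Fintype.card F - 1) := Nat.gcd_pos_of_pos_left _ (by norm_num)
  have hne : Nat.card M ≠ Nat.card G := fun h => hM (Subgroup.eq_top_of_card_eq M h)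
  rcases dickson_card p M with h | h | h | ⟨⟨e⟩, h⟩ | ⟨⟨e⟩, h⟩ | ⟨⟨e⟩, h⟩ |
    ⟨K, m, hm, hqm, hK2, hK⟩
  · exact Or.inl h
  · exact Or.inr (Or.inl h)
  · exact Or.inr (Or.inr (Or.inl h))
  · refine Or.inr (Or.inr (Or.inr (Or.inl ⟨⟨e⟩, h, ?_⟩)))
    rw [← orderOf_equiv_mk M e t ht]; exact orderOf_of_alt_four (MulEquiv.refl _) _
  · refine Or.inr (Or.inr (Or.inr (Or.inr (Or.inl ⟨⟨e⟩, h, ?_⟩))))
    rw [← orderOf_equiv_mk M e t ht]; exact orderOf_of_perm_four (MulEquiv.refl _) _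
  · refine Or.inr (Or.inr (Or.inr (Or.inr (Or.inr (Or.inl ⟨⟨e⟩, h, ?_⟩)))))
    rw [← orderOf_equiv_mk M e t ht]; exact orderOf_of_alt_five (MulEquiv.refl _) _
  · refine Or.inr (Or.inr (Or.inr (Or.inr (Or.inr (Or.inr ?_)))))
    have hm2 : 2 ≤ m := by
      by_contra hcon
      have hm1 : m = 1 := by omega
      subst hm1
      rw [pow_one] at hqm
      rw [← hqm] at hK
      rcases hK with ⟨-, h⟩ | ⟨-, h⟩
      · rw [← hg] at h
        exact hne (Nat.eq_of_mul_eq_mul_left hd0 h)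
      · rw [← hg] at h
        have h1 : Nat.card M ≤ Nat.card G := Subgroup.card_le_card_group M
        have h2 : Nat.card G ≤ Nat.gcd 2 (Fintype.card F - 1) * Nat.card G :=
          Nat.le_mul_of_pos_left _ hd0
        omega
    haveI : CharP K p := RingHom.charP K.subtype K.subtype.injective p
    haveI := Fintype.ofFinite K
    have hgcd : Nat.gcd 2 (Fintype.card F - 1) = Nat.gcd 2 (Nat.card K - 1) := by
      rw [hqm, gcd_two_pow _ _ (by omega) hm]
    have hd1 : Nat.gcd 2 (Nat.card K - 1) ∣ Nat.card K - 1 := Nat.gcd_dvd_right _ _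
    have hd2 := gcd_two_dvd_add (Nat.card K) (by omega)
    refine ⟨K, m, hm2, hqm, hK2, ?_⟩
    rcases hK with ⟨⟨e⟩, h⟩ | ⟨⟨e⟩, h⟩
    · left
      refine ⟨⟨e⟩, h, ?_⟩
      rw [← orderOf_equiv_mk M e t ht, hgcd]
      rcases psl2_orderOf_dvd p (e ⟨t, ht⟩) with h1 | h1 | h1
      · rw [orderOf_equiv_mk M e t ht] at h1; exact absurd h1 hnp
      · left
        rw [← Nat.card_eq_fintype_card] at h1
        exact Nat.mul_dvd_of_dvd_div hd1 h1
      · right
        rw [← Nat.card_eq_fintype_card] at h1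
        exact Nat.mul_dvd_of_dvd_div hd2 h1
    · right
      refine ⟨⟨e⟩, h, ?_⟩
      rw [← orderOf_equiv_mk M e t ht]
      rcases pgl2_orderOf_dvd p (e ⟨t, ht⟩) with h1 | h1 | h1
      · rw [orderOf_equiv_mk M e t ht] at h1; exact absurd h1 hnp
      · left
        rw [← Nat.card_eq_fintype_card] at h1
        exact h1
      · right
        rw [← Nat.card_eq_fintype_card] at h1
        exact h1

end Cfsg.Agent.Lib.Helper41.Dickson
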