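import Mathlib
import Cfsg.Agent.Lib.Helper41.SL2Basic

/-!
# The trace field of a subgroup of `PSL₂(F)` and the subgroup spanned over a subfield

* `trace_frob` : `tr(X)^(p^j) = X^(p^j) + X^(-p^j)` in characteristic `p`.
* `spanSub K M` : the subgroup of `PSL₂(F)` of the elements with a lift in the `K`-span of the lifts
  of `M`, where `K` is a subfield containing the traces of the lifts of `M`.
* `card_dvd_of_isCoatom` : a maximal subgroup `M` with an element of order `p` whose traces lie in a
  proper subfield `K` has order divisible by `|K|`.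
-/

set_option autoImplicit false
set_option linter.unusedSectionVars false
set_option linter.unusedSimpArgs false

namespace Cfsg.Agent.Lib.Helper41.Dickson

open Matrix
open Cfsg.Agent.Lib.Helper41

variable {F : Type*} [Field F]

local notation "SL2" => Matrix.SpecialLinearGroup (Fin 2) F
local notation "PSL2" => Matrix.ProjectiveSpecialLinearGroup (Fin 2) F
local notation "M2" => Matrix (Fin 2) (Fin 2) F

theorem sl2_add_inv (X : SL2) :
    (X : M2) + ((X⁻¹ : SL2) : M2) = (Matrix.trace (X : M2)) • (1 : M2) := by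
  rw [Matrix.SpecialLinearGroup.coe_inv, Matrix.adjugate_fin_two]
  ext i j
  fin_cases i <;> fin_cases j <;> simp [Matrix.trace_fin_two, add_comm]

theorem trace_frob (p : ℕ) [Fact p.Prime] [CharP F p] (X : SL2) (j : ℕ) :
    (Matrix.trace (X : M2)) ^ p ^ j • (1 : M2) =
      ((X ^ p ^ j : SL2) : M2) + (((X⁻¹) ^ p ^ j : SL2) : M2) := by
  have h1 := sl2_add_inv X
  have hc : Commute (X : M2) ((X⁻¹ : SL2) : M2) := by
    show (X : M2) * ((X⁻¹ : SL2) : M2) = ((X⁻¹ : SL2) : M2) * (X : M2)
    rw [← Matrix.SpecialLinearGroup.coe_mul, ← Matrix.SpecialLinearGroup.coe_mul]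
    simp
  have h2 := add_pow_char_pow_of_commute p j hc
  rw [h1, smul_pow, one_pow] at h2
  rw [h2, Matrix.SpecialLinearGroup.coe_pow, Matrix.SpecialLinearGroup.coe_pow]

theorem smul_one_inj {a b : F} (h : a • (1 : M2) = b • (1 : M2)) : a = b := by
  have := congrFun (congrFun h 0) 0
  simpa using this

/-- if `X^(k+1) = 1` with `k = p^j` then `tr X` is fixed by `x ↦ x^k` -/
theorem trace_pow_of_pow_succ (p : ℕ) [Fact p.Prime] [CharP F p] (X : SL2) (j : ℕ)
    (h : X ^ (p ^ j + 1) = 1) : (Matrix.trace (X : M2)) ^ p ^ j = Matrix.trace (X : M2) := by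
  have h1 : X ^ p ^ j = X⁻¹ := by
    rw [pow_succ] at h
    exact eq_inv_of_mul_eq_one_left h
  have h2 : (X⁻¹) ^ p ^ j = X := by rw [inv_pow, h1, inv_inv]
  apply smul_one_inj
  rw [trace_frob p X j, h1, h2, ← sl2_add_inv X, add_comm]

/-- if `X^(k-1) = 1` with `k = p^j` then `tr X` is fixed by `x ↦ x^k` -/
theorem trace_pow_of_pow_pred (p : ℕ) [Fact p.Prime] [CharP F p] (X : SL2) (j : ℕ)
    (h : X ^ (p ^ j - 1) = 1) : (Matrix.trace (X : M2)) ^ p ^ j = Matrix.trace (X : M2) := by
  have hpos : 0 < p ^ j := pow_pos (Fact.out : p.Prime).pos _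
  have h1 : X ^ p ^ j = X := by
    obtain ⟨n, hn⟩ : ∃ n, p ^ j = n + 1 := ⟨p ^ j - 1, by omega⟩
    rw [hn] at h ⊢
    rw [pow_succ]
    simp only [Nat.add_sub_cancel] at h
    rw [h, one_mul]
  have h2 : (X⁻¹) ^ p ^ j = X⁻¹ := by rw [inv_pow, h1]
  apply smul_one_inj
  rw [trace_frob p X j, h1, h2, ← sl2_add_inv X]

/-- if `X^p = 1` then `tr X = 2` -/
theorem trace_eq_two_of_pow (p : ℕ) [Fact p.Prime] [CharP F p] (X : SL2) (h : X ^ p = 1) :
    Matrix.trace (X : M2) = 2 := by
  have h1 := trace_frob p X 1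
  rw [pow_one, inv_pow, h, inv_one] at h1
  have h2 : (Matrix.trace (X : M2)) ^ p = 2 := by
    apply smul_one_inj
    rw [h1]
    simp [two_smul]
  have h3 : (2 : F) ^ p = 2 := by
    have := map_natCast (frobenius F p) 2
    simpa [frobenius_def] using this
  have h4 : frobenius F p (Matrix.trace (X : M2)) = frobenius F p 2 := by
    rw [frobenius_def, frobenius_def, h2, h3]
  exact frobenius_inj F p h4

/-! ### the span -/

/-- the `K`-span of the lifts of `M` -/
def liftSpan (K : Subfield F) (M : Subgroup PSL2) : Submodule K M2 :=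
  Submodule.span K {A | ∃ X : SL2, (QuotientGroup.mk X : PSL2) ∈ M ∧ (X : M2) = A}

theorem coe_mem_liftSpan (K : Subfield F) (M : Subgroup PSL2) (X : SL2)
    (hX : (QuotientGroup.mk X : PSL2) ∈ M) : (X : M2) ∈ liftSpan K M :=
  Submodule.subset_span ⟨X, hX, rfl⟩

theorem liftSpan_mul (K : Subfield F) (M : Subgroup PSL2) {A B : M2} (hA : A ∈ liftSpan K M)
    (hB : B ∈ liftSpan K M) : A * B ∈ liftSpan K M := by
  unfold liftSpan at hA
  induction hA using Submodule.span_induction with
  | mem A hA =>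
    obtain ⟨X, hX, rfl⟩ := hA
    unfold liftSpan at hB
    induction hB using Submodule.span_induction with
    | mem B hB =>
      obtain ⟨Y, hY, rfl⟩ := hB
      rw [← Matrix.SpecialLinearGroup.coe_mul]
      exact coe_mem_liftSpan K M _ (by rw [QuotientGroup.mk_mul]; exact M.mul_mem hX hY)
    | zero => rw [mul_zero]; exact Submodule.zero_mem _
    | add B C _ _ hB hC => rw [mul_add]; exact Submodule.add_mem _ hB hC
    | smul c B _ hB => rw [Matrix.mul_smul]; exact Submodule.smul_mem _ _ hB
  | zero => rw [zero_mul]; exact Submodule.zero_mem _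
  | add A C _ _ hA hC => rw [add_mul]; exact Submodule.add_mem _ hA hC
  | smul c A _ hA => rw [Matrix.smul_mul]; exact Submodule.smul_mem _ _ hA

theorem trace_mem_of_liftSpan (K : Subfield F) (M : Subgroup PSL2)
    (htr : ∀ X : SL2, (QuotientGroup.mk X : PSL2) ∈ M → Matrix.trace (X : M2) ∈ K) {A : M2}
    (hA : A ∈ liftSpan K M) : Matrix.trace A ∈ K := by
  unfold liftSpan at hA
  induction hA using Submodule.span_induction with
  | mem A hA =>
    obtain ⟨X, hX, rfl⟩ := hA
    exact htr X hX
  | zero => rw [Matrix.trace_zero]; exact K.zero_mem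
  | add A C _ _ hA hC => rw [Matrix.trace_add]; exact K.add_mem hA hC
  | smul c A _ hA =>
    rw [Matrix.trace_smul]
    exact K.mul_mem c.2 hA

/-- the subgroup of `PSL₂(F)` of the elements with a lift in the span -/
def spanSub (K : Subfield F) (M : Subgroup PSL2)
    (htr : ∀ X : SL2, (QuotientGroup.mk X : PSL2) ∈ M → Matrix.trace (X : M2) ∈ K) :
    Subgroup PSL2 where
  carrier := {g | ∃ X : SL2, (QuotientGroup.mk X : PSL2) = g ∧ (X : M2) ∈ liftSpan K M}
  one_mem' := ⟨1, rfl, coe_mem_liftSpan K M 1 M.one_mem⟩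
  mul_mem' := by
    rintro _ _ ⟨X, rfl, hX⟩ ⟨Y, rfl, hY⟩
    refine ⟨X * Y, rfl, ?_⟩
    rw [Matrix.SpecialLinearGroup.coe_mul]
    exact liftSpan_mul K M hX hY
  inv_mem' := by
    rintro _ ⟨X, rfl, hX⟩
    refine ⟨X⁻¹, rfl, ?_⟩
    have h1 : ((X⁻¹ : SL2) : M2) = (Matrix.trace (X : M2)) • (1 : M2) - (X : M2) := by
      rw [← sl2_add_inv X]; abel
    rw [h1]
    refine Submodule.sub_mem _ ?_ hX
    have h2 := Submodule.smul_mem (liftSpan K M)
      (⟨_, trace_mem_of_liftSpan K M htr hX⟩ : K) (coe_mem_liftSpan K M 1 M.one_mem)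
    exact h2

theorem le_spanSub (K : Subfield F) (M : Subgroup PSL2)
    (htr : ∀ X : SL2, (QuotientGroup.mk X : PSL2) ∈ M → Matrix.trace (X : M2) ∈ K) :
    M ≤ spanSub K M htr := by
  intro g hg
  obtain ⟨X, rfl⟩ := QuotientGroup.mk_surjective g
  exact ⟨X, rfl, coe_mem_liftSpan K M X hg⟩

theorem psl2_mk_eq_iff (X Y : SL2) :
    (QuotientGroup.mk X : PSL2) = QuotientGroup.mk Y ↔ ((X : M2) = Y ∨ (X : M2) = -(Y : M2)) := by
  rw [QuotientGroup.eq, sl2_mem_center_iff, Matrix.SpecialLinearGroup.coe_mul]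
  have hX : (X : M2) * ((X⁻¹ : SL2) : M2) = 1 := by
    rw [← Matrix.SpecialLinearGroup.coe_mul]; simp
  constructor
  · rintro (h | h)
    · left
      calc (X : M2) = (X : M2) * (((X⁻¹ : SL2) : M2) * (Y : M2)) := by rw [h, mul_one]
        _ = Y := by rw [← mul_assoc, hX, one_mul]
    · right
      calc (X : M2) = -((X : M2) * (((X⁻¹ : SL2) : M2) * (Y : M2))) := by rw [h]; simp
        _ = -(Y : M2) := by rw [← mul_assoc, hX, one_mul]
  · have hX' : ((X⁻¹ : SL2) : M2) * (X : M2) = 1 := by
      rw [← Matrix.SpecialLinearGroup.coe_mul]; simp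
    rintro (h | h)
    · left; rw [← h, hX']
    · right
      have : (Y : M2) = -(X : M2) := by rw [h, neg_neg]
      rw [this, mul_neg, hX']

theorem spanSub_ne_top (K : Subfield F) (hK : K ≠ ⊤) (M : Subgroup PSL2)
    (htr : ∀ X : SL2, (QuotientGroup.mk X : PSL2) ∈ M → Matrix.trace (X : M2) ∈ K) :
    spanSub K M htr ≠ ⊤ := by
  intro htop
  obtain ⟨θ, hθ⟩ : ∃ θ : F, θ ∉ K := by
    by_contra hcon
    push Not at hcon
    exact hK (eq_top_iff.2 fun x _ => hcon x)
  obtain ⟨X₀, hX₀⟩ : ∃ g : SL2, (g : M2) = !![θ, -1; 1, 0] :=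
    ⟨⟨!![θ, -1; 1, 0], by simp [Matrix.det_fin_two]⟩, rfl⟩
  have h1 : (QuotientGroup.mk X₀ : PSL2) ∈ spanSub K M htr := by rw [htop]; trivial
  obtain ⟨X, hX, hXs⟩ := h1
  have h2 := trace_mem_of_liftSpan K M htr hXs
  rcases (psl2_mk_eq_iff X X₀).1 hX with h | h
  · rw [h, hX₀] at h2
    simp [Matrix.trace_fin_two] at h2
    exact hθ h2
  · rw [h, hX₀] at h2
    simp [Matrix.trace_fin_two] at h2
    exact hθ h2

/-- an element of order `p` of `PSL₂(F)` has a lift of trace `2` -/
theorem exists_lift_trace_two (p : ℕ) [Fact p.Prime] [CharP F p] (u : PSL2) (hup : u ^ p = 1) :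
    ∃ U : SL2, (QuotientGroup.mk U : PSL2) = u ∧ Matrix.trace (U : M2) = 2 := by
  obtain ⟨U, rfl⟩ := QuotientGroup.mk_surjective u
  rcases (psl2_pow_eq_one_iff U p).1 hup with h | h
  · refine ⟨U, rfl, trace_eq_two_of_pow p U ?_⟩
    apply Subtype.ext
    rw [Matrix.SpecialLinearGroup.coe_pow, h]; rfl
  · rcases (Fact.out : p.Prime).eq_two_or_odd' with h2 | h2
    · subst h2
      have h3 : (-1 : M2) = 1 := by
        have : (2 : F) = 0 := CharP.cast_eq_zero F 2
        ext i j
        fin_cases i <;> fin_cases j <;> simp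
        · linear_combination (-1 : F) * this
        · linear_combination (-1 : F) * this
      refine ⟨U, rfl, trace_eq_two_of_pow 2 U ?_⟩
      apply Subtype.ext
      rw [Matrix.SpecialLinearGroup.coe_pow, h, h3]; rfl
    · refine ⟨-U, ?_, trace_eq_two_of_pow p (-U) ?_⟩
      · rw [psl2_mk_eq_iff]
        right
        simp
      · apply Subtype.ext
        rw [Matrix.SpecialLinearGroup.coe_pow, Matrix.SpecialLinearGroup.coe_neg, h2.neg_pow, h]
        simp

/-- the one-parameter group through a matrix of trace `2` -/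
theorem exists_oneParam (U : SL2) (hU : Matrix.trace (U : M2) = 2) (t : F) :
    ∃ W : SL2, (W : M2) = (1 - t) • (1 : M2) + t • (U : M2) := by
  have hd := sl2_det U
  rw [Matrix.trace_fin_two] at hU
  refine ⟨⟨(1 - t) • (1 : M2) + t • (U : M2), ?_⟩, rfl⟩
  rw [Matrix.det_fin_two]
  simp
  linear_combination (t - t ^ 2) * hU + t ^ 2 * hd

/-- **Lemma A**: a maximal subgroup of `PSL₂(F)` with an element of order `p` and all traces in the
proper subfield `K` has order divisible by `|K|`. -/
theorem card_dvd_of_isCoatom (p : ℕ) [Fact p.Prime] [CharP F p] (M : Subgroup PSL2)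
    (hM : IsCoatom M) (K : Subfield F) (hK : K ≠ ⊤)
    (htr : ∀ X : SL2, (QuotientGroup.mk X : PSL2) ∈ M → Matrix.trace (X : M2) ∈ K)
    (u : PSL2) (hu : u ∈ M) (hu1 : u ≠ 1) (hup : u ^ p = 1) : Nat.card K ∣ Nat.card M := by
  have hS : spanSub K M htr = M := by
    rcases hM.le_iff.1 (le_spanSub K M htr) with h | h
    · exact absurd h (spanSub_ne_top K hK M htr)
    · exact h
  obtain ⟨U, rfl, hU⟩ := exists_lift_trace_two p u hup
  choose W hW using exists_oneParam U hU
  have hd := sl2_det U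
  have hU' := hU
  rw [Matrix.trace_fin_two] at hU'
  have hmul : ∀ s t : F, W (s + t) = W s * W t := by
    intro s t
    apply Subtype.ext
    rw [Matrix.SpecialLinearGroup.coe_mul, hW, hW, hW]
    have h2 := sl2_sq U
    rw [hU'] at h2
    simp only [add_mul, mul_add, Matrix.smul_mul, Matrix.mul_smul, one_mul, mul_one, h2, smul_sub,
      smul_smul, sub_smul, add_smul, one_smul, smul_add, mul_sub, sub_mul, mul_one, one_mul]
    ext i j
    fin_cases i <;> fin_cases j <;> simp <;> ring
  have hmem : ∀ t : K, (QuotientGroup.mk (W t) : PSL2) ∈ M := by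
    intro t
    rw [← hS]
    refine ⟨W t, rfl, ?_⟩
    rw [hW]
    exact Submodule.add_mem _
      (Submodule.smul_mem (liftSpan K M) (1 - t) (coe_mem_liftSpan K M 1 M.one_mem))
      (Submodule.smul_mem (liftSpan K M) t (coe_mem_liftSpan K M U hu))
  let φ : Multiplicative K →* M :=
    { toFun := fun t => ⟨QuotientGroup.mk (W (Multiplicative.toAdd t : K)), hmem _⟩
      map_one' := by
        apply Subtype.ext
        show (QuotientGroup.mk (W ((0 : K) : F)) : PSL2) = 1
        have : W ((0 : K) : F) = 1 := by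
          apply Subtype.ext
          rw [hW]; simp
        rw [this]; rfl
      map_mul' := by
        intro s t
        apply Subtype.ext
        show (QuotientGroup.mk (W ((Multiplicative.toAdd s + Multiplicative.toAdd t : K) : F)) : PSL2)
          = QuotientGroup.mk (W _) * QuotientGroup.mk (W _)
        rw [Subfield.coe_add, hmul]; rfl }
  have hinj : Function.Injective φ := by
    rw [injective_iff_map_eq_one]
    intro t ht
    have h1 : (QuotientGroup.mk (W (Multiplicative.toAdd t : K)) : PSL2) = QuotientGroup.mk 1 :=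
      congrArg Subtype.val ht
    set τ : F := ((Multiplicative.toAdd t : K) : F) with hτ
    have h2 : (W τ : M2) = 1 := by
      rcases (psl2_mk_eq_iff _ _).1 h1 with h | h
      · simpa using h
      · have h3 := congrArg Matrix.trace h
        rw [hW] at h3
        simp [Matrix.trace_fin_two] at h3
        have h4 : (2 : F) = 0 := by
          have h5 : (4 : F) = 0 := by linear_combination h3 - τ * hU'
          have h6 : (2 : F) * 2 = 0 := by linear_combination h5
          exact mul_self_eq_zero.1 h6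
        rw [h]
        ext i j
        fin_cases i <;> fin_cases j <;> simp
        · linear_combination (-1 : F) * h4
        · linear_combination (-1 : F) * h4
    have h3 : τ = 0 := by
      by_contra hne
      apply hu1
      have h4 : (U : M2) = 1 := by
        rw [hW] at h2
        have h5 : τ • (U : M2) = τ • (1 : M2) := by
          have : (1 - τ) • (1 : M2) + τ • (U : M2) = (1 - τ) • (1 : M2) + τ • (1 : M2) := by
            rw [h2, ← add_smul]; simp
          exact add_left_cancel this
        have h6 := congrArg (fun A => τ⁻¹ • A) h5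
        simpa [smul_smul, inv_mul_cancel₀ hne] using h6
      have : U = 1 := Subtype.ext h4
      rw [this]; rfl
    have h4 : (Multiplicative.toAdd t : K) = 0 := Subtype.ext h3
    exact h4
  have := Subgroup.card_dvd_of_injective φ hinj
  rwa [Nat.card_congr Multiplicative.toAdd] at this

/-! ### Fixed fields of powers of the Frobenius -/

/-- the subfield of the fixed points of `x ↦ x^(p^i)` -/
def frobFix (F : Type*) [Field F] (p : ℕ) [Fact p.Prime] [CharP F p] (i : ℕ) : Subfield F :=
  RingHom.eqLocusField (iterateFrobenius F p i) (RingHom.id F)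

theorem mem_frobFix (p : ℕ) [Fact p.Prime] [CharP F p] (i : ℕ) (x : F) :
    x ∈ frobFix F p i ↔ x ^ p ^ i = x := by
  show iterateFrobenius F p i x = RingHom.id F x ↔ _
  rw [iterateFrobenius_def]; rfl

theorem frobFix_ne_top [Fintype F] (p : ℕ) [Fact p.Prime] [CharP F p] (i : ℕ) (hi0 : i ≠ 0)
    (hi : p ^ i < Fintype.card F) : frobFix F p i ≠ ⊤ := by
  classical
  intro htop
  obtain ⟨ζ, hζ⟩ := IsCyclic.exists_generator (α := Fˣ)
  have h1 : orderOf ζ = Fintype.card F - 1 := by
    rw [orderOf_eq_card_of_forall_mem_zpowers hζ, Nat.card_eq_fintype_card, Fintype.card_units]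
  have h2 : (ζ : F) ^ p ^ i = ζ := by
    rw [← mem_frobFix, htop]; trivial
  have hpos : 1 < p ^ i := Nat.one_lt_pow hi0 (Fact.out : p.Prime).one_lt
  have h3 : ζ ^ (p ^ i - 1) = 1 := by
    apply Units.ext
    rw [Units.val_pow_eq_pow_val, Units.val_one]
    have h4 : (ζ : F) ^ (p ^ i - 1) * ζ = 1 * ζ := by
      rw [← pow_succ, Nat.sub_add_cancel hpos.le, h2, one_mul]
    exact mul_right_cancel₀ ζ.ne_zero h4
  have h5 := orderOf_dvd_of_pow_eq_one h3
  rw [h1] at h5
  have := Nat.le_of_dvd (by omega) h5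
  omega

theorem le_card_frobFix [Fintype F] (p : ℕ) [Fact p.Prime] [CharP F p] (i : ℕ)
    (hd : p ^ i - 1 ∣ Fintype.card F - 1) : p ^ i ≤ Nat.card (frobFix F p i) := by
  classical
  have hF : 1 < Fintype.card F := Fintype.one_lt_card
  have hpos : 0 < p ^ i := pow_pos (Fact.out : p.Prime).pos _
  obtain ⟨ζ, hζ⟩ := IsCyclic.exists_generator (α := Fˣ)
  have h1 : orderOf ζ = Fintype.card F - 1 := by
    rw [orderOf_eq_card_of_forall_mem_zpowers hζ, Nat.card_eq_fintype_card, Fintype.card_units]
  obtain ⟨c, hc⟩ := hd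
  have hc0 : c ≠ 0 := by
    rintro rfl
    omega
  have h2 : orderOf (ζ ^ c) = p ^ i - 1 := by
    rw [orderOf_pow_of_dvd hc0 (by rw [h1, hc]; exact Dvd.intro_left _ rfl), h1, hc,
      Nat.mul_div_cancel _ (Nat.pos_of_ne_zero hc0)]
  set y : Fˣ := ζ ^ c with hy
  have h3 : y ^ (p ^ i - 1) = 1 := by rw [← h2]; exact pow_orderOf_eq_one y
  have h4 : (y : F) ∈ frobFix F p i := by
    rw [mem_frobFix]
    have h5 : (y : F) ^ (p ^ i - 1) = 1 := by
      rw [← Units.val_pow_eq_pow_val, h3, Units.val_one]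
    calc (y : F) ^ p ^ i = (y : F) ^ (p ^ i - 1) * y := by
          rw [← pow_succ, Nat.sub_add_cancel hpos]
      _ = y := by rw [h5, one_mul]
  haveI : Fintype (frobFix F p i) := Fintype.ofFinite _
  have h5 : (⟨(y : F), h4⟩ : frobFix F p i) ≠ 0 := by
    intro h
    exact y.ne_zero (congrArg Subtype.val h)
  have h6 := FiniteField.pow_card_sub_one_eq_one _ h5
  have h7 : (y : F) ^ (Fintype.card (frobFix F p i) - 1) = 1 := by
    have := congrArg Subtype.val h6
    simpa using this
  have h8 : y ^ (Fintype.card (frobFix F p i) - 1) = 1 := by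
    apply Units.ext
    rw [Units.val_pow_eq_pow_val, h7, Units.val_one]
  have h9 := orderOf_dvd_of_pow_eq_one h8
  rw [h2] at h9
  have h10 : 1 < Fintype.card (frobFix F p i) := Fintype.one_lt_card
  have := Nat.le_of_dvd (by omega) h9
  rw [Nat.card_eq_fintype_card]
  omega

end Cfsg.Agent.Lib.Helper41.Dickson
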