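import Cfsg.Agent.Lib.Helper41.Dickson.Cards
import Cfsg.Agent.Lib.Helper41.QuadForm
import Cfsg.Agent.S3377

/-!
# Existence of `A₅` in `PSL₂(F)` when `5 ∣ q (q² - 1)`
-/

set_option autoImplicit false
set_option linter.style.haveILetI false
set_option linter.unusedSectionVars false
set_option linter.unusedSimpArgs false

namespace Cfsg.Agent.Lib.Helper41.Dickson

open Matrix
open Cfsg.Agent.Lib.Helper41

variable {F : Type*} [Field F]

local notation "G" => Matrix.ProjectiveSpecialLinearGroup (Fin 2) F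

theorem pow_five_of_sq (M : Matrix (Fin 2) (Fin 2) F) (τ : F) (h : M * M = τ • M - 1) :
    M ^ 5 = (τ ^ 4 - 3 * τ ^ 2 + 1) • M - (τ ^ 3 - 2 * τ) • (1 : Matrix (Fin 2) (Fin 2) F) := by
  have h2 : M ^ 2 = τ • M - 1 := by rw [sq]; exact h
  have h3 : M ^ 3 = (τ ^ 2 - 1) • M - τ • (1 : Matrix (Fin 2) (Fin 2) F) := by
    rw [pow_succ, h2, sub_mul, smul_mul_assoc, h, one_mul]
    module
  have h4 : M ^ 4 = (τ ^ 3 - 2 * τ) • M - (τ ^ 2 - 1) • (1 : Matrix (Fin 2) (Fin 2) F) := by
    rw [pow_succ, h3, sub_mul, smul_mul_assoc, smul_mul_assoc, h, one_mul]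
    module
  rw [pow_succ, h4, sub_mul, smul_mul_assoc, smul_mul_assoc, h, one_mul]
  module

theorem golden_of (τ : F) (h1 : τ ^ 4 - 3 * τ ^ 2 + 1 = 0) (h2 : τ ^ 3 - 2 * τ = -1) :
    τ ^ 2 + τ - 1 = 0 := by
  by_contra hcon
  have h3 : (τ - 1) * (τ ^ 2 + τ - 1) = 0 := by linear_combination h2
  have h4 : τ = 1 := by
    rcases mul_eq_zero.1 h3 with h | h
    · exact sub_eq_zero.1 h
    · exact absurd h hcon
  rw [h4] at h1
  norm_num at h1

theorem exists_golden [Fintype F] (h5 : 5 ∣ Fintype.card F * (Fintype.card F ^ 2 - 1)) :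
    ∃ τ : F, τ ^ 2 + τ - 1 = 0 := by
  have hg := natCard_PSL2 F
  rw [Nat.card_eq_fintype_card] at hg
  have h5g : 5 ∣ Nat.card G := by
    rw [← hg] at h5
    have hd : Nat.gcd 2 (Fintype.card F - 1) ∣ 2 := Nat.gcd_dvd_left _ _
    have hcop : Nat.Coprime 5 (Nat.gcd 2 (Fintype.card F - 1)) :=
      Nat.Coprime.coprime_dvd_right hd (by decide)
    exact hcop.dvd_of_dvd_mul_left h5
  haveI : Fact (Nat.Prime 5) := ⟨Nat.prime_five⟩
  obtain ⟨y, hy⟩ := exists_prime_orderOf_dvd_card' 5 h5g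
  obtain ⟨Y, rfl⟩ := QuotientGroup.mk_surjective y
  have hY5 := (psl2_pow_eq_one_iff Y 5).1 (by rw [← hy]; exact pow_orderOf_eq_one _)
  have hY1 : ¬ ((Y : Matrix (Fin 2) (Fin 2) F) = 1 ∨ (Y : Matrix (Fin 2) (Fin 2) F) = -1) := by
    intro hcon
    have := (psl2_pow_eq_one_iff Y 1).2 (by simpa using hcon)
    rw [pow_one] at this
    rw [this, orderOf_one] at hy
    norm_num at hy
  have hsq := sl2_sq Y
  set M := (Y : Matrix (Fin 2) (Fin 2) F) with hM
  set τ := M 0 0 + M 1 1 with hτ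
  have h5' := pow_five_of_sq M τ hsq
  have hα : τ ^ 4 - 3 * τ ^ 2 + 1 = 0 := by
    by_contra hcon
    have e01 : (M ^ 5) 0 1 = 0 := by rcases hY5 with h | h <;> rw [h] <;> simp
    have e10 : (M ^ 5) 1 0 = 0 := by rcases hY5 with h | h <;> rw [h] <;> simp
    have e00 : (M ^ 5) 0 0 = (M ^ 5) 1 1 := by rcases hY5 with h | h <;> rw [h] <;> simp
    rw [h5'] at e01 e10 e00
    simp at e01 e10 e00
    rcases sl2_noncentral_entries Y hY1 with h | h | h
    · exact h (e10.resolve_left hcon)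
    · exact h (e01.resolve_left hcon)
    · exact h (e00.resolve_right hcon)
  rw [hα, zero_smul, zero_sub] at h5'
  rcases hY5 with h | h
  · refine ⟨τ, golden_of τ hα ?_⟩
    rw [h] at h5'
    have := congrFun (congrFun h5' 0) 0
    simp at this
    linear_combination this
  · refine ⟨-τ, golden_of (-τ) (by linear_combination hα) ?_⟩
    rw [h] at h5'
    have := congrFun (congrFun h5' 0) 0
    simp at this
    linear_combination -this

theorem exists_conic [Fintype F] (τ : F) :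
    ∃ s u : F, s ^ 2 - τ * s * u + u ^ 2 + u + 1 = 0 := by
  rcases Nat.even_or_odd (Fintype.card F) with he | ho
  · have h2 : (2 : F) = 0 := by
      have := FiniteField.even_card_iff_char_two.2 (Nat.even_iff.1 he)
      haveI : CharP F 2 := ringChar.of_eq this
      exact_mod_cast CharP.cast_eq_zero F 2
    exact ⟨1, 0, by linear_combination h2⟩
  · have hodd : Fintype.card F % 2 = 1 := Nat.odd_iff.1 ho
    have h2 : (2 : F) ≠ 0 := two_ne_zero_of_odd_card hodd
    by_cases hD : 4 - τ ^ 2 = 0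
    · refine ⟨-τ / 2, -1, ?_⟩
      field_simp
      linear_combination hD
    · obtain ⟨w, u, h⟩ := quad_sum hodd 1 0 (4 - τ ^ 2) 4 4 one_ne_zero hD
      refine ⟨(w + τ * u) / 2, u, ?_⟩
      field_simp
      linear_combination h

theorem exists_alt_five [Fintype F] (h5 : 5 ∣ Fintype.card F * (Fintype.card F ^ 2 - 1)) :
    ∃ H : Subgroup G, Nonempty (H ≃* alternatingGroup (Fin 5)) := by
  obtain ⟨τ, hτ⟩ := exists_golden h5
  obtain ⟨s, u, hsu⟩ := exists_conic τ
  set v := 1 - s * τ + u with hv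
  obtain ⟨C, hC⟩ : ∃ g : Matrix.SpecialLinearGroup (Fin 2) F,
      (g : Matrix (Fin 2) (Fin 2) F) = !![0, -1; 1, τ] :=
    ⟨⟨!![0, -1; 1, τ], by simp [Matrix.det_fin_two]⟩, rfl⟩
  obtain ⟨X, hX⟩ : ∃ g : Matrix.SpecialLinearGroup (Fin 2) F,
      (g : Matrix (Fin 2) (Fin 2) F) = !![s * τ - u, s; v * τ + s, v] :=
    ⟨⟨!![s * τ - u, s; v * τ + s, v], by
      rw [Matrix.det_fin_two_of, hv]; linear_combination -hsu⟩, rfl⟩
  have hXC : ((X * C : Matrix.SpecialLinearGroup (Fin 2) F) : Matrix (Fin 2) (Fin 2) F) =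
      !![s, u; v, -s] := by
    rw [Matrix.SpecialLinearGroup.coe_mul, hX, hC, Matrix.mul_fin_two]
    ext i j
    fin_cases i <;> fin_cases j <;> simp
  let x : G := QuotientGroup.mk X
  let y : G := QuotientGroup.mk C
  have hx3 : x ^ 3 = 1 := by
    rw [psl2_pow_eq_one_iff]
    right
    have hsq := sl2_sq X
    have htr : (X : Matrix (Fin 2) (Fin 2) F) 0 0 + (X : Matrix (Fin 2) (Fin 2) F) 1 1 = 1 := by
      rw [hX, hv]; simp
    rw [htr, one_smul] at hsq
    rw [pow_succ, sq, hsq, sub_mul, hsq, one_mul]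
    abel
  have hy5 : y ^ 5 = 1 := by
    rw [psl2_pow_eq_one_iff]
    left
    have hsq := sl2_sq C
    have htr : (C : Matrix (Fin 2) (Fin 2) F) 0 0 + (C : Matrix (Fin 2) (Fin 2) F) 1 1 = τ := by
      rw [hC]; simp
    rw [htr] at hsq
    rw [pow_five_of_sq _ τ hsq]
    have h1 : τ ^ 4 - 3 * τ ^ 2 + 1 = 0 := by linear_combination (τ ^ 2 - τ - 1) * hτ
    have h2 : τ ^ 3 - 2 * τ = -1 := by linear_combination (τ - 1) * hτ
    rw [h1, h2]
    simp
  have hxy2 : (x * y) ^ 2 = 1 := by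
    show ((QuotientGroup.mk X : G) * (QuotientGroup.mk C : G)) ^ 2 = 1
    rw [← QuotientGroup.mk_mul, psl2_pow_eq_one_iff]
    right
    have hsq := sl2_sq (X * C)
    have htr : ((X * C : Matrix.SpecialLinearGroup (Fin 2) F) : Matrix (Fin 2) (Fin 2) F) 0 0 +
        ((X * C : Matrix.SpecialLinearGroup (Fin 2) F) : Matrix (Fin 2) (Fin 2) F) 1 1 = 0 := by
      rw [hXC]; simp
    rw [htr, zero_smul, zero_sub] at hsq
    rw [sq, hsq]
  have hy1 : y ≠ 1 := by
    intro hcon
    have := (psl2_pow_eq_one_iff C 1).1 (by rw [pow_one]; exact hcon)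
    rw [pow_one, hC] at this
    rcases this with h | h
    · have := congrFun (congrFun h 1) 0
      simp at this
    · have := congrFun (congrFun h 1) 0
      simp at this
  obtain ⟨e⟩ := Cfsg.Agent.S3377.result
  let f : Fin 2 → G := ![x, y]
  have hrel : ∀ r ∈ ({FreeGroup.of (0 : Fin 2) ^ 3, FreeGroup.of (1 : Fin 2) ^ 5,
        (FreeGroup.of (0 : Fin 2) * FreeGroup.of 1) ^ 2} : Set (FreeGroup (Fin 2))),
      FreeGroup.lift f r = 1 := by
    intro r hr
    simp only [Set.mem_insert_iff, Set.mem_singleton_iff] at hr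
    rcases hr with rfl | rfl | rfl
    · simpa [f] using hx3
    · simpa [f] using hy5
    · simpa [f] using hxy2
  let φ : alternatingGroup (Fin 5) →* G := (PresentedGroup.toGroup hrel).comp e.symm.toMonoidHom
  have hinj : Function.Injective φ := by
    rw [← MonoidHom.ker_eq_bot_iff]
    haveI : IsSimpleGroup (alternatingGroup (Fin 5)) := alternatingGroup.isSimpleGroup (by simp)
    rcases (φ.normal_ker).eq_bot_or_eq_top with h | h
    · exact h
    · exfalso
      apply hy1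
      have h1 : e (PresentedGroup.of 1) ∈ φ.ker := by rw [h]; trivial
      rw [MonoidHom.mem_ker] at h1
      have h2 : φ (e (PresentedGroup.of 1)) = y := by
        show PresentedGroup.toGroup hrel (e.symm (e (PresentedGroup.of 1))) = y
        rw [MulEquiv.symm_apply_apply, PresentedGroup.toGroup.of]
        rfl
      rw [← h2, h1]
  exact ⟨φ.range, ⟨(MonoidHom.ofInjective hinj).symm⟩⟩

end Cfsg.Agent.Lib.Helper41.Dickson
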