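import Cfsg.Agent.Lib.Helper41.Dickson.PSLAct

/-!
# The Borel subgroups of `PSL₂(F)`
-/

set_option autoImplicit false
set_option linter.style.haveILetI false
set_option linter.unusedSectionVars false
set_option linter.unusedSimpArgs false

namespace Cfsg.Agent.Lib.Helper41.Dickson

open Matrix OnePoint MulAction
open scoped MatrixGroups

section abstract

variable {Γ Y : Type*} [Group Γ] [MulAction Γ Y]

theorem Mob.normalizer_Q (h : Mob Γ Y) (x : Y) (u : Γ) (hu : u ∈ h.Q x) (hu1 : u ≠ 1) :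
    Subgroup.normalizer ((h.Q x : Subgroup Γ) : Set Γ) = stabilizer Γ x := by
  apply le_antisymm _ (h.stabilizer_le_normalizer_Q x)
  intro c hc
  rw [Subgroup.mem_normalizer_iff] at hc
  have h1 : c * u * c⁻¹ ∈ h.Q x := (hc u).1 hu
  have h2 : c * u * c⁻¹ ∈ h.Q (c • x) := (h.Q_smul c x u).2 hu
  by_contra hcon
  have h3 : c * u * c⁻¹ = 1 := h1.2.eq_one h2.1 h1.1 hcon
  apply hu1
  have : u = c⁻¹ * (c * u * c⁻¹) * c := by group
  rw [this, h3]; group

end abstract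

variable {F : Type*} [Field F] {L : Type*} [Field L] [Algebra F L] [DecidableEq L]

attribute [local instance] pslAct

local notation "G" => Matrix.ProjectiveSpecialLinearGroup (Fin 2) F
local notation "X" => OnePoint L

theorem exists_unip [IsAlgClosed L] :
    ∃ u : G, u ≠ 1 ∧ u ∈ (psl_mob (F := F) (L := L)).Q ∞ := by
  obtain ⟨g, hg⟩ : ∃ g : Matrix.SpecialLinearGroup (Fin 2) F,
      (g : Matrix (Fin 2) (Fin 2) F) = !![1, 1; 0, 1] :=
    ⟨⟨!![1, 1; 0, 1], by simp [Matrix.det_fin_two]⟩, rfl⟩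
  have h10 : g 1 0 = 0 := by
    show (g : Matrix (Fin 2) (Fin 2) F) 1 0 = 0
    rw [hg]; rfl
  have h00 : g 0 0 = 1 := by
    show (g : Matrix (Fin 2) (Fin 2) F) 0 0 = 1
    rw [hg]; rfl
  have h01 : g 0 1 = 1 := by
    show (g : Matrix (Fin 2) (Fin 2) F) 0 1 = 1
    rw [hg]; rfl
  have h11 : g 1 1 = 1 := by
    show (g : Matrix (Fin 2) (Fin 2) F) 1 1 = 1
    rw [hg]; rfl
  refine ⟨(QuotientGroup.mk g : G), ?_, mk_smul_infty_of_eq g h10, ?_⟩
  · intro hcon
    have h1 : iota F L (QuotientGroup.mk g : G) = 1 := by rw [hcon, map_one]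
    rw [iota_mk, mk_eq_one_iff] at h1
    have := h1.2.1
    simp [h01] at this
  · rw [psl_uni_iff, iota_mk, uni_iff_infty]
    · simp [h00, h11]
    · simp [h10]

variable [Fintype F] [IsAlgClosed L] (p : ℕ) [Fact p.Prime] [CharP F p]

theorem exists_sylow_Q_infty :
    ∃ P : Sylow p G, (P : Subgroup G) = (psl_mob (F := F) (L := L)).Q ∞ := by
  obtain ⟨u, hu1, hu⟩ := exists_unip (F := F) (L := L)
  exact (psl_mob (F := F) (L := L)).exists_sylow_eq_Q p (psl_par_pow p) (psl_semi_pow p) ∞ u hu hu1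

theorem sylow_eq_Q (P : Sylow p G) :
    ∃ x : X, x ∈ orbit G (∞ : X) ∧ (P : Subgroup G) = (psl_mob (F := F) (L := L)).Q x := by
  obtain ⟨P₀, hP₀⟩ := exists_sylow_Q_infty (F := F) (L := L) p
  obtain ⟨g, rfl⟩ := MulAction.exists_smul_eq G P₀ P
  refine ⟨g • ∞, ⟨g, rfl⟩, ?_⟩
  ext a
  rw [Sylow.coe_subgroup_smul, Subgroup.mem_pointwise_smul_iff_inv_smul_mem, hP₀]
  have h1 := (psl_mob (F := F) (L := L)).Q_smul g ∞ (g⁻¹ * a * g)
  have h2 : g * (g⁻¹ * a * g) * g⁻¹ = a := by group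
  rw [h2] at h1
  rw [h1]
  simp [MulAut.smul_def, MulAut.conj_apply]

theorem card_mul_eq :
    Nat.gcd 2 (Fintype.card F - 1) * (psl_mob (F := F) (L := L)).e ∞ =
      Fintype.card F * (Fintype.card F - 1) := by
  have h1 := (psl_mob (F := F) (L := L)).n_mul_e ∞
  rw [n_infty] at h1
  have h2 := Cfsg.Agent.Lib.Helper5.card_PSL2 (F := F)
  rw [← h1, Nat.gcd_comm] at h2
  have hq : 1 ≤ Fintype.card F := Fintype.card_pos
  obtain ⟨q, hq'⟩ : ∃ q, Fintype.card F = q + 1 := ⟨Fintype.card F - 1, by omega⟩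
  rw [hq'] at h2 ⊢
  simp only [Nat.add_sub_cancel] at h2 ⊢
  have h3 : (q + 1) ^ 2 - 1 = (q + 1 + 1) * q := by
    have : (q + 1) ^ 2 = (q + 1 + 1) * q + 1 := by ring
    omega
  rw [h3] at h2
  have h4 : (q + 1 + 1) * (Nat.gcd 2 q * (psl_mob (F := F) (L := L)).e ∞) =
      (q + 1 + 1) * ((q + 1) * q) := by
    linarith
  exact Nat.eq_of_mul_eq_mul_left (by omega) h4

theorem qq_infty : (psl_mob (F := F) (L := L)).qq ∞ = Fintype.card F := by
  set hG := psl_mob (F := F) (L := L)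
  have h1 := card_mul_eq (F := F) (L := L)
  have h2 := hG.qq_dvd_n_sub_one ∞
  rw [n_infty, Nat.add_sub_cancel] at h2
  have h3 := hG.e_dvd ∞
  have h4 : 2 ≤ hG.qq ∞ := by
    obtain ⟨u, hu1, hu⟩ := exists_unip (F := F) (L := L)
    have hnt : Nontrivial (hG.Q ∞) := ⟨⟨⟨u, hu⟩, 1, fun hcon => hu1 (congrArg Subtype.val hcon)⟩⟩
    exact Finite.one_lt_card_iff_nontrivial.2 hnt
  have hq : 0 < Fintype.card F := Fintype.card_pos
  obtain ⟨m, hm⟩ := h2
  by_contra hne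
  have hm2 : 2 ≤ m := by
    rcases m with _ | _ | m
    · simp at hm
    · simp at hm; exact absurd hm.symm hne
    · omega
  have h5 : hG.e ∞ ≤ hG.qq ∞ * (hG.qq ∞ - 1) :=
    Nat.le_of_dvd (Nat.mul_pos (by omega) (by omega)) h3
  have hd : Nat.gcd 2 (Fintype.card F - 1) ≤ 2 := Nat.gcd_le_left _ (by norm_num)
  set Q := hG.qq ∞
  set E := hG.e ∞
  have h6 : Fintype.card F * (Fintype.card F - 1) ≤ 2 * (Q * (Q - 1)) := by
    rw [← h1]
    exact Nat.mul_le_mul hd h5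
  have h7 : 2 * Q ≤ Fintype.card F := by
    rw [hm, mul_comm]
    exact Nat.mul_le_mul_left _ hm2
  have h8 : 2 * (Q * (Q - 1)) ≤ Fintype.card F * (Q - 1) := by
    rw [← mul_assoc]
    exact Nat.mul_le_mul_right _ h7
  have h9 : Fintype.card F * (Q - 1) < Fintype.card F * (Fintype.card F - 1) :=
    Nat.mul_lt_mul_of_pos_left (by omega) hq
  omega

/-- geometric form of the Borel package -/
theorem borel_geom (P : Sylow p G) :
    ∃ x : X, x ∈ orbit G (∞ : X) ∧ (P : Subgroup G) = (psl_mob (F := F) (L := L)).Q x ∧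
      Subgroup.normalizer ((P : Subgroup G) : Set G) = stabilizer G x ∧
      (psl_mob (F := F) (L := L)).qq x = Fintype.card F ∧
      (psl_mob (F := F) (L := L)).n x = Fintype.card F + 1 ∧
      Nat.gcd 2 (Fintype.card F - 1) * (psl_mob (F := F) (L := L)).e x =
        Fintype.card F * (Fintype.card F - 1) := by
  obtain ⟨x, ⟨g, rfl⟩, hP⟩ := sylow_eq_Q (F := F) (L := L) p P
  set hG := psl_mob (F := F) (L := L)
  have hq : hG.qq (g • ∞) = Fintype.card F := by rw [hG.qq_smul, qq_infty]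
  have hnt : Nontrivial (hG.Q (g • ∞)) := by
    rw [← Finite.one_lt_card_iff_nontrivial]
    change 1 < hG.qq (g • ∞)
    rw [hq]
    exact Fintype.one_lt_card
  obtain ⟨⟨u, hu⟩, hu1⟩ := exists_ne (1 : hG.Q (g • ∞))
  refine ⟨g • ∞, ⟨g, rfl⟩, hP, ?_, hq, ?_, ?_⟩
  · rw [hP]
    exact hG.normalizer_Q _ u hu (fun hcon => hu1 (Subtype.ext hcon))
  · rw [hG.n_smul, n_infty]
  · rw [hG.e_smul, card_mul_eq]

end Cfsg.Agent.Lib.Helper41.Dickson
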