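import Cfsg.Agent.Lib.Helper41.Dickson.Packages

/-!
# Dickson's theorem with orders
-/

set_option autoImplicit false
set_option linter.style.haveILetI false
set_option linter.unusedSectionVars false
set_option linter.unusedSimpArgs false

namespace Cfsg.Agent.Lib.Helper41.Dickson

open Matrix

theorem natCard_PSL2 (K : Type*) [Field K] [Finite K] :
    Nat.gcd 2 (Nat.card K - 1) * Nat.card (Matrix.ProjectiveSpecialLinearGroup (Fin 2) K) =
      Nat.card K * (Nat.card K ^ 2 - 1) := by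
  haveI := Fintype.ofFinite K
  rw [Nat.card_eq_fintype_card, Nat.gcd_comm]
  exact Cfsg.Agent.Lib.Helper5.card_PSL2

theorem natCard_PGL2 (K : Type*) [Field K] [Finite K] :
    Nat.card (Matrix.ProjGenLinGroup (Fin 2) K) = Nat.card K * (Nat.card K ^ 2 - 1) := by
  haveI := Fintype.ofFinite K
  rw [Cfsg.Agent.Lib.Helper5.card_PGL_eq_card_SL, Cfsg.Agent.Lib.Helper5.card_SL2,
    Nat.card_eq_fintype_card]

theorem natCard_alt_four : Nat.card (alternatingGroup (Fin 4)) = 12 := by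
  rw [nat_card_alternatingGroup]; simp [Nat.factorial]

theorem natCard_alt_five : Nat.card (alternatingGroup (Fin 5)) = 60 := by
  rw [nat_card_alternatingGroup]; simp [Nat.factorial]

theorem natCard_perm_four : Nat.card (Equiv.Perm (Fin 4)) = 24 := by
  rw [Nat.card_perm]; simp [Nat.factorial]

theorem gcd_two_dvd_add (q : ℕ) (hq : 1 ≤ q) : Nat.gcd 2 (q - 1) ∣ q + 1 := by
  have h1 : Nat.gcd 2 (q - 1) ∣ 2 := Nat.gcd_dvd_left _ _
  have h2 : Nat.gcd 2 (q - 1) ∣ q - 1 := Nat.gcd_dvd_right _ _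
  have : q + 1 = (q - 1) + 2 := by omega
  rw [this]
  exact Nat.dvd_add h2 h1

theorem gcd_two_pow (q₁ m : ℕ) (hq : 1 ≤ q₁) (hm : 1 ≤ m) :
    Nat.gcd 2 (q₁ ^ m - 1) = Nat.gcd 2 (q₁ - 1) := by
  rcases Nat.even_or_odd q₁ with h | h
  · have h1 : Even (q₁ ^ m) := h.pow_of_ne_zero (by omega)
    have h2 : 1 ≤ q₁ ^ m := Nat.one_le_pow _ _ hq
    have h3 : Odd (q₁ ^ m - 1) := by
      obtain ⟨a, ha⟩ := h1
      exact ⟨a - 1, by omega⟩
    have h4 : Odd (q₁ - 1) := by
      obtain ⟨a, ha⟩ := h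
      exact ⟨a - 1, by omega⟩
    rw [Nat.Coprime.gcd_eq_one (Nat.coprime_two_left.2 h3),
      Nat.Coprime.gcd_eq_one (Nat.coprime_two_left.2 h4)]
  · have h1 : Odd (q₁ ^ m) := h.pow
    have h3 : 2 ∣ (q₁ ^ m - 1) := by
      obtain ⟨a, ha⟩ := h1
      exact ⟨a, by omega⟩
    have h4 : 2 ∣ (q₁ - 1) := by
      obtain ⟨a, ha⟩ := h
      exact ⟨a, by omega⟩
    rw [Nat.gcd_eq_left h3, Nat.gcd_eq_left h4]

variable {F : Type*} [Field F] [Fintype F]

local notation "G" => Matrix.ProjectiveSpecialLinearGroup (Fin 2) F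

theorem subfield_card (K : Subfield F) :
    ∃ m : ℕ, 1 ≤ m ∧ Fintype.card F = Nat.card K ^ m ∧ 2 ≤ Nat.card K := by
  refine ⟨Module.finrank K F, Module.finrank_pos, ?_, ?_⟩
  · rw [← Nat.card_eq_fintype_card, Module.natCard_eq_pow_finrank (K := K) (V := F)]
  · exact Finite.one_lt_card

theorem dickson_card (p : ℕ) [Fact p.Prime] [CharP F p] (H : Subgroup G) :
    (IsCyclic H ∧ (Nat.gcd 2 (Fintype.card F - 1) * Nat.card H ∣ Fintype.card F - 1 ∨
      Nat.gcd 2 (Fintype.card F - 1) * Nat.card H ∣ Fintype.card F + 1)) ∨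
    (∃ k : ℕ, (Nat.gcd 2 (Fintype.card F - 1) * k ∣ Fintype.card F - 1 ∨
      Nat.gcd 2 (Fintype.card F - 1) * k ∣ Fintype.card F + 1) ∧
      Nonempty (H ≃* DihedralGroup k) ∧ Nat.card H = 2 * k) ∨
    (∃ P : Sylow p G, H ≤ Subgroup.normalizer ((P : Subgroup G) : Set G)) ∨
    (Nonempty (H ≃* alternatingGroup (Fin 4)) ∧ Nat.card H = 12) ∨
    (Nonempty (H ≃* Equiv.Perm (Fin 4)) ∧ Nat.card H = 24) ∨
    (Nonempty (H ≃* alternatingGroup (Fin 5)) ∧ Nat.card H = 60) ∨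
    (∃ (K : Subfield F) (m : ℕ), 1 ≤ m ∧ Fintype.card F = Nat.card K ^ m ∧ 2 ≤ Nat.card K ∧
      ((Nonempty (H ≃* Matrix.ProjectiveSpecialLinearGroup (Fin 2) K) ∧
        Nat.gcd 2 (Fintype.card F - 1) * Nat.card H = Nat.card K * (Nat.card K ^ 2 - 1)) ∨
      (Nonempty (H ≃* Matrix.ProjGenLinGroup (Fin 2) K) ∧
        Nat.card H = Nat.card K * (Nat.card K ^ 2 - 1)))) := by
  have hq1 : 1 ≤ Fintype.card F := Fintype.card_pos
  have hd1 : Nat.gcd 2 (Fintype.card F - 1) ∣ Fintype.card F - 1 := Nat.gcd_dvd_right _ _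
  have hd2 := gcd_two_dvd_add (Fintype.card F) hq1
  rcases dickson_psl p H with ⟨h1, h2⟩ | ⟨k, hk, h2⟩ | ⟨P, hP⟩ | h | h | h | ⟨K, hK⟩
  · left
    refine ⟨h1, ?_⟩
    rcases h2 with h2 | h2
    · left; exact Nat.mul_dvd_of_dvd_div hd1 h2
    · right; exact Nat.mul_dvd_of_dvd_div hd2 h2
  · right; left
    have hk0 : k ≠ 0 := by
      rintro rfl
      have hq2 : 2 ≤ Fintype.card F := Fintype.one_lt_card
      have hd : 0 < Nat.gcd 2 (Fintype.card F - 1) := Nat.gcd_pos_of_pos_left _ (by norm_num)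
      rcases hk with hk | hk
      · rw [zero_dvd_iff] at hk
        have := Nat.div_pos (Nat.le_of_dvd (by omega) hd1) hd
        omega
      · rw [zero_dvd_iff] at hk
        have := Nat.div_pos (Nat.le_of_dvd (by omega) hd2) hd
        omega
    haveI : NeZero k := ⟨hk0⟩
    refine ⟨k, ?_, h2, ?_⟩
    · rcases hk with hk | hk
      · left; exact Nat.mul_dvd_of_dvd_div hd1 hk
      · right; exact Nat.mul_dvd_of_dvd_div hd2 hk
    · obtain ⟨e⟩ := h2
      rw [Nat.card_congr e.toEquiv, DihedralGroup.nat_card]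
  · right; right; left; exact ⟨P, hP⟩
  · right; right; right; left
    refine ⟨h, ?_⟩
    obtain ⟨e⟩ := h
    rw [Nat.card_congr e.toEquiv, natCard_alt_four]
  · right; right; right; right; left
    refine ⟨h, ?_⟩
    obtain ⟨e⟩ := h
    rw [Nat.card_congr e.toEquiv, natCard_perm_four]
  · right; right; right; right; right; left
    refine ⟨h, ?_⟩
    obtain ⟨e⟩ := h
    rw [Nat.card_congr e.toEquiv, natCard_alt_five]
  · right; right; right; right; right; right
    obtain ⟨m, hm, hqm, hK2⟩ := subfield_card K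
    refine ⟨K, m, hm, hqm, hK2, ?_⟩
    rcases hK with h | h
    · left
      refine ⟨h, ?_⟩
      obtain ⟨e⟩ := h
      rw [Nat.card_congr e.toEquiv, hqm, gcd_two_pow _ _ (by omega) hm, natCard_PSL2]
    · right
      refine ⟨h, ?_⟩
      obtain ⟨e⟩ := h
      rw [Nat.card_congr e.toEquiv, natCard_PGL2]

end Cfsg.Agent.Lib.Helper41.Dickson
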