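import Cfsg.Agent.Lib.Helper41.Dickson.Master
import Cfsg.Agent.Lib.Helper41.Dickson.MaxTools

/-!
# Dickson's theorem for `PGL₂(F)`, `F` finite of odd characteristic
-/

set_option autoImplicit false
set_option linter.style.haveILetI false
set_option linter.unusedSectionVars false
set_option linter.unusedSimpArgs false

namespace Cfsg.Agent.Lib.Helper41.Dickson

open Matrix OnePoint MulAction
open scoped MatrixGroups

section descent

variable {F L : Type*} [Field F] [Field L] [Algebra F L] [DecidableEq L]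

local notation "A" => Matrix.ProjGenLinGroup (Fin 2) L

/-- squares of elements of the subfield lie in the ground field -/
theorem subfield_sq_mem_range (Γ : Subgroup A)
    (hΓ : Γ ≤ (Matrix.ProjGenLinGroup.map (n := Fin 2) (algebraMap F L)).range) (s : A)
    (K : Subfield L) (h : pslK K ≤ Γ.map (MulAut.conj s).toMonoidHom) (t : L) (ht : t ∈ K) :
    t ^ 2 ∈ (algebraMap F L).range := by
  have h1 : Matrix.ProjGenLinGroup.mk (mkM t (-1) 1 0 (by simp)) ∈ pslK K :=
    mkM_mem_pslK K t (-1) 1 0 (by ring) ht (K.neg_mem K.one_mem) K.one_mem K.zero_mem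
  obtain ⟨γ, hγ, hγ'⟩ := h h1
  obtain ⟨y, rfl⟩ := hΓ hγ
  induction y using Matrix.ProjGenLinGroup.induction_on with | mk g =>
  induction s using Matrix.ProjGenLinGroup.induction_on with | mk S =>
  have hγ'' : Matrix.ProjGenLinGroup.mk (S *
      (Matrix.GeneralLinearGroup.map (algebraMap F L) g) * S⁻¹) =
      Matrix.ProjGenLinGroup.mk (mkM t (-1) 1 0 (by simp)) := by
    rw [← hγ']
    simp [MulAut.conj_apply]
  rw [Matrix.ProjGenLinGroup.mk_eq_mk_iff] at hγ''
  obtain ⟨u, hu⟩ := hγ''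
  have hmat := congrArg (fun m : GL (Fin 2) L => (m : Matrix (Fin 2) (Fin 2) L)) hu
  simp only [Units.val_mul, Matrix.GeneralLinearGroup.coe_scalar] at hmat
  set G : Matrix (Fin 2) (Fin 2) L :=
    ((Matrix.GeneralLinearGroup.map (algebraMap F L) g :
      GL (Fin 2) L) : Matrix (Fin 2) (Fin 2) L) with hG
  have hGmap : G = (algebraMap F L).mapMatrix (g : Matrix (Fin 2) (Fin 2) F) := rfl
  have htr := congrArg Matrix.trace hmat
  have hdet := congrArg Matrix.det hmat
  have e1 : ((S : Matrix (Fin 2) (Fin 2) L) * G * ((S⁻¹ : GL (Fin 2) L) : Matrix (Fin 2) (Fin 2) L) *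
      Matrix.scalar (Fin 2) (u : L)) = (u : L) •
      ((S : Matrix (Fin 2) (Fin 2) L) * G * ((S⁻¹ : GL (Fin 2) L) : Matrix (Fin 2) (Fin 2) L)) := by
    rw [Matrix.scalar_apply, ← Matrix.smul_one_eq_diagonal, Matrix.mul_smul, Matrix.mul_one]
  rw [e1] at htr hdet
  rw [Matrix.trace_smul, Matrix.trace_units_conj] at htr
  rw [Matrix.det_smul, Matrix.det_units_conj, Fintype.card_fin] at hdet
  have hdG : G.det = algebraMap F L (Matrix.det (g : Matrix (Fin 2) (Fin 2) F)) := by
    rw [hGmap, ← RingHom.map_det]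
  have htG : G.trace = algebraMap F L (Matrix.trace (g : Matrix (Fin 2) (Fin 2) F)) := by
    rw [hGmap, Matrix.trace_fin_two, Matrix.trace_fin_two, map_add]
    rfl
  have ht1 : (((mkM t (-1) 1 0 (by simp) : GL (Fin 2) L)) : Matrix (Fin 2) (Fin 2) L).trace = t := by
    rw [Matrix.trace_fin_two]
    show t + 0 = t
    ring
  have hd1 : (((mkM t (-1) 1 0 (by simp) : GL (Fin 2) L)) : Matrix (Fin 2) (Fin 2) L).det = 1 := by
    rw [Matrix.det_fin_two]
    show t * 0 - (-1) * 1 = 1
    ring
  rw [ht1, htG, smul_eq_mul] at htr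
  rw [hd1, hdG] at hdet
  have hd0 : Matrix.det (g : Matrix (Fin 2) (Fin 2) F) ≠ 0 := g.det_ne_zero
  refine ⟨Matrix.trace (g : Matrix (Fin 2) (Fin 2) F) ^ 2 /
    Matrix.det (g : Matrix (Fin 2) (Fin 2) F), ?_⟩
  rw [map_div₀, map_pow, ← htr]
  have hd0' : algebraMap F L (Matrix.det (g : Matrix (Fin 2) (Fin 2) F)) ≠ 0 := by
    rw [Ne, map_eq_zero]; exact hd0
  rw [div_eq_iff hd0']
  linear_combination (-(algebraMap F L (Matrix.trace (g : Matrix (Fin 2) (Fin 2) F))) ^ 2) * hdet

theorem subfield_le_range_pgl (h2 : (2 : L) ≠ 0) (Γ : Subgroup A)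
    (hΓ : Γ ≤ (Matrix.ProjGenLinGroup.map (n := Fin 2) (algebraMap F L)).range) (s : A)
    (K : Subfield L) (h : pslK K ≤ Γ.map (MulAut.conj s).toMonoidHom) (t : L) (ht : t ∈ K) :
    t ∈ (algebraMap F L).range := by
  obtain ⟨a, ha⟩ := subfield_sq_mem_range Γ hΓ s K h t ht
  obtain ⟨b, hb⟩ := subfield_sq_mem_range Γ hΓ s K h (t + 1) (K.add_mem ht K.one_mem)
  refine ⟨(b - a - 1) / 2, ?_⟩
  rw [map_div₀, map_sub, map_sub, map_one, ha, hb, map_ofNat]
  field_simp
  ring

end descent

theorem dickson_pgl {F : Type*} [Field F] [Fintype F] (p : ℕ) [Fact p.Prime] [CharP F p]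
    (h2 : (2 : F) ≠ 0) (H : Subgroup (Matrix.ProjGenLinGroup (Fin 2) F)) :
    (IsCyclic H ∧ (Nat.card H ∣ Fintype.card F - 1 ∨ Nat.card H ∣ Fintype.card F + 1)) ∨
    (∃ k : ℕ, (k ∣ Fintype.card F - 1 ∨ k ∣ Fintype.card F + 1) ∧
      Nonempty (H ≃* DihedralGroup k)) ∨
    (∃ P : Sylow p (Matrix.ProjGenLinGroup (Fin 2) F),
      H ≤ Subgroup.normalizer ((P : Subgroup (Matrix.ProjGenLinGroup (Fin 2) F)) :
        Set (Matrix.ProjGenLinGroup (Fin 2) F))) ∨
    Nonempty (H ≃* alternatingGroup (Fin 4)) ∨ Nonempty (H ≃* Equiv.Perm (Fin 4)) ∨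
    Nonempty (H ≃* alternatingGroup (Fin 5)) ∨
    (∃ K : Subfield F, Nonempty (H ≃* Matrix.ProjectiveSpecialLinearGroup (Fin 2) K) ∨
      Nonempty (H ≃* Matrix.ProjGenLinGroup (Fin 2) K)) := by
  classical
  let L := AlgebraicClosure F
  haveI : CharP L p := charP_of_injective_algebraMap (algebraMap F L).injective p
  let jota : Matrix.ProjGenLinGroup (Fin 2) F →* Matrix.ProjGenLinGroup (Fin 2) L :=
    Matrix.ProjGenLinGroup.map (n := Fin 2) (algebraMap F L)
  have jota_injective : Function.Injective jota :=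
    Cfsg.Agent.Lib.Helper14.pgl2_map_injective (algebraMap F L)
  haveI : Finite (Matrix.ProjGenLinGroup (Fin 2) F) :=
    Nat.finite_of_card_ne_zero (by
      rw [natCard_PGL2]
      have h1 : 2 ≤ Nat.card F := Finite.one_lt_card
      have h3 : 2 ^ 2 ≤ Nat.card F ^ 2 := Nat.pow_le_pow_left h1 2
      have h4 : 0 < Nat.card F ^ 2 - 1 := by omega
      positivity)
  let Γ : Subgroup (Matrix.ProjGenLinGroup (Fin 2) L) := H.map jota
  let eH : H ≃* Γ := H.equivMapOfInjective _ jota_injective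
  haveI : Finite Γ := Finite.of_equiv _ eH.toEquiv
  have hA : Mob (Matrix.ProjGenLinGroup (Fin 2) L) (OnePoint L) := pgl_mob
  have hM : Mob Γ (OnePoint L) := hA.subgroup Γ
  have hord : ∀ γ : Γ, ¬ Uni (OnePoint L) γ →
      orderOf γ ∣ Fintype.card F - 1 ∨ orderOf γ ∣ Fintype.card F + 1 := by
    intro γ hγ
    have h1 : orderOf γ = orderOf ((eH.symm γ : H) : Matrix.ProjGenLinGroup (Fin 2) F) := by
      rw [Subgroup.orderOf_coe, MulEquiv.orderOf_eq]
    rw [h1]
    rcases pgl2_orderOf_dvd p ((eH.symm γ : H) : Matrix.ProjGenLinGroup (Fin 2) F) with h2 | h2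
    · exfalso
      rw [← h1] at h2
      have h3 : γ ^ p = 1 := orderOf_dvd_iff_pow_eq_one.1 h2
      obtain ⟨x, y, hxy, hx, hy, -⟩ := hM.exists_two_fix hγ
      have h4 : (γ : Matrix.ProjGenLinGroup (Fin 2) L) = 1 :=
        pgl_semi_pow p _ x y hx hy hxy (by
          have := congrArg Subtype.val h3
          simpa using this)
      exact hγ (Or.inl (Subtype.ext h4))
    · exact h2
  have hstab : ∀ x : OnePoint L, hM.qq x = 1 →
      hM.e x ∣ Fintype.card F - 1 ∨ hM.e x ∣ Fintype.card F + 1 := by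
    intro x hx
    haveI := hM.stab_cyclic hx
    obtain ⟨⟨c, hc⟩, hgen⟩ := IsCyclic.exists_generator (α := stabilizer Γ x)
    have h1 : hM.e x = orderOf c := by
      rw [← Subgroup.orderOf_mk c hc, orderOf_eq_card_of_forall_mem_zpowers hgen]
      rfl
    by_cases hc1 : c = 1
    · left
      rw [h1, hc1, orderOf_one]
      exact one_dvd _
    · rw [h1]
      exact hord c (hM.not_uni_of_qq hx hc hc1)
  rcases hM.classify with ⟨x, hx⟩ | ⟨x, hq, hn, ⟨e⟩⟩ | ⟨⟨e⟩⟩ | ⟨⟨e⟩⟩ | ⟨⟨e⟩⟩ | ⟨x, hq, hn⟩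
  · by_cases hq : hM.qq x = 1
    · left
      have htop : stabilizer Γ x = ⊤ := by
        ext a; simp [hx a]
      haveI := hM.stab_cyclic hq
      have e1 : H ≃* stabilizer Γ x :=
        eH.trans (Subgroup.topEquiv.symm.trans (MulEquiv.subgroupCongr htop.symm))
      refine ⟨isCyclic_of_surjective e1.symm.toMonoidHom e1.symm.surjective, ?_⟩
      rw [Nat.card_congr e1.toEquiv]
      exact hstab x hq
    · right; right; left
      have hnt : Nontrivial (hM.Q x) := by
        rw [← Finite.one_lt_card_iff_nontrivial]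
        have := hM.qq_pos x
        change 1 < hM.qq x
        omega
      obtain ⟨⟨u₀, hu₀⟩, hu₀1⟩ := exists_ne (1 : hM.Q x)
      have hu₀1' : u₀ ≠ 1 := fun hcon => hu₀1 (Subtype.ext hcon)
      letI : MulAction (Matrix.ProjGenLinGroup (Fin 2) F) (OnePoint L) :=
        MulAction.compHom (OnePoint L) jota
      have hG : Mob (Matrix.ProjGenLinGroup (Fin 2) F) (OnePoint L) :=
        hA.of_injective jota jota_injective
      have hs : ∀ (a : Matrix.ProjGenLinGroup (Fin 2) F) (y : OnePoint L),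
        a • y = jota a • y := fun _ _ => rfl
      have hu : ∀ a : Matrix.ProjGenLinGroup (Fin 2) F,
          Uni (OnePoint L) a ↔ Uni (OnePoint L) (jota a) := by
        intro a
        unfold Uni
        constructor
        · rintro (h1 | h1)
          · left; rw [h1, map_one]
          · right; exact h1
        · rintro (h1 | h1)
          · left; exact jota_injective (by rw [h1, map_one])
          · right; exact h1
      obtain ⟨h₀, hh₀, hh₀'⟩ := u₀.2
      obtain ⟨P, hP⟩ := hG.exists_sylow_eq_Q p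
        (fun a ha => jota_injective (by
          rw [map_pow, map_one]; exact pgl_par_pow p _ ((hu a).1 ha)))
        (fun a y z hy hz hyz hp => jota_injective (by
          rw [map_one]
          exact pgl_semi_pow p _ y z hy hz hyz (by rw [← map_pow, hp, map_one])))
        x h₀ ⟨by rw [hs, hh₀']; exact hu₀.1, by
          rw [hu, hh₀']; exact (uni_subgroup_iff Γ u₀).1 hu₀.2⟩
        (by
          rintro rfl
          apply hu₀1'
          apply Subtype.ext
          rw [← hh₀', map_one]; rfl)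
      refine ⟨P, ?_⟩
      rw [hP]
      refine le_trans ?_ (hG.stabilizer_le_normalizer_Q x)
      intro a ha
      exact hx ⟨jota a, a, ha, rfl⟩
  · right; left
    exact ⟨hM.e x, hstab x hq, ⟨eH.trans e⟩⟩
  · right; right; right; left
    exact ⟨eH.trans e⟩
  · right; right; right; right; left
    exact ⟨eH.trans e⟩
  · right; right; right; right; right; left
    exact ⟨eH.trans e⟩
  · right; right; right; right; right; right
    obtain ⟨s, K, hKfin, h1, h2'⟩ := reduce_to_std Γ hM x hq hn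
    have h2L : (2 : L) ≠ 0 := by
      intro h
      apply h2
      apply (algebraMap F L).injective
      rw [map_ofNat, map_zero]; exact h
    have hKF := subfield_le_range_pgl (F := F) h2L Γ (by
      rintro _ ⟨a, -, rfl⟩
      exact ⟨a, rfl⟩) s K h1
    obtain ⟨K', ⟨eK⟩⟩ := exists_subfield_ringEquiv (F := F) K hKF
    haveI : Finite K' := Finite.of_equiv _ eK.symm.toEquiv
    let e2 : Γ ≃* Γ.map (MulAut.conj s).toMonoidHom :=
      Γ.equivMapOfInjective _ (MulAut.conj s).injective
    refine ⟨K', ?_⟩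
    rcases eq_pslK_or_pglK K _ h1 h2' with h3 | h3
    · left
      obtain ⟨e3⟩ := pslCongr eK
      exact ⟨(eH.trans e2).trans ((MulEquiv.subgroupCongr h3).trans
        ((pslKEquiv K).symm.trans e3.symm))⟩
    · right
      exact ⟨(eH.trans e2).trans ((MulEquiv.subgroupCongr h3).trans
        ((pglKEquiv K).symm.trans (pglCongr eK).symm))⟩

end Cfsg.Agent.Lib.Helper41.Dickson
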