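import Cfsg.Agent.Lib.Helper41.Dickson.WitDickson
import Cfsg.Agent.S0802

/-!
# Witnesses in `PSL₂(K)` and `PGL₂(K)`, odd characteristic
-/

set_option autoImplicit false
set_option linter.style.haveILetI false
set_option linter.unusedSectionVars false
set_option linter.unusedSimpArgs false

namespace Cfsg.Agent.Lib.Helper41.Dickson

open Matrix
open scoped MatrixGroups

theorem exists_char_prime (F : Type*) [Field F] [Finite F] :
    ∃ p : ℕ, p.Prime ∧ CharP F p := by
  obtain ⟨p, hp⟩ := CharP.exists F
  refine ⟨p, (CharP.char_is_prime_or_zero F p).resolve_right (fun h0 => ?_), hp⟩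
  subst h0
  haveI := CharP.charP_to_charZero F
  exact not_finite F

theorem char_ne_two_of_odd {F : Type*} [Field F] [Fintype F] (p : ℕ) [Fact p.Prime] [CharP F p]
    (hodd : Odd (Fintype.card F)) : p ≠ 2 := by
  rintro rfl
  obtain ⟨n, -, hn⟩ := FiniteField.card F 2
  rw [hn] at hodd
  have : Even (2 ^ (n : ℕ)) := (even_two).pow_of_ne_zero n.ne_zero
  exact (Nat.not_even_iff_odd.2 hodd) this

theorem wit_psl (K : Type*) [Field K] [Fintype K] (hodd : Odd (Fintype.card K)) :
    Wit (Matrix.ProjectiveSpecialLinearGroup (Fin 2) K) := by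
  obtain ⟨p, hp, hch⟩ := exists_char_prime K
  haveI := fact_iff.2 hp
  obtain ⟨n, -, hn⟩ := FiniteField.card K p
  obtain ⟨H, ⟨e⟩⟩ := (Cfsg.Agent.S0802.result p n hn).2
    (fun h => char_ne_two_of_odd p hodd h.1)
  have hW : Wit H := wit_alt_four.of_injective e.symm.toMonoidHom e.symm.injective
  exact hW.of_injective H.subtype Subtype.val_injective

theorem wit_pgl (K : Type*) [Field K] [Fintype K] (hodd : Odd (Fintype.card K)) :
    Wit (Matrix.ProjGenLinGroup (Fin 2) K) :=
  (wit_psl K hodd).of_injective _ Matrix.ProjectiveSpecialLinearGroup.toPGL_injective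

end Cfsg.Agent.Lib.Helper41.Dickson
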