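import Cfsg.Agent.Lib.Helper41.Dickson.SylowTrick2
import Cfsg.Agent.Lib.Helper41.Dickson.MaxEven
import Cfsg.Agent.Lib.Helper41.Dickson.A5Exists
import Cfsg.Agent.Lib.Helper41.Dickson.WitPSL
import Cfsg.Agent.S0802
import Cfsg.Agent.S0803

/-!
# Dihedral maximal subgroups of `PSL₂(q)`, `q` odd: the small exceptions
-/

set_option autoImplicit false
set_option linter.style.haveILetI false

namespace Cfsg.Agent.Lib.Helper41.Dickson

theorem range_ne_top_of_equiv {G Q : Type*} [Group G] [Finite G] [Group Q] (H : Subgroup G)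
    (e : H ≃* Q) (hQG : Nat.card Q ≠ Nat.card G) :
    Function.Injective (H.subtype.comp e.symm.toMonoidHom) ∧
      (H.subtype.comp e.symm.toMonoidHom).range ≠ ⊤ := by
  have hinj : Function.Injective (H.subtype.comp e.symm.toMonoidHom) :=
    H.subtype_injective.comp e.symm.injective
  refine ⟨hinj, fun h => hQG ?_⟩
  rw [← Subgroup.card_top (G := G), ← h]
  exact Nat.card_congr (MonoidHom.ofInjective hinj).toEquiv

theorem sylow_trick_self' {G Q : Type*} [Group G] [Finite G] [IsSimpleGroup G] [Group Q] [Finite Q]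
    (r a : ℕ) [Fact r.Prime] (ha : a ≠ 0) (hra : ¬ r ^ (a + 1) ∣ Nat.card G)
    (M : Subgroup G) (hM : IsCoatom M) (hT : Nat.card M = r ^ a)
    (H : Subgroup G) (e : H ≃* Q) (hQG : Nat.card Q ≠ Nat.card G) (hdvd : r ^ a ∣ Nat.card Q)
    (hQM : Nat.card Q ≠ Nat.card M) : False :=
  sylow_trick_self r a ha hra M hM hT _ (range_ne_top_of_equiv H e hQG).1
    (range_ne_top_of_equiv H e hQG).2 hdvd hQM

theorem le_normalizer_of_conj_mem {G : Type*} [Group G] (M T : Subgroup G)
    (h : ∀ g ∈ M, ∀ x ∈ T, g * x * g⁻¹ ∈ T) : M ≤ Subgroup.normalizer (T : Set G) := by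
  intro g hg
  rw [Subgroup.mem_normalizer_iff]
  intro x
  refine ⟨h g hg x, fun hx => ?_⟩
  have h1 := h g⁻¹ (M.inv_mem hg) _ hx
  have h2 : g⁻¹ * (g * x * g⁻¹) * g⁻¹⁻¹ = x := by group
  rwa [h2] at h1

theorem dihedral_rot {G : Type*} [Group G] (M : Subgroup G) (k : ℕ) (e : M ≃* DihedralGroup k) :
    ∃ c : G, c ∈ M ∧ orderOf c = k ∧ M ≤ Subgroup.normalizer ((Subgroup.zpowers c : Subgroup G) : Set G) := by
  set c : M := e.symm (DihedralGroup.r 1) with hcdef
  refine ⟨c, c.2, ?_, ?_⟩
  · rw [Subgroup.orderOf_coe, hcdef, e.symm.orderOf_eq, DihedralGroup.orderOf_r_one]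
  · apply le_normalizer_of_conj_mem
    rintro g hg _ ⟨m, rfl⟩
    obtain ⟨n, hn⟩ := dihedral_conj_r k (e ⟨g, hg⟩)
    have h1 : c ^ n = ⟨g, hg⟩ * c * (⟨g, hg⟩ : M)⁻¹ := by
      apply e.injective
      rw [map_zpow, map_mul, map_mul, map_inv, hcdef, e.apply_symm_apply]
      exact hn
    have h2 : (c : G) ^ n = g * c * g⁻¹ := by
      have := congrArg Subtype.val h1
      simpa using this
    simp only
    rw [← MulAut.conj_apply, map_zpow, MulAut.conj_apply, ← h2]
    exact Subgroup.zpow_mem _ (Subgroup.zpow_mem _ (Subgroup.mem_zpowers _) _) _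

theorem dihedral_prime_trick {G Q : Type*} [Group G] [Finite G] [IsSimpleGroup G] [Group Q]
    (r : ℕ) [Fact r.Prime] (hra : ¬ r ^ (1 + 1) ∣ Nat.card G)
    (M : Subgroup G) (hM : IsCoatom M) (e : M ≃* DihedralGroup r)
    (H : Subgroup G) (e' : H ≃* Q) (hQG : Nat.card Q ≠ Nat.card G)
    (T0 : Subgroup Q) (hT0 : Nat.card T0 = r ^ 1)
    (hN : 2 * r ≤ Nat.card (Subgroup.normalizer (T0 : Set Q))) (hQM : Nat.card Q ≠ 2 * r) :
    False := by
  have hMc : Nat.card M = 2 * r := by
    rw [Nat.card_congr e.toEquiv, DihedralGroup.nat_card]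
  obtain ⟨c, -, hc, hn⟩ := dihedral_rot M r e
  exact sylow_trick r 1 one_ne_zero hra M hM (Subgroup.zpowers c)
    (by rw [Nat.card_zpowers, hc, pow_one]) hn _ (range_ne_top_of_equiv H e' hQG).1
    (range_ne_top_of_equiv H e' hQG).2 T0 hT0 (by rw [hMc]; exact hN) (by rw [hMc]; exact hQM)

section PSL

variable {F : Type*} [Field F] [Fintype F]

local notation "PSL2" => Matrix.ProjectiveSpecialLinearGroup (Fin 2) F

theorem dihedral_excl (hodd : Odd (Fintype.card F)) (h5 : 5 ≤ Fintype.card F)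
    (M : Subgroup PSL2) (hM : IsCoatom M) (k : ℕ) (e : M ≃* DihedralGroup k) :
    (2 * k = Fintype.card F - 1 → 13 ≤ Fintype.card F) ∧
    (2 * k = Fintype.card F + 1 → Fintype.card F ≠ 7 ∧ Fintype.card F ≠ 9) := by
  classical
  haveI : IsSimpleGroup PSL2 := Matrix.ProjectiveSpecialLinearGroup.rank_two_simple (by
    rw [Nat.card_eq_fintype_card]; omega)
  haveI : Fact (Nat.Prime 2) := ⟨by norm_num⟩
  haveI : Fact (Nat.Prime 3) := ⟨by norm_num⟩
  haveI : Fact (Nat.Prime 5) := ⟨by norm_num⟩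
  have hG := two_mul_card_psl hodd
  have hMc : Nat.card M = 2 * k := by
    rw [Nat.card_congr e.toEquiv, DihedralGroup.nat_card]
  obtain ⟨p, hp, hchar⟩ := exists_char_prime F
  haveI : Fact p.Prime := ⟨hp⟩
  haveI := hchar
  obtain ⟨n, -, hn⟩ := FiniteField.card F p
  -- the three families of overgroups
  have hA4 : ∃ H : Subgroup PSL2, Nonempty (H ≃* alternatingGroup (Fin 4)) :=
    (Cfsg.Agent.S0802.result p n hn).2 (fun h => char_ne_two_of_odd p hodd h.1)
  have hGq : ∀ q g : ℕ, Fintype.card F = q → q * (q ^ 2 - 1) = 2 * g → Nat.card PSL2 = g := by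
    intro q g h1 h2
    rw [h1, h2] at hG
    omega
  have case8 : Fintype.card F = 7 ∨ Fintype.card F = 9 → k = 4 → False := by
    intro hq hk
    obtain ⟨H, ⟨e'⟩⟩ := (Cfsg.Agent.S0803.result (F := F) rfl).2
      (by rcases hq with h | h <;> rw [h] <;> norm_num)
    have hG' : Nat.card PSL2 = 168 ∨ Nat.card PSL2 = 360 := by
      rcases hq with h | h
      · exact Or.inl (hGq 7 168 h (by norm_num))
      · exact Or.inr (hGq 9 360 h (by norm_num))
    refine sylow_trick_self' 2 3 (by norm_num) ?_ M hM (by rw [hMc, hk]; norm_num) H e' ?_ ?_ ?_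
    · rcases hG' with h | h <;> rw [h] <;> norm_num
    · rw [natCard_perm_four]
      rcases hG' with h | h <;> rw [h] <;> norm_num
    · rw [natCard_perm_four]; norm_num
    · rw [natCard_perm_four, hMc, hk]; norm_num
  have case5 : Fintype.card F = 9 ∨ Fintype.card F = 11 → k = 5 → False := by
    intro hq hk
    subst hk
    obtain ⟨H, ⟨e'⟩⟩ := exists_alt_five (F := F) (by rcases hq with h | h <;> rw [h] <;> norm_num)
    obtain ⟨T0, hT0, hN⟩ := alt5_five
    have hG' : Nat.card PSL2 = 360 ∨ Nat.card PSL2 = 660 := by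
      rcases hq with h | h
      · exact Or.inl (hGq 9 360 h (by norm_num))
      · exact Or.inr (hGq 11 660 h (by norm_num))
    refine dihedral_prime_trick 5 ?_ M hM e H e' ?_ T0 hT0 hN ?_
    · rcases hG' with h | h <;> rw [h] <;> norm_num
    · rw [natCard_alt_five]
      rcases hG' with h | h <;> rw [h] <;> norm_num
    · rw [natCard_alt_five]; norm_num
  constructor
  · intro hk
    by_contra hcon
    push Not at hcon
    obtain ⟨j, hj⟩ := hodd
    have hq : Fintype.card F = 5 ∨ Fintype.card F = 7 ∨ Fintype.card F = 9 ∨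
      Fintype.card F = 11 := by omega
    rcases hq with hq | hq | hq | hq
    · -- q = 5
      obtain ⟨H, ⟨e'⟩⟩ := hA4
      have hk2 : k = 2 := by omega
      have hG' : Nat.card PSL2 = 60 := hGq 5 60 hq (by norm_num)
      refine sylow_trick_self' 2 2 (by norm_num) ?_ M hM (by rw [hMc, hk2]; norm_num) H e' ?_ ?_ ?_
      · rw [hG']; norm_num
      · rw [natCard_alt_four, hG']; norm_num
      · rw [natCard_alt_four]; norm_num
      · rw [natCard_alt_four, hMc, hk2]; norm_num
    · -- q = 7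
      have hk2 : k = 3 := by omega
      subst hk2
      obtain ⟨H, ⟨e'⟩⟩ := (Cfsg.Agent.S0803.result (F := F) rfl).2 (by rw [hq]; norm_num)
      obtain ⟨T0, hT0, hN⟩ := perm4_three
      have hG' : Nat.card PSL2 = 168 := hGq 7 168 hq (by norm_num)
      refine dihedral_prime_trick 3 ?_ M hM e H e' ?_ T0 hT0 hN ?_
      · rw [hG']; norm_num
      · rw [natCard_perm_four, hG']; norm_num
      · rw [natCard_perm_four]; norm_num
    · exact case8 (Or.inr hq) (by omega)
    · exact case5 (Or.inr hq) (by omega)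
  · intro hk
    constructor
    · intro hq
      exact case8 (Or.inl hq) (by omega)
    · intro hq
      exact case5 (Or.inl hq) (by omega)

end PSL

end Cfsg.Agent.Lib.Helper41.Dickson
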