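import Cfsg.Agent.Lib.Helper41.Dickson.TraceAlg
import Cfsg.Agent.Lib.Helper41.Dickson.Cards

/-!
# Maximal subfield subgroups have prime exponent
-/

set_option autoImplicit false
set_option linter.style.haveILetI false
set_option linter.unusedSectionVars false
set_option linter.unusedSimpArgs false

namespace Cfsg.Agent.Lib.Helper41.Dickson

open Matrix
open Cfsg.Agent.Lib.Helper41

variable {F : Type*} [Field F] [Fintype F]

local notation "SL2" => Matrix.SpecialLinearGroup (Fin 2) F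
local notation "PSL2" => Matrix.ProjectiveSpecialLinearGroup (Fin 2) F
local notation "M2" => Matrix (Fin 2) (Fin 2) F

theorem pow_pow_fix {R : Type*} [Monoid R] (x : R) (k : ℕ) (h : x ^ k = x) (a : ℕ) :
    x ^ k ^ a = x := by
  induction a with
  | zero => simp
  | succ a ih => rw [pow_succ, pow_mul, ih, h]

/-- **Lemma P**: a maximal subgroup `M` of `PSL₂(F)`, `|F| = k^m`, `k = p^j`, with an element of
order `p`, all traces fixed by `x ↦ x^k` and `p`-part at most `k`: then `m` is prime. -/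
theorem prime_exponent (p : ℕ) [Fact p.Prime] [CharP F p] (M : Subgroup PSL2) (hM : IsCoatom M)
    (j m : ℕ) (hj : j ≠ 0) (hm : 2 ≤ m) (hq : Fintype.card F = (p ^ j) ^ m)
    (htr : ∀ X : SL2, (QuotientGroup.mk X : PSL2) ∈ M →
      Matrix.trace (X : M2) ^ p ^ j = Matrix.trace (X : M2))
    (u : PSL2) (hu : u ∈ M) (hu1 : u ≠ 1) (hup : u ^ p = 1)
    (hpart : ∀ n : ℕ, p ^ n ∣ Nat.card M → p ^ n ≤ p ^ j) : m.Prime := by
  by_contra hnp
  obtain ⟨a, ⟨b, hab⟩, ha1, ha2⟩ := Nat.exists_dvd_of_not_prime2 hm hnp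
  have hp1 : 1 < p := (Fact.out : p.Prime).one_lt
  have hk1 : 1 < p ^ j := Nat.one_lt_pow hj hp1
  have hja : j * a ≠ 0 := Nat.mul_ne_zero hj (by omega)
  have hpow : p ^ (j * a) = (p ^ j) ^ a := pow_mul p j a
  have hK : frobFix F p (j * a) ≠ ⊤ := by
    apply frobFix_ne_top p _ hja
    rw [hq, hpow]
    exact Nat.pow_lt_pow_right hk1 ha2
  have htr' : ∀ X : SL2, (QuotientGroup.mk X : PSL2) ∈ M →
      Matrix.trace (X : M2) ∈ frobFix F p (j * a) := by
    intro X hX
    rw [mem_frobFix, hpow]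
    exact pow_pow_fix _ _ (htr X hX) a
  have h1 := card_dvd_of_isCoatom p M hM _ hK htr' u hu hu1 hup
  have h2 : p ^ (j * a) ≤ Nat.card (frobFix F p (j * a)) := by
    apply le_card_frobFix
    rw [hq, hpow, hab, pow_mul]
    have := Nat.sub_dvd_pow_sub_pow ((p ^ j) ^ a) 1 b
    simpa using this
  haveI : Fintype (frobFix F p (j * a)) := Fintype.ofFinite _
  haveI : CharP (frobFix F p (j * a)) p :=
    RingHom.charP (frobFix F p (j * a)).subtype (frobFix F p (j * a)).subtype.injective p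
  obtain ⟨n, -, hn⟩ := FiniteField.card (frobFix F p (j * a)) p
  rw [Nat.card_eq_fintype_card, hn] at h1 h2
  have h3 := hpart n h1
  have h4 : (p ^ j) ^ 1 < (p ^ j) ^ a := Nat.pow_lt_pow_right hk1 (by omega)
  rw [pow_one, ← hpow] at h4
  omega

end Cfsg.Agent.Lib.Helper41.Dickson
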