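import Cfsg.Agent.Lib.Helper41.Dickson.MaxOddTools
import Cfsg.Agent.Lib.Helper41.Dickson.MaxOddDih
import Cfsg.Agent.Lib.Helper41.Dickson.PrimeExp
import Cfsg.Agent.Lib.Helper41.Dickson.MaxTools
import Cfsg.Agent.S0251

/-!
# Maximal subgroups of `PSL₂(q)`, `q` odd: the case `A₄`
-/

set_option autoImplicit false
set_option linter.style.haveILetI false
set_option linter.unusedSectionVars false
set_option linter.unusedSimpArgs false

namespace Cfsg.Agent.Lib.Helper41.Dickson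

open Cfsg.Agent.Lib.Helper41

theorem transport_normal {G Q : Type*} [Group G] [Group Q] (M : Subgroup G) (e : M ≃* Q)
    (V0 : Subgroup Q) [hV0 : V0.Normal] :
    ∃ V : Subgroup G, V ≤ M ∧ Nat.card V = Nat.card V0 ∧ M ≤ Subgroup.normalizer (V : Set G) ∧
      ∀ v ∈ V, ∃ hm : v ∈ M, e ⟨v, hm⟩ ∈ V0 := by
  refine ⟨(V0.map e.symm.toMonoidHom).map M.subtype, ?_, ?_, ?_, ?_⟩
  · rintro _ ⟨x, -, rfl⟩
    exact x.2
  · exact (Nat.card_congr (((V0.map e.symm.toMonoidHom).equivMapOfInjective M.subtype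
      M.subtype_injective).symm.toEquiv)).trans (Nat.card_congr
        ((V0.equivMapOfInjective e.symm.toMonoidHom e.symm.injective).symm.toEquiv))
  · apply le_normalizer_of_conj_mem
    rintro g hg _ ⟨_, ⟨w, hw, rfl⟩, rfl⟩
    refine ⟨e.symm (e ⟨g, hg⟩ * w * (e ⟨g, hg⟩)⁻¹), ⟨_, hV0.conj_mem w hw _, rfl⟩, ?_⟩
    simp
  · rintro _ ⟨_, ⟨w, hw, rfl⟩, rfl⟩
    refine ⟨(e.symm w).2, ?_⟩
    simpa using hw

theorem normalizer_eq_of_coatom {G : Type*} [Group G] [IsSimpleGroup G] (M : Subgroup G)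
    (hM : IsCoatom M) (V : Subgroup G) (hV1 : V ≠ ⊥) (hVM : V ≤ M)
    (hn : M ≤ Subgroup.normalizer (V : Set G)) : Subgroup.normalizer (V : Set G) = M := by
  rcases hM.le_iff.1 hn with h | h
  · exfalso
    haveI : V.Normal := Subgroup.normalizer_eq_top_iff.1 h
    rcases IsSimpleGroup.eq_bot_or_eq_top_of_normal V inferInstance with h1 | h1
    · exact hV1 h1
    · apply hM.1
      rw [eq_top_iff, ← h1]
      exact hVM
  · exact h

theorem eight_dvd_of_mod {q g : ℕ} (hg : 2 * g = q * (q ^ 2 - 1)) (h : q % 8 = 1 ∨ q % 8 = 7) :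
    8 ∣ g := by
  have h16 : 16 ∣ q ^ 2 - 1 := by
    rcases h with h | h
    · obtain ⟨a, rfl⟩ : ∃ a, q = 8 * a + 1 := ⟨q / 8, by omega⟩
      exact ⟨4 * a ^ 2 + a, Nat.sub_eq_of_eq_add (by ring)⟩
    · obtain ⟨a, rfl⟩ : ∃ a, q = 8 * a + 7 := ⟨q / 8, by omega⟩
      exact ⟨4 * a ^ 2 + 7 * a + 3, Nat.sub_eq_of_eq_add (by ring)⟩
  obtain ⟨c, hc⟩ := h16
  rw [hc] at hg
  exact ⟨q * c, by nlinarith⟩

theorem five_dvd_of_mod {q : ℕ} (h : q % 10 = 1 ∨ q % 10 = 9) : 5 ∣ q * (q ^ 2 - 1) := by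
  apply Dvd.dvd.mul_left
  rcases h with h | h
  · obtain ⟨a, rfl⟩ : ∃ a, q = 10 * a + 1 := ⟨q / 10, by omega⟩
    exact ⟨20 * a ^ 2 + 4 * a, Nat.sub_eq_of_eq_add (by ring)⟩
  · obtain ⟨a, rfl⟩ : ∃ a, q = 10 * a + 9 := ⟨q / 10, by omega⟩
    exact ⟨20 * a ^ 2 + 36 * a + 16, Nat.sub_eq_of_eq_add (by ring)⟩

variable {F : Type*} [Field F] [Fintype F]

local notation "SL2" => Matrix.SpecialLinearGroup (Fin 2) F
local notation "PSL2" => Matrix.ProjectiveSpecialLinearGroup (Fin 2) F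
local notation "M2" => Matrix (Fin 2) (Fin 2) F

theorem two_ne_zero_of_odd (hodd : Odd (Fintype.card F)) : (2 : F) ≠ 0 := by
  obtain ⟨p, hp, hchar⟩ := exists_char_prime F
  haveI : Fact p.Prime := ⟨hp⟩
  haveI := hchar
  have hp2 := char_ne_two_of_odd p hodd
  intro h
  have h3 : ((2 : ℕ) : F) = 0 := by exact_mod_cast h
  rw [CharP.cast_eq_zero_iff F p] at h3
  exact hp2 ((Nat.prime_dvd_prime_iff_eq hp Nat.prime_two).1 h3)

theorem alt_four_case (p : ℕ) [Fact p.Prime] [CharP F p] (hodd : Odd (Fintype.card F))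
    (h5 : 5 ≤ Fintype.card F) (M : Subgroup PSL2) (hM : IsCoatom M)
    (e : M ≃* alternatingGroup (Fin 4)) :
    (∃ (F₀ : Type) (_ : Field F₀) (_ : Fintype F₀) (r : ℕ), r.Prime ∧ Odd r ∧
        Fintype.card F = Fintype.card F₀ ^ r ∧
        Nonempty (M ≃* Matrix.ProjectiveSpecialLinearGroup (Fin 2) F₀)) ∨
    (Fintype.card F = p ∧ (p % 8 = 3 ∨ p % 8 = 5) ∧ ¬ (p % 10 = 1 ∨ p % 10 = 9) ∧
        Nonempty (M ≃* alternatingGroup (Fin 4))) := by
  classical
  haveI : IsSimpleGroup PSL2 := Matrix.ProjectiveSpecialLinearGroup.rank_two_simple (by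
    rw [Nat.card_eq_fintype_card]; omega)
  haveI : Fact (Nat.Prime 2) := ⟨by norm_num⟩
  have hp : p.Prime := Fact.out
  have hp2 := char_ne_two_of_odd p hodd
  have h2 := two_ne_zero_of_odd hodd
  have hG := two_mul_card_psl hodd
  have hMc : Nat.card M = 12 := by rw [Nat.card_congr e.toEquiv, natCard_alt_four]
  have h4 : Nat.card (Fin 4) = 4 := by simp
  haveI := alternatingGroup.normal_kleinFour h4
  obtain ⟨V, hVM, hVc, hVn, hVe⟩ := transport_normal M e (alternatingGroup.kleinFour (Fin 4))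
  rw [alternatingGroup.kleinFour_card_of_card_eq_four h4] at hVc
  have hV1 : V ≠ ⊥ := by
    rintro rfl
    rw [Subgroup.card_bot] at hVc
    omega
  have hNV := normalizer_eq_of_coatom M hM V hV1 hVM hVn
  have hord : ∀ g ∈ M, g ^ 2 = 1 ∨ g ^ 3 = 1 := by
    intro g hg
    have := orderOf_of_alt_four e ⟨g, hg⟩
    rw [Subgroup.orderOf_mk] at this
    rcases this with h | h
    · exact Or.inl (orderOf_dvd_iff_pow_eq_one.1 h)
    · exact Or.inr (orderOf_dvd_iff_pow_eq_one.1 h)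
  have hV2 : ∀ v ∈ V, v ^ 2 = 1 := by
    intro v hv
    have h6 : orderOf v ∣ 4 := by
      have := orderOf_dvd_natCard (⟨v, hv⟩ : V)
      rwa [Subgroup.orderOf_mk, hVc] at this
    rcases hord v (hVM hv) with h | h
    · exact h
    · have h7 : orderOf v ∣ 3 := orderOf_dvd_of_pow_eq_one h
      have h8 : orderOf v ∣ Nat.gcd 4 3 := Nat.dvd_gcd h6 h7
      have h9 : orderOf v = 1 := Nat.dvd_one.1 (by simpa using h8)
      rw [orderOf_eq_one_iff.1 h9, one_pow]
  have h8 : ¬ 2 ^ (2 + 1) ∣ Nat.card PSL2 := by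
    intro hdvd
    have := Sylow.prime_pow_dvd_card_normalizer hdvd (H := V) (by rw [hVc]; norm_num)
    rw [hNV, hMc] at this
    norm_num at this
  have hq8 : ¬ (Fintype.card F % 8 = 1 ∨ Fintype.card F % 8 = 7) := fun h =>
    h8 (by simpa using eight_dvd_of_mod hG h)
  have htr : ∀ j : ℕ, ∀ X : SL2, (QuotientGroup.mk X : PSL2) ∈ M →
      Matrix.trace (X : M2) ^ p ^ j = Matrix.trace (X : M2) := by
    intro j X hX
    obtain ⟨z, hz⟩ := trace_int_of_two_three X (hord _ hX)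
    rw [hz, intCast_pow_char]
  obtain ⟨n, -, hn⟩ := FiniteField.card F p
  by_cases hn1 : (n : ℕ) = 1
  · right
    rw [hn1, pow_one] at hn
    refine ⟨hn, ?_, ?_, ⟨e⟩⟩
    · rw [hn] at hq8 hodd
      obtain ⟨j, hj⟩ := hodd
      omega
    · intro h10
      obtain ⟨H, ⟨e'⟩⟩ := exists_alt_five (F := F) (by rw [hn]; exact five_dvd_of_mod h10)
      obtain ⟨T0, hT0, hN⟩ := alt5_four
      have hQG : Nat.card (alternatingGroup (Fin 5)) ≠ Nat.card PSL2 := by
        rw [natCard_alt_five]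
        intro h60
        rw [← h60, hn] at hG
        have hp11 : 11 ≤ p := by
          rw [hn] at h5
          omega
        have h1 : 11 * (11 ^ 2 - 1) ≤ p * (p ^ 2 - 1) :=
          Nat.mul_le_mul hp11 (Nat.sub_le_sub_right (Nat.pow_le_pow_left hp11 2) 1)
        omega
      exact sylow_trick 2 2 (by norm_num) h8 M hM V (by rw [hVc]; norm_num) hVn _
        (range_ne_top_of_equiv H e' hQG).1 (range_ne_top_of_equiv H e' hQG).2 T0 hT0
        (by rw [hMc]; exact hN) (by rw [natCard_alt_five, hMc]; norm_num)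
  · left
    have hn2 : 2 ≤ (n : ℕ) := by
      have := n.pos
      omega
    have hlt : p ^ 1 < Fintype.card F := by
      rw [hn]
      exact Nat.pow_lt_pow_right hp.one_lt (by omega)
    obtain ⟨a, ha0, hdvd, -⟩ := klein_frob p h2 M hM 1 one_ne_zero hlt (htr 1) V hVM hVc hV2
    have hp12 : p ∣ 12 := by
      rw [← hMc]
      exact (dvd_pow_self p ha0).trans hdvd
    have hp3 : p = 3 := by
      have h12 : (12 : ℕ) = 2 ^ 2 * 3 := by norm_num
      rw [h12] at hp12
      rcases (Nat.Prime.dvd_mul hp).1 hp12 with h | h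
      · exact absurd ((Nat.prime_dvd_prime_iff_eq hp Nat.prime_two).1 (hp.dvd_of_dvd_pow h)) hp2
      · exact (Nat.prime_dvd_prime_iff_eq hp Nat.prime_three).1 h
    subst hp3
    obtain ⟨u, hu⟩ := exists_prime_orderOf_dvd_card' (G := M) 3 (by rw [hMc]; norm_num)
    have hprime := prime_exponent 3 M hM 1 n one_ne_zero hn2 (by rw [hn, pow_one]) (htr 1) u u.2
      (by
        intro h
        have : u = 1 := Subtype.ext h
        rw [this, orderOf_one] at hu
        omega)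
      (by
        have := pow_orderOf_eq_one u
        rw [hu] at this
        exact congrArg Subtype.val this)
      (by
        intro k hk
        rw [hMc] at hk
        apply Nat.pow_le_pow_right (by norm_num)
        by_contra hcon
        have h9 : 3 ^ 2 ∣ 12 := (pow_dvd_pow 3 (by omega)).trans hk
        norm_num at h9)
    have hnodd : Odd (n : ℕ) := by
      rcases hprime.eq_two_or_odd' with h | h
      · exfalso
        apply hq8
        rw [hn, h]
        norm_num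
      · exact h
    obtain ⟨e2⟩ := Cfsg.Agent.S0251.result (F := ZMod 3) (ZMod.card 3)
    exact ⟨ZMod 3, inferInstance, inferInstance, n, hprime, hnodd, by rw [hn, ZMod.card 3],
      ⟨e.trans e2.symm⟩⟩

end Cfsg.Agent.Lib.Helper41.Dickson
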