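import Cfsg.Agent.Lib.Helper41.Dickson.MaxOddA4
import Cfsg.Agent.S0253

/-!
# Maximal subgroups of `PSL₂(q)`, `q` odd: the case `A₅`
-/

set_option autoImplicit false
set_option linter.style.haveILetI false
set_option linter.unusedSectionVars false
set_option linter.unusedSimpArgs false

namespace Cfsg.Agent.Lib.Helper41.Dickson

open Cfsg.Agent.Lib.Helper41

theorem mod_ten_of_five_dvd {q : ℕ} (hodd : q % 2 = 1) (h : 5 ∣ q ^ 2 - 1) :
    q % 10 = 1 ∨ q % 10 = 9 := by
  have hpos : 1 ≤ q ^ 2 := Nat.one_le_pow _ _ (by omega)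
  have h1 : q ^ 2 % 5 = 1 := by omega
  rw [Nat.pow_mod] at h1
  have h5 : q % 5 < 5 := Nat.mod_lt _ (by norm_num)
  interval_cases h6 : q % 5 <;> simp at h1 <;> omega

theorem exists_four_subgroup {G : Type*} [Group G] [Finite G] (M : Subgroup G)
    (h4 : 4 ∣ Nat.card M) : ∃ V : Subgroup G, V ≤ M ∧ Nat.card V = 4 := by
  haveI : Fact (Nat.Prime 2) := ⟨by norm_num⟩
  obtain ⟨V', hV'⟩ := Sylow.exists_subgroup_card_pow_prime (G := M) 2 (n := 2) (by simpa using h4)
  refine ⟨V'.map M.subtype, ?_, ?_⟩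
  · rintro _ ⟨x, -, rfl⟩
    exact x.2
  · rw [← Nat.card_congr (V'.equivMapOfInjective M.subtype M.subtype_injective).toEquiv, hV']
    norm_num

variable {F : Type*} [Field F]

local notation "SL2" => Matrix.SpecialLinearGroup (Fin 2) F
local notation "PSL2" => Matrix.ProjectiveSpecialLinearGroup (Fin 2) F
local notation "M2" => Matrix (Fin 2) (Fin 2) F

theorem golden_root_cases {τ0 σ : F} (h0 : τ0 ^ 2 + τ0 - 1 = 0) (h : σ ^ 2 + σ - 1 = 0) :
    σ = τ0 ∨ σ = -1 - τ0 := by
  have h1 : (σ - τ0) * (σ + τ0 + 1) = 0 := by linear_combination h - h0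
  rcases mul_eq_zero.1 h1 with h2 | h2
  · exact Or.inl (sub_eq_zero.1 h2)
  · exact Or.inr (by linear_combination h2)

/-- traces of lifts of elements of order dividing `2`, `3`, `5` lie in every subfield containing a
golden root -/
theorem trace_mem_of_golden (K : Subfield F) {τ0 : F} (h0 : τ0 ^ 2 + τ0 - 1 = 0) (hK : τ0 ∈ K)
    (X : SL2) (h : (QuotientGroup.mk X : PSL2) ^ 2 = 1 ∨ (QuotientGroup.mk X : PSL2) ^ 3 = 1 ∨
      (QuotientGroup.mk X : PSL2) ^ 5 = 1) : Matrix.trace (X : M2) ∈ K := by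
  have hint : (QuotientGroup.mk X : PSL2) ^ 2 = 1 ∨ (QuotientGroup.mk X : PSL2) ^ 3 = 1 →
      Matrix.trace (X : M2) ∈ K := by
    intro h
    obtain ⟨z, hz⟩ := trace_int_of_two_three X h
    rw [hz]
    exact intCast_mem K z
  rcases h with h | h | h
  · exact hint (Or.inl h)
  · exact hint (Or.inr h)
  · by_cases hne : (QuotientGroup.mk X : PSL2) = 1
    · exact hint (Or.inl (by rw [hne, one_pow]))
    · have h1 := trace_of_order_five X hne h
      set σ := Matrix.trace (X : M2) with hσ
      have h2 : (σ ^ 2 + σ - 1) * ((-σ) ^ 2 + (-σ) - 1) = 0 := by linear_combination h1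
      rcases mul_eq_zero.1 h2 with h3 | h3
      · rcases golden_root_cases h0 h3 with h4 | h4
        · rw [h4]; exact hK
        · rw [h4]; exact K.sub_mem (K.neg_mem K.one_mem) hK
      · have h5 : -σ ∈ K := by
          rcases golden_root_cases h0 h3 with h4 | h4
          · rw [h4]; exact hK
          · rw [h4]; exact K.sub_mem (K.neg_mem K.one_mem) hK
        have := K.neg_mem h5
        rwa [neg_neg] at this

theorem golden_frob_two (p : ℕ) [Fact p.Prime] [CharP F p] {τ0 : F} (h0 : τ0 ^ 2 + τ0 - 1 = 0) :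
    τ0 ^ p ^ 2 = τ0 := by
  have h1 : (τ0 ^ p) ^ 2 + τ0 ^ p - 1 = 0 := by
    have := congrArg (frobenius F p) h0
    rw [map_sub, map_add, map_pow, map_one, map_zero, frobenius_def] at this
    exact this
  rw [pow_two, pow_mul]
  rcases golden_root_cases h0 h1 with h2 | h2
  · rw [h2, h2]
  · rw [h2]
    have h3 : (-1 - τ0) ^ p = -1 - τ0 ^ p := by
      have := map_sub (frobenius F p) (-1) τ0
      rw [map_neg, map_one, frobenius_def, frobenius_def] at this
      exact this
    rw [h3, h2]; ring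

theorem alt_five_case [Fintype F] (p : ℕ) [Fact p.Prime] [CharP F p]
    (hodd : Odd (Fintype.card F))
    (h5 : 5 ≤ Fintype.card F) (M : Subgroup PSL2) (hM : IsCoatom M)
    (e : M ≃* alternatingGroup (Fin 5)) :
    (∃ (F₀ : Type) (_ : Field F₀) (_ : Fintype F₀) (r : ℕ), r.Prime ∧ Odd r ∧
        Fintype.card F = Fintype.card F₀ ^ r ∧
        Nonempty (M ≃* Matrix.ProjectiveSpecialLinearGroup (Fin 2) F₀)) ∨
    ((Fintype.card F % 10 = 1 ∨ Fintype.card F % 10 = 9) ∧
        (Fintype.card F = p ∨ (Fintype.card F = p ^ 2 ∧ (p % 10 = 3 ∨ p % 10 = 7))) ∧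
        Nonempty (M ≃* alternatingGroup (Fin 5))) := by
  classical
  haveI : Fact (Nat.Prime 5) := ⟨by norm_num⟩
  have hp : p.Prime := Fact.out
  have hp2 := char_ne_two_of_odd p hodd
  have h2 := two_ne_zero_of_odd hodd
  have hG := two_mul_card_psl hodd
  have hMc : Nat.card M = 60 := by rw [Nat.card_congr e.toEquiv, natCard_alt_five]
  have hord : ∀ g ∈ M, g ^ 2 = 1 ∨ g ^ 3 = 1 ∨ g ^ 5 = 1 := by
    intro g hg
    have := orderOf_of_alt_five e ⟨g, hg⟩
    rw [Subgroup.orderOf_mk] at this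
    rcases this with h | h | h
    · exact Or.inl (orderOf_dvd_iff_pow_eq_one.1 h)
    · exact Or.inr (Or.inl (orderOf_dvd_iff_pow_eq_one.1 h))
    · exact Or.inr (Or.inr (orderOf_dvd_iff_pow_eq_one.1 h))
  obtain ⟨V, hVM, hVc⟩ := exists_four_subgroup M (by rw [hMc]; norm_num)
  have hV2 : ∀ v ∈ V, v ^ 2 = 1 := by
    intro v hv
    have h6 : orderOf v ∣ 4 := by
      have := orderOf_dvd_natCard (⟨v, hv⟩ : V)
      rwa [Subgroup.orderOf_mk, hVc] at this
    rcases hord v (hVM hv) with h | h | h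
    · exact h
    · have h7 : orderOf v ∣ 3 := orderOf_dvd_of_pow_eq_one h
      have h8 : orderOf v ∣ Nat.gcd 4 3 := Nat.dvd_gcd h6 h7
      have h9 : orderOf v = 1 := Nat.dvd_one.1 (by simpa using h8)
      rw [orderOf_eq_one_iff.1 h9, one_pow]
    · have h7 : orderOf v ∣ 5 := orderOf_dvd_of_pow_eq_one h
      have h8 : orderOf v ∣ Nat.gcd 4 5 := Nat.dvd_gcd h6 h7
      have h9 : orderOf v = 1 := Nat.dvd_one.1 (by simpa using h8)
      rw [orderOf_eq_one_iff.1 h9, one_pow]
  obtain ⟨u, hu⟩ := exists_prime_orderOf_dvd_card' (G := M) 5 (by rw [hMc]; norm_num)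
  have hu1 : (u : PSL2) ≠ 1 := by
    intro h
    have : u = 1 := Subtype.ext h
    rw [this, orderOf_one] at hu
    omega
  have hu5 : (u : PSL2) ^ 5 = 1 := by
    have := pow_orderOf_eq_one u
    rw [hu] at this
    exact congrArg Subtype.val this
  obtain ⟨n, -, hn⟩ := FiniteField.card F p
  by_cases hp5 : p = 5
  · subst hp5
    left
    have htr : ∀ j : ℕ, ∀ X : SL2, (QuotientGroup.mk X : PSL2) ∈ M →
        Matrix.trace (X : M2) ^ 5 ^ j = Matrix.trace (X : M2) := by
      intro j X hX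
      obtain ⟨z, hz⟩ : ∃ z : ℤ, Matrix.trace (X : M2) = z := by
        rcases hord _ hX with h | h | h
        · exact trace_int_of_two_three X (Or.inl h)
        · exact trace_int_of_two_three X (Or.inr h)
        · rcases trace_of_pow_p 5 X h with h1 | h1
          · exact ⟨2, by rw [h1]; norm_num⟩
          · exact ⟨-2, by rw [h1]; norm_num⟩
      rw [hz, intCast_pow_char]
    have hn2 : 2 ≤ (n : ℕ) := by
      by_contra hcon
      have hn1 : (n : ℕ) = 1 := by
        have := n.pos
        omega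
      rw [hn1, pow_one] at hn
      rw [hn] at hG
      apply hM.1
      apply Subgroup.eq_top_of_card_eq
      rw [hMc]
      have h120 : 5 * (5 ^ 2 - 1) = 120 := by norm_num
      rw [h120] at hG
      omega
    have hprime := prime_exponent 5 M hM 1 n one_ne_zero hn2 (by rw [hn, pow_one]) (htr 1) u u.2
      hu1 hu5
      (by
        intro k hk
        rw [hMc] at hk
        apply Nat.pow_le_pow_right (by norm_num)
        by_contra hcon
        have h9 : 5 ^ 2 ∣ 60 := (pow_dvd_pow 5 (by omega)).trans hk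
        norm_num at h9)
    have hnodd : Odd (n : ℕ) := by
      rcases hprime.eq_two_or_odd' with h | h
      · exfalso
        rw [h] at hn
        obtain ⟨s, t, hs, -, hs1, -, -, hs2, -, -⟩ := klein_pair V hVc hV2
        refine not_isCoatom_of_squares h2 (by omega) M hM (frobFix F 5 1)
          (frobFix_ne_top 5 1 one_ne_zero (by rw [hn]; norm_num))
          (fun X hX => (mem_frobFix 5 1 _).2 (htr 1 X hX)) s (hVM hs) hs1 hs2 ?_
        intro x hx
        rw [mem_frobFix, pow_one] at hx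
        exact isSquare_of_pow_eq h2 5 (by decide) hn x hx
      · exact h
    obtain ⟨e2⟩ := Cfsg.Agent.S0253.result (F := ZMod 5) (ZMod.card 5)
    exact ⟨ZMod 5, inferInstance, inferInstance, n, hprime, hnodd, by rw [hn, ZMod.card 5],
      ⟨e.trans e2.symm⟩⟩
  · right
    -- a golden root among the traces
    obtain ⟨τ0, h0, hτ⟩ : ∃ τ0 : F, τ0 ^ 2 + τ0 - 1 = 0 ∧ True := by
      obtain ⟨X, hX⟩ := QuotientGroup.mk_surjective (u : PSL2)
      have h1 := trace_of_order_five X (by rw [hX]; exact hu1) (by rw [hX]; exact hu5)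
      set σ := Matrix.trace (X : M2) with hσ
      have h2 : (σ ^ 2 + σ - 1) * ((-σ) ^ 2 + (-σ) - 1) = 0 := by linear_combination h1
      rcases mul_eq_zero.1 h2 with h3 | h3
      · exact ⟨σ, h3, trivial⟩
      · exact ⟨-σ, h3, trivial⟩
    have htr : ∀ i : ℕ, τ0 ^ p ^ i = τ0 → ∀ X : SL2, (QuotientGroup.mk X : PSL2) ∈ M →
        Matrix.trace (X : M2) ^ p ^ i = Matrix.trace (X : M2) := by
      intro i hi X hX
      rw [← mem_frobFix]
      exact trace_mem_of_golden _ h0 ((mem_frobFix p i _).2 hi) X (hord _ hX)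
    have hp3 : ∀ a : ℕ, a ≠ 0 → p ^ a ∣ Nat.card M → p = 3 ∧ a = 1 := by
      intro a ha0 hdvd
      rw [hMc] at hdvd
      have hp60 : p ∣ 60 := (dvd_pow_self p ha0).trans hdvd
      have hp3 : p = 3 := by
        have h60 : (60 : ℕ) = 2 ^ 2 * 3 * 5 := by norm_num
        rw [h60] at hp60
        rcases (Nat.Prime.dvd_mul hp).1 hp60 with h | h
        · rcases (Nat.Prime.dvd_mul hp).1 h with h | h
          · exact absurd ((Nat.prime_dvd_prime_iff_eq hp Nat.prime_two).1 (hp.dvd_of_dvd_pow h)) hp2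
          · exact (Nat.prime_dvd_prime_iff_eq hp Nat.prime_three).1 h
        · exact absurd ((Nat.prime_dvd_prime_iff_eq hp Nat.prime_five).1 h) hp5
      refine ⟨hp3, ?_⟩
      by_contra hcon
      rw [hp3] at hdvd
      have h9 : 3 ^ 2 ∣ 60 := (pow_dvd_pow 3 (by omega)).trans hdvd
      norm_num at h9
    have hn2 : (n : ℕ) ≤ 2 := by
      by_contra hcon
      have hlt : p ^ 2 < Fintype.card F := by
        rw [hn]
        exact Nat.pow_lt_pow_right hp.one_lt (by omega)
      obtain ⟨a, ha0, hdvd, hfix⟩ := klein_frob p h2 M hM 2 (by norm_num) hlt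
        (htr 2 (golden_frob_two p h0)) V hVM hVc hV2
      obtain ⟨hp3, ha1⟩ := hp3 a ha0 hdvd
      have h3 := hfix τ0 (golden_frob_two p h0)
      rw [hp3, ha1, pow_one] at h3
      have h4 : τ0 = 1 := by linear_combination h3 - (τ0 - 1) * h0
      rw [h4] at h0
      norm_num at h0
    have h5G : 5 ∣ Fintype.card F * (Fintype.card F ^ 2 - 1) := by
      rw [← hG]
      apply Dvd.dvd.mul_left
      exact Dvd.dvd.trans (by rw [hMc]; norm_num) (Subgroup.card_subgroup_dvd_card M)
    have h5q : 5 ∣ Fintype.card F ^ 2 - 1 := by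
      rcases (Nat.Prime.dvd_mul Nat.prime_five).1 h5G with h | h
      · exfalso
        rw [hn] at h
        exact hp5 ((Nat.prime_dvd_prime_iff_eq Nat.prime_five hp).1
          (Nat.prime_five.dvd_of_dvd_pow h)).symm
      · exact h
    have hq10 := mod_ten_of_five_dvd (Nat.odd_iff.1 hodd) h5q
    refine ⟨hq10, ?_, ⟨e⟩⟩
    have hn12 : (n : ℕ) = 1 ∨ (n : ℕ) = 2 := by
      have := n.pos
      omega
    rcases hn12 with hn1 | hn2
    · left
      rw [hn, hn1, pow_one]
    · right
      rw [hn2] at hn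
      refine ⟨hn, ?_⟩
      have hpodd : p % 2 = 1 := by
        rcases hp.eq_two_or_odd with h | h
        · exact absurd h hp2
        · exact h
      have hp5' : p % 5 ≠ 0 := by
        intro h
        exact hp5 ((Nat.prime_dvd_prime_iff_eq Nat.prime_five hp).1 (Nat.dvd_of_mod_eq_zero h)).symm
      by_contra hcon
      have h19 : p % 10 = 1 ∨ p % 10 = 9 := by omega
      obtain ⟨ρ, hρ⟩ := exists_golden (F := ZMod p) (by rw [ZMod.card p]; exact five_dvd_of_mod h19)
      let φ := ZMod.castHom (dvd_refl p) F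
      have hφ : φ ρ ^ 2 + φ ρ - 1 = 0 := by
        have := congrArg φ hρ
        simpa using this
      have hmem : φ ρ ∈ frobFix F p 1 := by
        have : φ ρ = ((ρ.val : ℕ) : F) := by
          conv_lhs => rw [← ZMod.natCast_zmod_val ρ]
          rw [map_natCast]
        rw [this]
        exact natCast_mem _ _
      have hτmem : τ0 ∈ frobFix F p 1 := by
        rcases golden_root_cases hφ h0 with h | h
        · rw [h]; exact hmem
        · rw [h]; exact (frobFix F p 1).sub_mem ((frobFix F p 1).neg_mem (frobFix F p 1).one_mem) hmem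
      have hlt : p ^ 1 < Fintype.card F := by
        rw [hn]
        exact Nat.pow_lt_pow_right hp.one_lt (by omega)
      obtain ⟨a, ha0, hdvd, -⟩ := klein_frob p h2 M hM 1 one_ne_zero hlt
        (htr 1 ((mem_frobFix p 1 _).1 hτmem)) V hVM hVc hV2
      obtain ⟨hp3, -⟩ := hp3 a ha0 hdvd
      omega

end Cfsg.Agent.Lib.Helper41.Dickson
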