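import Cfsg.Agent.Lib.Helper41.Dickson.MaxOddA5
import Cfsg.Agent.Lib.Helper19.PGLGlue
import Cfsg.Agent.Lib.Helper5.PermEmbed

/-!
# Maximal subgroups of `PSL₂(q)`, `q` odd: the case `S₄`
-/

set_option autoImplicit false
set_option linter.style.haveILetI false
set_option linter.unusedSectionVars false
set_option linter.unusedSimpArgs false

namespace Cfsg.Agent.Lib.Helper41.Dickson

open Cfsg.Agent.Lib.Helper41

theorem pgl2_three (K : Type*) [Field K] [Fintype K] (hK : Fintype.card K = 3) :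
    Nonempty (Matrix.ProjGenLinGroup (Fin 2) K ≃* Equiv.Perm (Fin 4)) := by
  classical
  have hker := Cfsg.Agent.Lib.Helper19.gl_ker_toPermHom (F := K)
  let f : Matrix.ProjGenLinGroup (Fin 2) K →* Equiv.Perm (OnePoint K) :=
    QuotientGroup.lift (Subgroup.center (GL (Fin 2) K))
      (MulAction.toPermHom (GL (Fin 2) K) (OnePoint K))
      (fun g hg => by rw [← hker] at hg; exact hg)
  have hf : Function.Injective f := by
    rw [injective_iff_map_eq_one]
    intro x hx
    obtain ⟨g, rfl⟩ := Matrix.ProjGenLinGroup.mk_surjective x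
    have h1 : g ∈ (MulAction.toPermHom (GL (Fin 2) K) (OnePoint K)).ker := hx
    rw [hker] at h1
    exact (QuotientGroup.eq_one_iff g).2 h1
  refine Cfsg.Agent.Lib.Helper5.nonempty_mulEquiv_perm_of_injective f hf 4 ?_ ?_
  · show Nat.card (Option K) = 4
    rw [Finite.card_option, Nat.card_eq_fintype_card, hK]
  · rw [natCard_PGL2, Nat.card_eq_fintype_card, hK]
    decide

theorem transport_sub {G Q : Type*} [Group G] [Group Q] (M : Subgroup G) (e : M ≃* Q)
    (V0 : Subgroup Q) :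
    ∃ V : Subgroup G, V ≤ M ∧ Nat.card V = Nat.card V0 ∧
      ∀ (v : G) (hm : v ∈ M), v ∈ V ↔ e ⟨v, hm⟩ ∈ V0 := by
  refine ⟨(V0.map e.symm.toMonoidHom).map M.subtype, ?_, ?_, ?_⟩
  · rintro _ ⟨x, -, rfl⟩
    exact x.2
  · exact (Nat.card_congr (((V0.map e.symm.toMonoidHom).equivMapOfInjective M.subtype
      M.subtype_injective).symm.toEquiv)).trans (Nat.card_congr
        ((V0.equivMapOfInjective e.symm.toMonoidHom e.symm.injective).symm.toEquiv))
  · intro v hm
    constructor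
    · rintro ⟨_, ⟨w, hw, rfl⟩, h⟩
      have h1 : (⟨v, hm⟩ : M) = e.symm w := Subtype.ext h.symm
      rw [h1]
      simpa using hw
    · intro h
      exact ⟨e.symm (e ⟨v, hm⟩), ⟨_, h, rfl⟩, by simp⟩

theorem mod_eight_of_sq {q : ℕ} (h : q ^ 2 % 16 = 1) : q % 8 = 1 ∨ q % 8 = 7 := by
  rw [Nat.pow_mod] at h
  have h5 : q % 16 < 16 := Nat.mod_lt _ (by norm_num)
  interval_cases h6 : q % 16 <;> simp at h <;> omega

variable {F : Type*} [Field F]

local notation "SL2" => Matrix.SpecialLinearGroup (Fin 2) F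
local notation "PSL2" => Matrix.ProjectiveSpecialLinearGroup (Fin 2) F
local notation "M2" => Matrix (Fin 2) (Fin 2) F

theorem sqrt_two_frob (p : ℕ) [Fact p.Prime] [CharP F p] (hp2 : p ≠ 2) {τ0 : F}
    (h0 : τ0 ^ 2 = 2) : τ0 ^ p ^ 2 = τ0 := by
  have hp : p.Prime := Fact.out
  have hodd : Odd p := hp.odd_of_ne_two hp2
  have h1 : (τ0 ^ p) ^ 2 = 2 := by
    rw [← pow_mul, mul_comm, pow_mul, h0]
    have := natCast_pow_char (F := F) p 2 1
    rw [pow_one] at this
    exact_mod_cast this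
  have h2 : (τ0 ^ p - τ0) * (τ0 ^ p + τ0) = 0 := by linear_combination h1 - h0
  rw [pow_two, pow_mul]
  rcases mul_eq_zero.1 h2 with h3 | h3
  · rw [sub_eq_zero.1 h3, sub_eq_zero.1 h3]
  · rw [eq_neg_of_add_eq_zero_left h3, hodd.neg_pow, eq_neg_of_add_eq_zero_left h3, neg_neg]

theorem trace_mem_of_sqrt_two (K : Subfield F) {τ0 : F} (h0 : τ0 ^ 2 = 2) (hK : τ0 ∈ K)
    (X : SL2) (h : (QuotientGroup.mk X : PSL2) ^ 2 = 1 ∨ (QuotientGroup.mk X : PSL2) ^ 3 = 1 ∨
      (QuotientGroup.mk X : PSL2) ^ 4 = 1) : Matrix.trace (X : M2) ∈ K := by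
  have hint : (QuotientGroup.mk X : PSL2) ^ 2 = 1 ∨ (QuotientGroup.mk X : PSL2) ^ 3 = 1 →
      Matrix.trace (X : M2) ∈ K := by
    intro h
    obtain ⟨z, hz⟩ := trace_int_of_two_three X h
    rw [hz]
    exact intCast_mem K z
  rcases h with h | h | h
  · exact hint (Or.inl h)
  · exact hint (Or.inr h)
  · by_cases hne : (QuotientGroup.mk X : PSL2) = 1
    · exact hint (Or.inl (by rw [hne, one_pow]))
    · have h1 := trace_of_order_four X hne h
      set σ := Matrix.trace (X : M2) with hσ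
      have h2 : σ * ((σ - τ0) * (σ + τ0)) = 0 := by linear_combination h1 - σ * h0
      rcases mul_eq_zero.1 h2 with h3 | h3
      · rw [h3]; exact K.zero_mem
      · rcases mul_eq_zero.1 h3 with h4 | h4
        · rw [sub_eq_zero.1 h4]; exact hK
        · rw [eq_neg_of_add_eq_zero_left h4]; exact K.neg_mem hK

theorem perm_four_case [Fintype F] (p : ℕ) [Fact p.Prime] [CharP F p]
    (hodd : Odd (Fintype.card F))
    (h5 : 5 ≤ Fintype.card F) (M : Subgroup PSL2) (hM : IsCoatom M)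
    (e : M ≃* Equiv.Perm (Fin 4)) :
    (∃ (F₀ : Type) (_ : Field F₀) (_ : Fintype F₀), Fintype.card F = Fintype.card F₀ ^ 2 ∧
        Nonempty (M ≃* Matrix.ProjGenLinGroup (Fin 2) F₀)) ∨
    (Fintype.card F = p ∧ (p % 8 = 1 ∨ p % 8 = 7) ∧ Nonempty (M ≃* Equiv.Perm (Fin 4))) := by
  classical
  have hp : p.Prime := Fact.out
  have hp2 := char_ne_two_of_odd p hodd
  have h2 := two_ne_zero_of_odd hodd
  have hMc : Nat.card M = 24 := by rw [Nat.card_congr e.toEquiv, natCard_perm_four]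
  have hord : ∀ g ∈ M, g ^ 2 = 1 ∨ g ^ 3 = 1 ∨ g ^ 4 = 1 := by
    intro g hg
    have := orderOf_of_perm_four e ⟨g, hg⟩
    rw [Subgroup.orderOf_mk] at this
    rcases this with h | h | h
    · exact Or.inl (orderOf_dvd_iff_pow_eq_one.1 h)
    · exact Or.inr (Or.inl (orderOf_dvd_iff_pow_eq_one.1 h))
    · exact Or.inr (Or.inr (orderOf_dvd_iff_pow_eq_one.1 h))
  obtain ⟨M', hM'M, hM'c, hM'mem⟩ := transport_sub M e (alternatingGroup (Fin 4))
  rw [natCard_alt_four] at hM'c
  have hord' : ∀ g ∈ M', g ^ 2 = 1 ∨ g ^ 3 = 1 := by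
    intro g hg
    have h1 := (hM'mem g (hM'M hg)).1 hg
    have h3 : ∀ k : ℕ, (e ⟨g, hM'M hg⟩) ^ k = 1 → g ^ k = 1 := by
      intro k hk
      rw [← map_pow] at hk
      have h4 := e.injective (hk.trans (map_one e).symm)
      exact congrArg Subtype.val h4
    rcases alt4_orders _ h1 with h | h
    · exact Or.inl (h3 2 h)
    · exact Or.inr (h3 3 h)
  obtain ⟨V, hVM', hVc⟩ := exists_four_subgroup M' (by rw [hM'c]; norm_num)
  have hV2 : ∀ v ∈ V, v ^ 2 = 1 := by
    intro v hv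
    have h6 : orderOf v ∣ 4 := by
      have := orderOf_dvd_natCard (⟨v, hv⟩ : V)
      rwa [Subgroup.orderOf_mk, hVc] at this
    rcases hord' v (hVM' hv) with h | h
    · exact h
    · have h7 : orderOf v ∣ 3 := orderOf_dvd_of_pow_eq_one h
      have h8 : orderOf v ∣ Nat.gcd 4 3 := Nat.dvd_gcd h6 h7
      have h9 : orderOf v = 1 := Nat.dvd_one.1 (by simpa using h8)
      rw [orderOf_eq_one_iff.1 h9, one_pow]
  -- an element of order four
  set c4 : Equiv.Perm (Fin 4) := finRotate 4 with hc4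
  have hc4a : c4 ^ 4 = 1 := by decide
  have hc4b : c4 ^ 2 ≠ 1 := by decide
  have hc4c : c4 * c4 ∈ alternatingGroup (Fin 4) := by
    rw [Equiv.Perm.mem_alternatingGroup]; decide
  have hc4d : Equiv.Perm.sign c4 = -1 := by decide
  set g0 : M := e.symm c4 with hg0
  have hg0a : (g0 : PSL2) ^ 4 = 1 := by
    have : g0 ^ 4 = 1 := by rw [hg0, ← map_pow, hc4a, map_one]
    exact congrArg Subtype.val this
  have hg0b : (g0 : PSL2) ^ 2 ≠ 1 := by
    intro h
    have h1 : g0 ^ 2 = 1 := Subtype.ext h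
    rw [hg0, ← map_pow] at h1
    exact hc4b (e.symm.injective (h1.trans (map_one e.symm).symm))
  obtain ⟨X0, hX0⟩ := QuotientGroup.mk_surjective (g0 : PSL2)
  set τ0 := Matrix.trace (X0 : M2) with hτ0
  have hτne : τ0 ≠ 0 := by
    intro h
    apply hg0b
    rw [← hX0, psl2_pow_eq_one_iff]
    right
    rw [sq, sl2_sq', ← hτ0, h]
    simp
  have h0 : τ0 ^ 2 = 2 := by
    have h1 := trace_of_order_four X0 (by
      rw [hX0]
      intro h
      apply hg0b
      rw [h, one_pow]) (by rw [hX0]; exact hg0a)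
    have h3 : τ0 * (τ0 ^ 2 - 2) = 0 := by linear_combination h1
    rcases mul_eq_zero.1 h3 with h4 | h4
    · exact absurd h4 hτne
    · exact sub_eq_zero.1 h4
  have htr : ∀ i : ℕ, τ0 ^ p ^ i = τ0 → ∀ X : SL2, (QuotientGroup.mk X : PSL2) ∈ M →
      Matrix.trace (X : M2) ^ p ^ i = Matrix.trace (X : M2) := by
    intro i hi X hX
    rw [← mem_frobFix]
    exact trace_mem_of_sqrt_two _ h0 ((mem_frobFix p i _).2 hi) X (hord _ hX)
  have hp3 : p ∣ 24 → p = 3 := by
    intro hp24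
    have h24 : (24 : ℕ) = 2 ^ 3 * 3 := by norm_num
    rw [h24] at hp24
    rcases (Nat.Prime.dvd_mul hp).1 hp24 with h | h
    · exact absurd ((Nat.prime_dvd_prime_iff_eq hp Nat.prime_two).1 (hp.dvd_of_dvd_pow h)) hp2
    · exact (Nat.prime_dvd_prime_iff_eq hp Nat.prime_three).1 h
  obtain ⟨n, -, hn⟩ := FiniteField.card F p
  have hn2 : (n : ℕ) ≤ 2 := by
    by_contra hcon
    have hlt : p ^ 2 < Fintype.card F := by
      rw [hn]
      exact Nat.pow_lt_pow_right hp.one_lt (by omega)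
    obtain ⟨a, ha0, hdvd, hfix⟩ := klein_frob p h2 M hM 2 (by norm_num) hlt
      (htr 2 (sqrt_two_frob p hp2 h0)) V (hVM'.trans hM'M) hVc hV2
    rw [hMc] at hdvd
    have hp3' := hp3 ((dvd_pow_self p ha0).trans hdvd)
    have ha1 : a = 1 := by
      by_contra hcon
      rw [hp3'] at hdvd
      have h9 : 3 ^ 2 ∣ 24 := (pow_dvd_pow 3 (by omega)).trans hdvd
      norm_num at h9
    have h3 := hfix τ0 (sqrt_two_frob p hp2 h0)
    rw [hp3', ha1, pow_one] at h3
    apply hτne
    linear_combination h3 - τ0 * h0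
  have hn12 : (n : ℕ) = 1 ∨ (n : ℕ) = 2 := by
    have := n.pos
    omega
  rcases hn12 with hn1 | hn2
  · right
    rw [hn1, pow_one] at hn
    refine ⟨hn, ?_, ⟨e⟩⟩
    have := (Cfsg.Agent.S0803.result (F := F) hn).1 ⟨M, ⟨e⟩⟩
    exact mod_eight_of_sq this
  · left
    rw [hn2] at hn
    have hlt : p ^ 1 < Fintype.card F := by
      rw [hn]
      exact Nat.pow_lt_pow_right hp.one_lt (by omega)
    have hK := frobFix_ne_top (F := F) p 1 one_ne_zero hlt
    have htr' : ∀ X : SL2, (QuotientGroup.mk X : PSL2) ∈ M' →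
        Matrix.trace (X : M2) ∈ frobFix F p 1 := by
      intro X hX
      obtain ⟨z, hz⟩ := trace_int_of_two_three X (hord' _ hX)
      rw [hz]
      exact intCast_mem _ z
    have hg0N : (g0 : PSL2) ∈ Subgroup.normalizer
        (spanSub (frobFix F p 1) M' htr' : Set PSL2) := by
      rw [← hX0]
      refine mem_normalizer_spanSub _ M' htr' X0 τ0 hτne ?_ ?_
      · rw [← sq, h0]
        exact_mod_cast natCast_mem (frobFix F p 1) 2
      · have h3 : τ0 • (X0 : M2) = ((X0 * X0 : SL2) : M2) + ((1 : SL2) : M2) := by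
          rw [Matrix.SpecialLinearGroup.coe_mul, sl2_sq' X0, ← hτ0]
          simp
        rw [h3]
        refine Submodule.add_mem _ (coe_mem_liftSpan _ M' _ ?_) (coe_mem_liftSpan _ M' 1 M'.one_mem)
        rw [QuotientGroup.mk_mul, hX0]
        rw [hM'mem _ (M.mul_mem g0.2 g0.2)]
        have h4 : (⟨(g0 : PSL2) * g0, M.mul_mem g0.2 g0.2⟩ : M) = g0 * g0 := rfl
        rw [h4, map_mul, hg0, e.apply_symm_apply]
        exact hc4c
    have hMN : M ≤ Subgroup.normalizer (spanSub (frobFix F p 1) M' htr' : Set PSL2) := by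
      intro g hg
      by_cases hgM' : g ∈ M'
      · exact Subgroup.le_normalizer (le_spanSub _ M' htr' hgM')
      · have h3 : g * (g0 : PSL2)⁻¹ ∈ M' := by
          rw [hM'mem _ (M.mul_mem hg (M.inv_mem g0.2))]
          have h4 : (⟨g * (g0 : PSL2)⁻¹, M.mul_mem hg (M.inv_mem g0.2)⟩ : M) = ⟨g, hg⟩ * g0⁻¹ := rfl
          rw [h4, map_mul, map_inv, hg0, e.apply_symm_apply, Equiv.Perm.mem_alternatingGroup,
            map_mul, map_inv, hc4d]
          rw [hM'mem g hg, Equiv.Perm.mem_alternatingGroup] at hgM'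
          rcases Int.units_eq_one_or (Equiv.Perm.sign (e ⟨g, hg⟩)) with h | h
          · exact absurd h hgM'
          · rw [h]; decide
        have h5 : g = (g * (g0 : PSL2)⁻¹) * g0 := by group
        rw [h5]
        exact Subgroup.mul_mem _ (Subgroup.le_normalizer (le_spanSub _ M' htr' h3)) hg0N
    have hM'bot : M' ≠ ⊥ := by
      rintro rfl
      rw [Subgroup.card_bot] at hM'c
      omega
    have hLM := spanSub_le_of_normalizes (by rw [Nat.card_eq_fintype_card]; omega) M hM M' hM'bot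
      (frobFix F p 1) hK htr' hMN
    obtain ⟨s, t, hs, ht, hs1, ht1, hst, hs2, ht2, hc⟩ := klein_pair V hVc hV2
    obtain ⟨S, T, rfl, rfl, h3, h4, h5'⟩ := klein_lifts s t hs1 ht1 hst hs2 ht2 hc
    obtain ⟨u, hu, hu1, hup⟩ := exists_unipotent_of_klein p h2 (frobFix F p 1) M' htr' S T
      (hVM' hs) (hVM' ht) h3 h4 h5'
    have hou : orderOf u = p := orderOf_eq_prime hup hu1
    have hp24 : p ∣ 24 := by
      have := orderOf_dvd_natCard (⟨u, hLM hu⟩ : M)
      rwa [Subgroup.orderOf_mk, hou, hMc] at this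
    have hp3' := hp3 hp24
    obtain ⟨e2⟩ := pgl2_three (ZMod 3) (ZMod.card 3)
    exact ⟨ZMod 3, inferInstance, inferInstance, by rw [hn, ZMod.card 3, hp3'], ⟨e.trans e2.symm⟩⟩

end Cfsg.Agent.Lib.Helper41.Dickson
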