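import Cfsg.Agent.Lib.Helper41.Dickson.SpanNorm
import Cfsg.Agent.Lib.Helper41.Dickson.A5Exists

/-!
# Tools for the maximal subgroups of `PSL₂(q)`, `q` odd
-/

set_option autoImplicit false
set_option linter.style.haveILetI false
set_option linter.unusedSectionVars false
set_option linter.unusedSimpArgs false

namespace Cfsg.Agent.Lib.Helper41.Dickson

open Matrix
open Cfsg.Agent.Lib.Helper41

theorem klein_pair {G : Type*} [Group G] (V : Subgroup G) (hV : Nat.card V = 4)
    (h2 : ∀ v ∈ V, v ^ 2 = 1) :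
    ∃ s t : G, s ∈ V ∧ t ∈ V ∧ s ≠ 1 ∧ t ≠ 1 ∧ s ≠ t ∧ s ^ 2 = 1 ∧ t ^ 2 = 1 ∧ s * t = t * s := by
  have hVb : V ≠ ⊥ := by
    rintro rfl
    rw [Subgroup.card_bot] at hV
    omega
  obtain ⟨⟨s, hs⟩, hs1'⟩ := Subgroup.ne_bot_iff_exists_ne_one.1 hVb
  have hs1 : s ≠ 1 := fun h => hs1' (Subtype.ext h)
  have hlt : Subgroup.zpowers s < V := by
    refine lt_of_le_of_ne ((Subgroup.zpowers_le).2 hs) ?_
    intro h
    have h3 : Nat.card (Subgroup.zpowers s) = 4 := by rw [h, hV]
    rw [Nat.card_zpowers] at h3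
    have h4 : orderOf s ∣ 2 := orderOf_dvd_of_pow_eq_one (h2 s hs)
    have := Nat.le_of_dvd (by norm_num) h4
    omega
  obtain ⟨t, ht, htn⟩ := SetLike.exists_of_lt hlt
  refine ⟨s, t, hs, ht, hs1, ?_, ?_, h2 s hs, h2 t ht, ?_⟩
  · rintro rfl
    exact htn (Subgroup.one_mem _)
  · rintro rfl
    exact htn (Subgroup.mem_zpowers _)
  · have h5 := h2 (s * t) (V.mul_mem hs ht)
    have hs2 := h2 s hs
    have ht2 := h2 t ht
    calc s * t = (t * t) * (s * t) * (s * s) := by
          rw [← sq, ← sq, hs2, ht2]; group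
      _ = t * (t * s) * (t * s) * s := by group
      _ = t * ((t * s) ^ 2) * s := by rw [sq]; group
      _ = t * s := by
          have h6 : (t * s) ^ 2 = 1 := h2 _ (V.mul_mem ht hs)
          rw [h6]; group

variable {F : Type*} [Field F]

local notation "SL2" => Matrix.SpecialLinearGroup (Fin 2) F
local notation "PSL2" => Matrix.ProjectiveSpecialLinearGroup (Fin 2) F
local notation "M2" => Matrix (Fin 2) (Fin 2) F

theorem intCast_pow_char (p : ℕ) [Fact p.Prime] [CharP F p] (z : ℤ) (j : ℕ) :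
    (z : F) ^ p ^ j = z := by
  have := map_intCast (iterateFrobenius F p j) z
  rwa [iterateFrobenius_def] at this

theorem trace_of_order_five (X : SL2) (hne : (QuotientGroup.mk X : PSL2) ≠ 1)
    (h : (QuotientGroup.mk X : PSL2) ^ 5 = 1) :
    Matrix.trace (X : M2) ^ 4 - 3 * Matrix.trace (X : M2) ^ 2 + 1 = 0 := by
  have h3 := pow_five_of_sq _ _ (sl2_sq' X)
  rcases (psl2_pow_eq_one_iff X 5).1 h with h1 | h1
  · refine coeff_zero X hne _ (Matrix.trace (X : M2) ^ 3 - 2 * Matrix.trace (X : M2) + 1) ?_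
    rw [h1, eq_sub_iff_add_eq] at h3
    rw [← h3]; module
  · refine coeff_zero X hne _ (Matrix.trace (X : M2) ^ 3 - 2 * Matrix.trace (X : M2) - 1) ?_
    rw [h1, eq_sub_iff_add_eq] at h3
    rw [← h3]; module

/-- lifts of elements of order dividing `2` or `3` have integral traces -/
theorem trace_int_of_two_three (X : SL2)
    (h : (QuotientGroup.mk X : PSL2) ^ 2 = 1 ∨ (QuotientGroup.mk X : PSL2) ^ 3 = 1) :
    ∃ z : ℤ, Matrix.trace (X : M2) = z := by
  by_cases hne : (QuotientGroup.mk X : PSL2) = 1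
  · rcases trace_of_mk_eq_one X hne with h1 | h1
    · exact ⟨2, by rw [h1]; norm_num⟩
    · exact ⟨-2, by rw [h1]; norm_num⟩
  · rcases h with h | h
    · exact ⟨0, by rw [trace_of_order_two X hne h]; norm_num⟩
    · have h1 := trace_of_order_three X hne h
      have h2 : (Matrix.trace (X : M2) - 1) * (Matrix.trace (X : M2) + 1) = 0 := by
        linear_combination h1
      rcases mul_eq_zero.1 h2 with h3 | h3
      · exact ⟨1, by rw [sub_eq_zero.1 h3]; norm_num⟩
      · exact ⟨-1, by rw [eq_neg_of_add_eq_zero_left h3]; norm_num⟩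

/-- **Lemma C'**: a maximal subgroup with a four-group whose traces are fixed by a proper power of
Frobenius has order divisible by the order `p ^ a` of the fixed field. -/
theorem klein_frob [Fintype F] (p : ℕ) [Fact p.Prime] [CharP F p] (h2 : (2 : F) ≠ 0)
    (M : Subgroup PSL2) (hM : IsCoatom M) (i : ℕ) (hi0 : i ≠ 0) (hi : p ^ i < Fintype.card F)
    (htr : ∀ X : SL2, (QuotientGroup.mk X : PSL2) ∈ M →
      Matrix.trace (X : M2) ^ p ^ i = Matrix.trace (X : M2))
    (V : Subgroup PSL2) (hVM : V ≤ M) (hV : Nat.card V = 4) (hV2 : ∀ v ∈ V, v ^ 2 = 1) :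
    ∃ a : ℕ, a ≠ 0 ∧ p ^ a ∣ Nat.card M ∧ ∀ x : F, x ^ p ^ i = x → x ^ p ^ a = x := by
  obtain ⟨s, t, hs, ht, hs1, ht1, hst, hs2, ht2, hc⟩ := klein_pair V hV hV2
  have hK := frobFix_ne_top (F := F) p i hi0 hi
  have hdvd := card_dvd_of_klein p h2 M hM (frobFix F p i) hK
    (fun X hX => (mem_frobFix p i _).2 (htr X hX)) s t (hVM hs) (hVM ht) hs1 ht1 hst hs2 ht2 hc
  haveI : Fintype (frobFix F p i) := Fintype.ofFinite _
  haveI : CharP (frobFix F p i) p :=
    RingHom.charP (frobFix F p i).subtype (frobFix F p i).subtype.injective p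
  obtain ⟨a, -, ha⟩ := FiniteField.card (frobFix F p i) p
  refine ⟨a, a.pos.ne', ?_, ?_⟩
  · rw [← ha, ← Nat.card_eq_fintype_card]; exact hdvd
  · intro x hx
    have h3 := FiniteField.pow_card (⟨x, (mem_frobFix p i x).2 hx⟩ : frobFix F p i)
    rw [ha] at h3
    exact congrArg Subtype.val h3

/-- elements of the subfield of order `k` are squares in the field of order `k ^ 2` -/
theorem isSquare_of_pow_eq [Fintype F] (h2 : (2 : F) ≠ 0) (k : ℕ) (hk : Odd k)
    (hq : Fintype.card F = k ^ 2) (x : F) (hx : x ^ k = x) : IsSquare x := by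
  by_cases hx0 : x = 0
  · rw [hx0]; exact IsSquare.zero
  have hchar : ringChar F ≠ 2 := by
    intro h
    haveI : CharP F 2 := h ▸ ringChar.charP F
    exact h2 (by exact_mod_cast CharP.cast_eq_zero F 2)
  rw [FiniteField.isSquare_iff hchar hx0, hq]
  obtain ⟨j, rfl⟩ := hk
  have h3 : x ^ (2 * j) = 1 := by
    have h4 : x ^ (2 * j) * x = 1 * x := by rw [← pow_succ, hx, one_mul]
    exact mul_right_cancel₀ hx0 h4
  have h5 : (2 * j + 1) ^ 2 / 2 = (2 * j) * (j + 1) := by
    have : (2 * j + 1) ^ 2 = 2 * ((2 * j) * (j + 1)) + 1 := by ring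
    omega
  rw [h5, pow_mul, h3, one_pow]

end Cfsg.Agent.Lib.Helper41.Dickson
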