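import Cfsg.Agent.Lib.Helper41.Dickson.Master
import Cfsg.Agent.Lib.Helper5.LinearCard

/-!
# `PSL₂(F)` acting on the projective line over an algebraically closed extension
-/

set_option autoImplicit false
set_option linter.style.haveILetI false
set_option linter.unusedSectionVars false
set_option linter.unusedSimpArgs false

namespace Cfsg.Agent.Lib.Helper41.Dickson

open Matrix OnePoint MulAction
open scoped MatrixGroups

variable {F : Type*} [Field F] {L : Type*} [Field L] [Algebra F L] [DecidableEq L]

/-- the action of `PSL₂(F)` on the projective line over `L` -/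
@[instance_reducible] noncomputable def pslAct (F L : Type*) [Field F] [Field L] [Algebra F L]
    [DecidableEq L] : MulAction (Matrix.ProjectiveSpecialLinearGroup (Fin 2) F) (OnePoint L) :=
  MulAction.compHom (OnePoint L) (iota F L)

attribute [local instance] pslAct

local notation "G" => Matrix.ProjectiveSpecialLinearGroup (Fin 2) F
local notation "X" => OnePoint L

theorem psl_smul (a : G) (y : X) : a • y = iota F L a • y := rfl

theorem psl_mob [IsAlgClosed L] : Mob G X := pgl_mob.of_injective (iota F L) iota_injective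

theorem psl_uni_iff (a : G) : Uni X a ↔ Uni X (iota F L a) := by
  unfold Uni
  constructor
  · rintro (h1 | h1)
    · left; rw [h1, map_one]
    · right; exact h1
  · rintro (h1 | h1)
    · left; exact iota_injective (by rw [h1, map_one])
    · right; exact h1

theorem psl_par_pow (p : ℕ) [CharP F p] [IsAlgClosed L] (a : G) (ha : Uni X a) : a ^ p = 1 := by
  haveI : CharP L p := charP_of_injective_algebraMap (algebraMap F L).injective p
  exact iota_injective (L := L) (by
    rw [map_pow, map_one]; exact pgl_par_pow p _ ((psl_uni_iff a).1 ha))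

theorem psl_semi_pow (p : ℕ) [Fact p.Prime] [CharP F p] (a : G) (x y : X) (hx : a • x = x)
    (hy : a • y = y) (hxy : x ≠ y) (hp : a ^ p = 1) : a = 1 := by
  haveI : CharP L p := charP_of_injective_algebraMap (algebraMap F L).injective p
  exact iota_injective (L := L) (by
    rw [map_one]
    exact pgl_semi_pow p _ x y hx hy hxy (by rw [← map_pow, hp, map_one]))

theorem psl_uni_iff_pow (p : ℕ) [Fact p.Prime] [CharP F p] [IsAlgClosed L] (a : G) :
    Uni X a ↔ a ^ p = 1 := by
  refine ⟨psl_par_pow p a, fun h => ?_⟩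
  by_contra hcon
  obtain ⟨x, y, hxy, hx, hy, -⟩ := (psl_mob (F := F) (L := L)).exists_two_fix hcon
  exact hcon (Or.inl (psl_semi_pow p a x y hx hy hxy h))

theorem mk_smul_infty_of_eq (g : Matrix.SpecialLinearGroup (Fin 2) F) (h : g 1 0 = 0) :
    ((QuotientGroup.mk g : G)) • (∞ : X) = ∞ := by
  rw [psl_smul, iota_mk, mk_smul', OnePoint.smul_infty_eq_ite]
  simp [h]

theorem mk_smul_infty_of_ne (g : Matrix.SpecialLinearGroup (Fin 2) F) (h : g 1 0 ≠ 0) :
    ((QuotientGroup.mk g : G)) • (∞ : X) = ((algebraMap F L (g 0 0 / g 1 0) : L) : X) := by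
  rw [psl_smul, iota_mk, mk_smul', OnePoint.smul_infty_eq_ite]
  have h' : algebraMap F L (g 1 0) ≠ 0 := by simpa using h
  simp [h, h']

theorem mk_smul_coe_of_eq (g : Matrix.SpecialLinearGroup (Fin 2) F) (z : F)
    (h : g 1 0 * z + g 1 1 = 0) :
    ((QuotientGroup.mk g : G)) • ((algebraMap F L z : L) : X) = ∞ := by
  rw [psl_smul, iota_mk, mk_smul', OnePoint.smul_some_eq_ite]
  have h0 : (algebraMap F L (g 1 0)) * algebraMap F L z + algebraMap F L (g 1 1) =
      algebraMap F L (g 1 0 * z + g 1 1) := by simp
  have h' : (algebraMap F L (g 1 0)) * algebraMap F L z + algebraMap F L (g 1 1) = 0 := by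
    rw [h0, h, map_zero]
  simp [h']

theorem mk_smul_coe_of_ne (g : Matrix.SpecialLinearGroup (Fin 2) F) (z : F)
    (h : g 1 0 * z + g 1 1 ≠ 0) :
    ((QuotientGroup.mk g : G)) • ((algebraMap F L z : L) : X) =
        ((algebraMap F L ((g 0 0 * z + g 0 1) / (g 1 0 * z + g 1 1)) : L) : X) := by
  rw [psl_smul, iota_mk, mk_smul', OnePoint.smul_some_eq_ite]
  have h0 : (algebraMap F L (g 1 0)) * algebraMap F L z + algebraMap F L (g 1 1) =
      algebraMap F L (g 1 0 * z + g 1 1) := by simp
  have h' : (algebraMap F L (g 1 0)) * algebraMap F L z + algebraMap F L (g 1 1) ≠ 0 := by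
    rw [h0]
    exact (map_ne_zero _).2 h
  simp [h']

/-- the rational points -/
def ratPts (F L : Type*) [Field F] [Field L] [Algebra F L] : Set (OnePoint L) :=
  Set.range (fun z : OnePoint F => OnePoint.map (algebraMap F L) z)

theorem infty_mem_ratPts : (∞ : X) ∈ ratPts F L := ⟨∞, rfl⟩

theorem coe_mem_ratPts (z : F) : ((algebraMap F L z : L) : X) ∈ ratPts F L := ⟨(z : OnePoint F), rfl⟩

theorem ncard_ratPts [Fintype F] : (ratPts F L).ncard = Fintype.card F + 1 := by
  classical
  unfold ratPts
  rw [← Set.image_univ, Set.ncard_image_of_injective, Set.ncard_univ]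
  · rw [Nat.card_eq_fintype_card]
    exact Fintype.card_option
  · exact Option.map_injective (algebraMap F L).injective

theorem orbit_infty : orbit G (∞ : X) = ratPts F L := by
  ext y
  constructor
  · rintro ⟨a, rfl⟩
    induction a using QuotientGroup.induction_on with | H g =>
    show ((QuotientGroup.mk g : G)) • (∞ : X) ∈ _
    by_cases h : g 1 0 = 0
    · rw [mk_smul_infty_of_eq g h]
      exact infty_mem_ratPts
    · rw [mk_smul_infty_of_ne g h]
      exact coe_mem_ratPts _
  · rintro ⟨z, rfl⟩
    cases z with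
    | infty => exact ⟨1, one_smul _ _⟩
    | coe z =>
      obtain ⟨g, hg⟩ : ∃ g : Matrix.SpecialLinearGroup (Fin 2) F,
          (g : Matrix (Fin 2) (Fin 2) F) = !![z, -1; 1, 0] :=
        ⟨⟨!![z, -1; 1, 0], by simp [Matrix.det_fin_two]⟩, rfl⟩
      refine ⟨(QuotientGroup.mk g : G), ?_⟩
      show ((QuotientGroup.mk g : G)) • (∞ : X) = _
      have h10 : g 1 0 = 1 := by
        show (g : Matrix (Fin 2) (Fin 2) F) 1 0 = 1
        rw [hg]; rfl
      have h00 : g 0 0 = z := by
        show (g : Matrix (Fin 2) (Fin 2) F) 0 0 = z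
        rw [hg]; rfl
      rw [mk_smul_infty_of_ne g (by rw [h10]; exact one_ne_zero), h10, h00, div_one]
      rfl

theorem n_infty [Fintype F] [IsAlgClosed L] :
    (psl_mob (F := F) (L := L)).n ∞ = Fintype.card F + 1 := by
  rw [Mob.n_eq_ncard, orbit_infty, ncard_ratPts]

end Cfsg.Agent.Lib.Helper41.Dickson
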