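import Cfsg.Agent.Lib.Helper41.Dickson.Borel

/-!
# The orbits of `PSL₂(F)` on points with nontrivial stabiliser
-/

set_option autoImplicit false
set_option linter.style.haveILetI false
set_option linter.unusedSectionVars false
set_option linter.unusedSimpArgs false

namespace Cfsg.Agent.Lib.Helper41.Dickson

open Matrix OnePoint MulAction
open scoped MatrixGroups

variable {F : Type*} [Field F] {L : Type*} [Field L] [Algebra F L] [DecidableEq L]

attribute [local instance] pslAct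

local notation "G" => Matrix.ProjectiveSpecialLinearGroup (Fin 2) F
local notation "X" => OnePoint L

variable [Fintype F] [IsAlgClosed L]

theorem mem_orbit_infty_of_qq (x : X) (hx : 2 ≤ (psl_mob (F := F) (L := L)).qq x) :
    x ∈ orbit G (∞ : X) := by
  obtain ⟨p, hp⟩ := CharP.exists F
  haveI : Fact p.Prime := ⟨(CharP.char_is_prime_or_zero F p).resolve_right
    (fun h0 => by
      subst h0
      haveI := CharP.charP_to_charZero F
      exact not_finite F)⟩
  set hG := psl_mob (F := F) (L := L)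
  have hnt : Nontrivial (hG.Q x) := by
    rw [← Finite.one_lt_card_iff_nontrivial]
    exact hx
  obtain ⟨⟨u, hu⟩, hu1⟩ := exists_ne (1 : hG.Q x)
  have hu1' : u ≠ 1 := fun hcon => hu1 (Subtype.ext hcon)
  have hpg : IsPGroup p (hG.Q x) := by
    intro a
    refine ⟨1, ?_⟩
    apply Subtype.ext
    rw [pow_one]
    exact psl_par_pow p a.1 a.2.2
  obtain ⟨P, hP⟩ := hpg.exists_le_sylow
  obtain ⟨x', hx', hPx'⟩ := sylow_eq_Q (F := F) (L := L) p P
  have h1 : u ∈ hG.Q x' := by rw [← hPx']; exact hP hu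
  by_contra hcon
  exact hu1' (hu.2.eq_one hu.1 h1.1 (fun h => hcon (h ▸ hx')))

theorem arith_orbits_zero (t E d : ℕ) (hd : d ≤ 2) (hdE : d * E = (t + 2) * (t + 1))
    (h : (t + 3) * (E + t) + 2 = 2 * ((t + 3) * E)) : False := by
  have h1 : (t + 3) * E = (t + 2) * (t + 1) := by nlinarith
  have h2 : d * ((t + 2) * (t + 1)) = (t + 3) * ((t + 2) * (t + 1)) := by
    calc d * ((t + 2) * (t + 1)) = d * ((t + 3) * E) := by rw [h1]
      _ = (t + 3) * (d * E) := by ring
      _ = _ := by rw [hdE]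
  have h3 : d = t + 3 := Nat.eq_of_mul_eq_mul_right (by positivity) h2
  omega

theorem arith_orbits_one (t E d n e : ℕ) (hdE : d * E = (t + 2) * (t + 1))
    (hne : n * e = (t + 3) * E) (he : 1 ≤ e)
    (h : (t + 3) * (E + t) + n * (e - 1) + 2 = 2 * ((t + 3) * E)) : d * e = t + 3 := by
  obtain ⟨e', rfl⟩ : ∃ e', e = e' + 1 := ⟨e - 1, by omega⟩
  simp only [Nat.add_sub_cancel] at h
  have h1 : n = (t + 2) * (t + 1) := by nlinarith
  have h2 : (d * (e' + 1)) * ((t + 2) * (t + 1)) = (t + 3) * ((t + 2) * (t + 1)) := by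
    calc (d * (e' + 1)) * ((t + 2) * (t + 1)) = d * (n * (e' + 1)) := by rw [h1]; ring
      _ = d * ((t + 3) * E) := by rw [hne]
      _ = (t + 3) * (d * E) := by ring
      _ = _ := by rw [hdE]
  exact Nat.eq_of_mul_eq_mul_right (by positivity) h2

theorem nonsplit_orbit :
    ∃ x₁ : X, x₁ ∉ orbit G (∞ : X) ∧
      Nat.gcd 2 (Fintype.card F - 1) * (psl_mob (F := F) (L := L)).e x₁ = Fintype.card F + 1 ∧
      (psl_mob (F := F) (L := L)).qq x₁ = 1 ∧
      ∀ y : X, (∃ a : G, a ≠ 1 ∧ a • y = y) → y ∈ orbit G (∞ : X) ∨ y ∈ orbit G x₁ := by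
  classical
  set hG := psl_mob (F := F) (L := L)
  obtain ⟨R, hR1, hR2, hR3, hsum⟩ := hG.exists_reps
  obtain ⟨u, hu1, hu⟩ := exists_unip (F := F) (L := L)
  obtain ⟨x₀, hx₀, c, hc⟩ := hR2 ∞ ⟨u, hu1, hu.1⟩
  change c • x₀ = ∞ at hc
  have hq2 : 2 ≤ Fintype.card F := Fintype.one_lt_card
  obtain ⟨t, ht⟩ : ∃ t, Fintype.card F = t + 2 := ⟨Fintype.card F - 2, by omega⟩
  have hn0 : hG.n x₀ = t + 3 := by rw [← hG.n_smul c, hc, n_infty, ht]
  have hq0 : hG.qq x₀ = t + 2 := by rw [← hG.qq_smul c, hc, qq_infty, ht]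
  have hdE : Nat.gcd 2 (Fintype.card F - 1) * hG.e x₀ = (t + 2) * (t + 1) := by
    rw [← hG.e_smul c, hc, card_mul_eq, ht]; rfl
  have hd : Nat.gcd 2 (Fintype.card F - 1) ≤ 2 := Nat.gcd_le_left _ (by norm_num)
  have hg : Nat.card G = (t + 3) * hG.e x₀ := by rw [← hG.n_mul_e x₀, hn0]
  have horb : ∀ x : X, x ∈ orbit G (∞ : X) ↔ x ∈ orbit G x₀ := by
    intro x
    rw [← hc, MulAction.orbit_smul]
  have hqq : ∀ x ∈ R.erase x₀, hG.qq x = 1 ∧ x ∉ orbit G (∞ : X) := by
    intro x hx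
    have hx' := Finset.mem_erase.1 hx
    have h1 : x ∉ orbit G (∞ : X) := by
      intro hcon
      exact hx'.1 (hR3 x₀ hx₀ x hx'.2 ((horb x).1 hcon)).symm
    refine ⟨?_, h1⟩
    by_contra hcon
    have := hG.qq_pos x
    exact h1 (mem_orbit_infty_of_qq x (by omega))
  rw [← Finset.add_sum_erase R _ hx₀, hn0, hq0, hg] at hsum
  have hT0 : hG.e x₀ + (t + 2) - 2 = hG.e x₀ + t := by omega
  rw [hT0] at hsum
  have hT : ∀ x ∈ R.erase x₀, hG.n x * (hG.e x + hG.qq x - 2) = hG.n x * (hG.e x - 1) := by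
    intro x hx
    rw [(hqq x hx).1]
    congr 1
  rw [Finset.sum_congr rfl hT] at hsum
  have he2 : ∀ x ∈ R.erase x₀, 2 ≤ hG.e x := fun x hx =>
    hG.two_le_e (hR1 x (Finset.mem_erase.1 hx).2)
  rcases (by omega : (R.erase x₀).card = 0 ∨ (R.erase x₀).card = 1 ∨ 1 < (R.erase x₀).card) with
    hc0 | hc1 | hc2
  · exfalso
    rw [Finset.card_eq_zero] at hc0
    rw [hc0, Finset.sum_empty, add_zero] at hsum
    exact arith_orbits_zero t _ _ hd hdE hsum
  · obtain ⟨x₁, hx₁⟩ := Finset.card_eq_one.1 hc1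
    have hx₁m : x₁ ∈ R.erase x₀ := by rw [hx₁]; simp
    rw [hx₁, Finset.sum_singleton] at hsum
    refine ⟨x₁, (hqq x₁ hx₁m).2, ?_, (hqq x₁ hx₁m).1, ?_⟩
    · refine Eq.trans ?_ (by rw [ht] : t + 3 = Fintype.card F + 1)
      exact arith_orbits_one t _ _ _ _ hdE (by rw [hG.n_mul_e, hg]) (by have := he2 x₁ hx₁m; omega)
        hsum
    · intro y hy
      obtain ⟨x, hx, hyx⟩ := hR2 y hy
      by_cases hxx : x = x₀
      · left; rw [horb, ← hxx]; exact hyx
      · right
        have : x ∈ R.erase x₀ := Finset.mem_erase.2 ⟨hxx, hx⟩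
        rw [hx₁, Finset.mem_singleton] at this
        rw [← this]; exact hyx
  · exfalso
    obtain ⟨a, ha, b, hb, hab⟩ := Finset.one_lt_card.1 hc2
    have h1 : ∑ x ∈ ({a, b} : Finset X), hG.n x * (hG.e x - 1) ≤
        ∑ x ∈ R.erase x₀, hG.n x * (hG.e x - 1) := by
      apply Finset.sum_le_sum_of_subset
      intro z hz
      simp only [Finset.mem_insert, Finset.mem_singleton] at hz
      rcases hz with rfl | rfl
      · exact ha
      · exact hb
    rw [Finset.sum_pair hab] at h1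
    have key : ∀ x ∈ R.erase x₀, (t + 3) * hG.e x₀ ≤ 2 * (hG.n x * (hG.e x - 1)) := by
      intro x hx
      have h2 := he2 x hx
      have h3 := hG.n_mul_e x
      rw [hg] at h3
      rw [← h3]
      obtain ⟨e', he'⟩ : ∃ e', hG.e x = e' + 2 := ⟨hG.e x - 2, by omega⟩
      rw [he']
      have : e' + 2 - 1 = e' + 1 := by omega
      rw [this]
      nlinarith
    have ka := key a ha
    have kb := key b hb
    nlinarith

end Cfsg.Agent.Lib.Helper41.Dickson
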