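import Cfsg.Agent.Lib.Helper41.Dickson.TraceOdd
import Cfsg.Agent.Lib.Helper41.QuadForm

/-!
# Normalisers of span subgroups, unipotent elements from four-groups
-/

set_option autoImplicit false
set_option linter.style.haveILetI false
set_option linter.unusedSectionVars false
set_option linter.unusedSimpArgs false

namespace Cfsg.Agent.Lib.Helper41.Dickson

open Matrix
open Cfsg.Agent.Lib.Helper41

variable {F : Type*} [Field F]

local notation "SL2" => Matrix.SpecialLinearGroup (Fin 2) F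
local notation "PSL2" => Matrix.ProjectiveSpecialLinearGroup (Fin 2) F
local notation "M2" => Matrix (Fin 2) (Fin 2) F

theorem m2_sq (A : M2) : A * A = Matrix.trace A • A - Matrix.det A • (1 : M2) := by
  rw [Matrix.trace_fin_two, Matrix.det_fin_two]
  ext i j
  fin_cases i <;> fin_cases j <;> simp [Matrix.mul_apply, Fin.sum_univ_two] <;> ring

theorem det_one_add (A : M2) : Matrix.det (1 + A) = 1 + Matrix.trace A + Matrix.det A := by
  rw [Matrix.trace_fin_two, Matrix.det_fin_two, Matrix.det_fin_two]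
  simp
  ring

/-- a non-central element is not a scalar matrix -/
theorem coeff_zero (X : SL2) (hne : (QuotientGroup.mk X : PSL2) ≠ 1) (c d : F)
    (h : c • (X : M2) = d • (1 : M2)) : c = 0 := by
  by_contra hc
  apply hne
  have h00 := congrFun (congrFun h 0) 0
  have h01 := congrFun (congrFun h 0) 1
  have h10 := congrFun (congrFun h 1) 0
  have h11 := congrFun (congrFun h 1) 1
  simp at h00 h01 h10 h11
  have hdet := sl2_det X
  have e01 := h01.resolve_left hc
  have e10 := h10.resolve_left hc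
  have e : (X : M2) 0 0 = (X : M2) 1 1 := mul_left_cancel₀ hc (h00.trans h11.symm)
  rw [e01, e] at hdet
  have h1 : ((X : M2) 1 1 - 1) * ((X : M2) 1 1 + 1) = 0 := by linear_combination hdet
  have h2 : (QuotientGroup.mk X : PSL2) ^ 1 = 1 := by
    rw [psl2_pow_eq_one_iff, pow_one]
    rcases mul_eq_zero.1 h1 with h3 | h3
    · left
      have h4 : (X : M2) 1 1 = 1 := by linear_combination h3
      ext i j
      fin_cases i <;> fin_cases j <;> simp [e, e01, e10, h4]
    · right
      have h4 : (X : M2) 1 1 = -1 := by linear_combination h3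
      ext i j
      fin_cases i <;> fin_cases j <;> simp [e, e01, e10, h4]
  simpa using h2

theorem sl2_sq' (X : SL2) : (X : M2) * (X : M2) = Matrix.trace (X : M2) • (X : M2) - 1 := by
  rw [sl2_sq, Matrix.trace_fin_two]

theorem trace_of_mk_eq_one (X : SL2) (h : (QuotientGroup.mk X : PSL2) = 1) :
    Matrix.trace (X : M2) = 2 ∨ Matrix.trace (X : M2) = -2 := by
  have h1 := (psl2_pow_eq_one_iff X 1).1 (by rw [pow_one]; exact h)
  rw [pow_one] at h1
  rcases h1 with h1 | h1
  · left; rw [h1]; simp [Matrix.trace_fin_two]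
  · right; rw [h1]; simp [Matrix.trace_fin_two]

theorem trace_of_order_two (X : SL2) (hne : (QuotientGroup.mk X : PSL2) ≠ 1)
    (h : (QuotientGroup.mk X : PSL2) ^ 2 = 1) : Matrix.trace (X : M2) = 0 := by
  have hsq := sl2_sq' X
  rw [← sq] at hsq
  rcases (psl2_pow_eq_one_iff X 2).1 h with h1 | h1
  · refine coeff_zero X hne _ 2 ?_
    rw [h1] at hsq
    rw [two_smul]
    rw [eq_sub_iff_add_eq] at hsq
    exact hsq.symm
  · refine coeff_zero X hne _ 0 ?_
    rw [h1] at hsq
    rw [zero_smul]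
    have : Matrix.trace (X : M2) • (X : M2) = (-1 : M2) + 1 := by rw [hsq]; abel
    rw [this]; abel

theorem pow_three_of_sq (M : M2) (τ : F) (h : M * M = τ • M - 1) :
    M ^ 3 = (τ ^ 2 - 1) • M - τ • (1 : M2) := by
  have h2 : M ^ 2 = τ • M - 1 := by rw [sq]; exact h
  rw [pow_succ, h2, sub_mul, smul_mul_assoc, h, one_mul]
  module

theorem pow_four_of_sq (M : M2) (τ : F) (h : M * M = τ • M - 1) :
    M ^ 4 = (τ ^ 3 - 2 * τ) • M - (τ ^ 2 - 1) • (1 : M2) := by
  rw [pow_succ, pow_three_of_sq M τ h, sub_mul, smul_mul_assoc, smul_mul_assoc, h, one_mul]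
  module

theorem trace_of_order_three (X : SL2) (hne : (QuotientGroup.mk X : PSL2) ≠ 1)
    (h : (QuotientGroup.mk X : PSL2) ^ 3 = 1) : Matrix.trace (X : M2) ^ 2 - 1 = 0 := by
  have h3 := pow_three_of_sq _ _ (sl2_sq' X)
  rcases (psl2_pow_eq_one_iff X 3).1 h with h1 | h1
  · refine coeff_zero X hne _ (Matrix.trace (X : M2) + 1) ?_
    rw [h1, eq_sub_iff_add_eq] at h3
    rw [← h3]; module
  · refine coeff_zero X hne _ (Matrix.trace (X : M2) - 1) ?_
    rw [h1, eq_sub_iff_add_eq] at h3
    rw [← h3]; module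

theorem trace_of_order_four (X : SL2) (hne : (QuotientGroup.mk X : PSL2) ≠ 1)
    (h : (QuotientGroup.mk X : PSL2) ^ 4 = 1) :
    Matrix.trace (X : M2) ^ 3 - 2 * Matrix.trace (X : M2) = 0 := by
  have h3 := pow_four_of_sq _ _ (sl2_sq' X)
  rcases (psl2_pow_eq_one_iff X 4).1 h with h1 | h1
  · refine coeff_zero X hne _ (Matrix.trace (X : M2) ^ 2 - 1 + 1) ?_
    rw [h1, eq_sub_iff_add_eq] at h3
    rw [← h3]; module
  · refine coeff_zero X hne _ (Matrix.trace (X : M2) ^ 2 - 1 - 1) ?_
    rw [h1, eq_sub_iff_add_eq] at h3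
    rw [← h3]; module

/-! ### the normaliser of a span subgroup -/

theorem conj_mem_spanSub (K : Subfield F) (M : Subgroup PSL2)
    (htr : ∀ X : SL2, (QuotientGroup.mk X : PSL2) ∈ M → Matrix.trace (X : M2) ∈ K)
    (X : SL2) (c : F) (hc : c ≠ 0) (hc2 : c * c ∈ K) (ha : c • (X : M2) ∈ liftSpan K M)
    (h : PSL2) (hh : h ∈ spanSub K M htr) :
    (QuotientGroup.mk X : PSL2) * h * (QuotientGroup.mk X : PSL2)⁻¹ ∈ spanSub K M htr := by
  obtain ⟨Y, rfl, hY⟩ := hh
  refine ⟨X * Y * X⁻¹, rfl, ?_⟩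
  have h1 : c • ((X⁻¹ : SL2) : M2) ∈ liftSpan K M := by
    have h2 : c • ((X⁻¹ : SL2) : M2) = Matrix.trace (c • (X : M2)) • (1 : M2) - c • (X : M2) := by
      have := sl2_add_inv X
      rw [Matrix.trace_smul, smul_eq_mul, mul_smul, ← this, smul_add]; abel
    rw [h2]
    refine Submodule.sub_mem _ ?_ ha
    exact Submodule.smul_mem (liftSpan K M)
      (⟨_, trace_mem_of_liftSpan K M htr ha⟩ : K) (coe_mem_liftSpan K M 1 M.one_mem)
  have h3 := liftSpan_mul K M (liftSpan_mul K M ha hY) h1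
  have h4 : ((X * Y * X⁻¹ : SL2) : M2) =
      (c * c)⁻¹ • (c • (X : M2) * (Y : M2) * c • ((X⁻¹ : SL2) : M2)) := by
    rw [Matrix.SpecialLinearGroup.coe_mul, Matrix.SpecialLinearGroup.coe_mul, Matrix.smul_mul,
      Matrix.smul_mul, Matrix.mul_smul, smul_smul, smul_smul]
    have h5 : (c * c)⁻¹ * c * c = 1 := by field_simp
    rw [h5, one_smul]
  rw [h4]
  exact Submodule.smul_mem (liftSpan K M) (⟨_, K.inv_mem hc2⟩ : K) h3

theorem mem_normalizer_spanSub (K : Subfield F) (M : Subgroup PSL2)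
    (htr : ∀ X : SL2, (QuotientGroup.mk X : PSL2) ∈ M → Matrix.trace (X : M2) ∈ K)
    (X : SL2) (c : F) (hc : c ≠ 0) (hc2 : c * c ∈ K) (ha : c • (X : M2) ∈ liftSpan K M) :
    (QuotientGroup.mk X : PSL2) ∈ Subgroup.normalizer (spanSub K M htr : Set PSL2) := by
  rw [Subgroup.mem_normalizer_iff]
  intro h
  constructor
  · exact conj_mem_spanSub K M htr X c hc hc2 ha h
  · intro hh
    have h1 : c • ((X⁻¹ : SL2) : M2) ∈ liftSpan K M := by
      have h2 : c • ((X⁻¹ : SL2) : M2) = Matrix.trace (c • (X : M2)) • (1 : M2) - c • (X : M2) := by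
        have := sl2_add_inv X
        rw [Matrix.trace_smul, smul_eq_mul, mul_smul, ← this, smul_add]; abel
      rw [h2]
      refine Submodule.sub_mem _ ?_ ha
      exact Submodule.smul_mem (liftSpan K M)
        (⟨_, trace_mem_of_liftSpan K M htr ha⟩ : K) (coe_mem_liftSpan K M 1 M.one_mem)
    have h3 := conj_mem_spanSub K M htr X⁻¹ c hc hc2 h1 _ hh
    have h4 : (QuotientGroup.mk X⁻¹ : PSL2) * ((QuotientGroup.mk X : PSL2) * h *
        (QuotientGroup.mk X : PSL2)⁻¹) * (QuotientGroup.mk X⁻¹ : PSL2)⁻¹ = h := by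
      rw [QuotientGroup.mk_inv]; group
    rwa [h4] at h3

/-! ### unipotent elements from a four-group -/

theorem quaternion_sq (S T : M2) (hS : S * S = -1) (hT : T * T = -1) (hTS : T * S = -(S * T))
    (x y : F) : (x • S + y • T + S * T) * (x • S + y • T + S * T) =
      (-(x ^ 2 + y ^ 2 + 1)) • (1 : M2) := by
  have e1 : S * (S * T) = -T := by rw [← mul_assoc, hS]; simp
  have e2 : S * T * S = T := by rw [mul_assoc, hTS, mul_neg, ← mul_assoc, hS]; simp
  have e3 : T * (S * T) = S := by rw [← mul_assoc, hTS, neg_mul, mul_assoc, hT]; simp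
  have e4 : S * T * T = -S := by rw [mul_assoc, hT]; simp
  have e5 : S * T * (S * T) = -1 := by
    rw [← mul_assoc, e2, hT]
  simp only [add_mul, mul_add, smul_mul_assoc, mul_smul_comm, hS, hT, hTS, e1, e2, e3, e4, e5]
  module

theorem pow_of_trace_two (U : SL2) (hU : Matrix.trace (U : M2) = 2) (n : ℕ) :
    (U : M2) ^ n = (1 - (n : F)) • (1 : M2) + (n : F) • (U : M2) := by
  have hsq := sl2_sq' U
  rw [hU] at hsq
  induction n with
  | zero => simp
  | succ n ih =>
    rw [pow_succ, ih, add_mul, smul_mul_assoc, smul_mul_assoc, one_mul, hsq]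
    push_cast
    module

theorem mk_pow_of_trace_two (p : ℕ) [CharP F p] (U : SL2) (hU : Matrix.trace (U : M2) = 2) :
    (QuotientGroup.mk U : PSL2) ^ p = 1 := by
  rw [psl2_pow_eq_one_iff]
  left
  rw [pow_of_trace_two U hU, CharP.cast_eq_zero]
  simp

theorem exists_sq_add_sq_mem (p : ℕ) [Fact p.Prime] [CharP F p] (K : Subfield F) :
    ∃ x y : F, x ∈ K ∧ y ∈ K ∧ x ^ 2 + y ^ 2 = -1 := by
  obtain ⟨a, b, hab⟩ := ZMod.sq_add_sq p (-1)
  let φ := ZMod.castHom (dvd_refl p) F
  have hmem : ∀ z : ZMod p, φ z ∈ K := by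
    intro z
    have : φ z = ((z.val : ℕ) : F) := by
      conv_lhs => rw [← ZMod.natCast_zmod_val z]
      rw [map_natCast]
    rw [this]
    exact natCast_mem K _
  refine ⟨φ a, φ b, hmem a, hmem b, ?_⟩
  rw [← map_pow, ← map_pow, ← map_add, hab, map_neg, map_one]

theorem exists_unipotent_of_klein (p : ℕ) [Fact p.Prime] [CharP F p] (h2 : (2 : F) ≠ 0)
    (K : Subfield F) (M : Subgroup PSL2)
    (htr : ∀ X : SL2, (QuotientGroup.mk X : PSL2) ∈ M → Matrix.trace (X : M2) ∈ K)
    (S T : SL2) (hS : (QuotientGroup.mk S : PSL2) ∈ M) (hT : (QuotientGroup.mk T : PSL2) ∈ M)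
    (trS : Matrix.trace (S : M2) = 0) (trT : Matrix.trace (T : M2) = 0)
    (trST : Matrix.trace ((S * T : SL2) : M2) = 0) :
    ∃ u ∈ spanSub K M htr, u ≠ 1 ∧ u ^ p = 1 := by
  have hSS : (S : M2) * (S : M2) = -1 := by rw [sl2_sq', trS]; simp
  have hTT : (T : M2) * (T : M2) = -1 := by rw [sl2_sq', trT]; simp
  have hSTST : (S : M2) * (T : M2) * ((S : M2) * (T : M2)) = -1 := by
    have := sl2_sq' (S * T)
    rw [trST, Matrix.SpecialLinearGroup.coe_mul] at this
    rw [this]; simp
  have hTS : (T : M2) * (S : M2) = -((S : M2) * (T : M2)) := by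
    calc (T : M2) * (S : M2) = ((S : M2) * (S : M2)) * ((T : M2) * (S : M2)) * ((T : M2) * (T : M2)) := by
          rw [hSS, hTT]; simp
      _ = (S : M2) * ((S : M2) * (T : M2) * ((S : M2) * (T : M2))) * (T : M2) := by
          simp only [mul_assoc]
      _ = -((S : M2) * (T : M2)) := by rw [hSTST]; simp
  obtain ⟨x, y, hx, hy, hxy⟩ := exists_sq_add_sq_mem p K
  set N : M2 := x • (S : M2) + y • (T : M2) + (S : M2) * (T : M2) with hN
  have hNN : N * N = 0 := by
    rw [hN, quaternion_sq _ _ hSS hTT hTS]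
    have : -(x ^ 2 + y ^ 2 + 1) = 0 := by rw [hxy]; ring
    rw [this, zero_smul]
  have trST' : Matrix.trace ((S : M2) * (T : M2)) = 0 := by
    rw [← Matrix.SpecialLinearGroup.coe_mul]; exact trST
  have htrN : Matrix.trace N = 0 := by
    rw [hN, Matrix.trace_add, Matrix.trace_add, Matrix.trace_smul, Matrix.trace_smul, trS, trT, trST']
    simp
  have hdetN : Matrix.det N = 0 := by
    have := m2_sq N
    rw [hNN, htrN, zero_smul, zero_sub] at this
    have h3 : Matrix.det N • (1 : M2) = (0 : F) • (1 : M2) := by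
      rw [zero_smul]
      have h4 := congrArg (fun A => -A) this
      simpa using h4.symm
    exact smul_one_inj h3
  obtain ⟨W, hW⟩ : ∃ W : SL2, (W : M2) = 1 + N :=
    ⟨⟨1 + N, by rw [det_one_add, htrN, hdetN]; ring⟩, rfl⟩
  have htrW : Matrix.trace (W : M2) = 2 := by
    rw [hW, Matrix.trace_add, htrN]
    simp [Matrix.trace_fin_two]
  refine ⟨QuotientGroup.mk W, ⟨W, rfl, ?_⟩, ?_, mk_pow_of_trace_two p W htrW⟩
  · rw [hW, hN]
    refine Submodule.add_mem _ (coe_mem_liftSpan K M 1 M.one_mem) (Submodule.add_mem _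
      (Submodule.add_mem _ ?_ ?_) ?_)
    · exact Submodule.smul_mem (liftSpan K M) (⟨x, hx⟩ : K) (coe_mem_liftSpan K M S hS)
    · exact Submodule.smul_mem (liftSpan K M) (⟨y, hy⟩ : K) (coe_mem_liftSpan K M T hT)
    · exact liftSpan_mul K M (coe_mem_liftSpan K M S hS) (coe_mem_liftSpan K M T hT)
  · intro hcon
    have h1 := (psl2_pow_eq_one_iff W 1).1 (by rw [pow_one]; exact hcon)
    rw [pow_one, hW] at h1
    rcases h1 with h1 | h1
    · have hN0 : N = 0 := by
        have : 1 + N = 1 + 0 := by rw [h1, add_zero]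
        exact add_left_cancel this
      have e2 : (S : M2) * (T : M2) * (S : M2) = T := by
        rw [mul_assoc, hTS, mul_neg, ← mul_assoc, hSS]; simp
      have e4 : (S : M2) * (T : M2) * (T : M2) = -(S : M2) := by rw [mul_assoc, hTT]; simp
      have hx0 : x = 0 := by
        have h3 : Matrix.trace (N * (S : M2)) = 0 := by rw [hN0]; simp
        rw [hN, add_mul, add_mul, smul_mul_assoc, smul_mul_assoc, hSS, hTS, e2, Matrix.trace_add,
          Matrix.trace_add, Matrix.trace_smul, Matrix.trace_smul, Matrix.trace_neg, Matrix.trace_neg,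
          trST', trT] at h3
        simp [Matrix.trace_fin_two] at h3
        rcases h3 with h3 | h3
        · exact h3
        · exact absurd (by linear_combination h3) h2
      have hy0 : y = 0 := by
        have h3 : Matrix.trace (N * (T : M2)) = 0 := by rw [hN0]; simp
        rw [hN, add_mul, add_mul, smul_mul_assoc, smul_mul_assoc, hTT, e4, Matrix.trace_add,
          Matrix.trace_add, Matrix.trace_smul, Matrix.trace_smul, Matrix.trace_neg, trST',
          Matrix.trace_neg, trS] at h3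
        simp [Matrix.trace_fin_two] at h3
        rcases h3 with h3 | h3
        · exact h3
        · exact absurd (by linear_combination h3) h2
      rw [hx0, hy0] at hxy
      have : (1 : F) = 0 := by linear_combination hxy
      exact one_ne_zero this
    · have h3 := congrArg Matrix.trace h1
      rw [Matrix.trace_add, htrN] at h3
      simp [Matrix.trace_fin_two] at h3
      have h4 : (2 : F) * 2 = 0 := by linear_combination h3
      exact h2 (mul_self_eq_zero.1 h4)

/-- lifts of a four-group -/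
theorem klein_lifts (s t : PSL2) (hs1 : s ≠ 1) (ht1 : t ≠ 1) (hst : s ≠ t)
    (hs2 : s ^ 2 = 1) (ht2 : t ^ 2 = 1) (hc : s * t = t * s) :
    ∃ S T : SL2, (QuotientGroup.mk S : PSL2) = s ∧ (QuotientGroup.mk T : PSL2) = t ∧
      Matrix.trace (S : M2) = 0 ∧ Matrix.trace (T : M2) = 0 ∧
      Matrix.trace ((S * T : SL2) : M2) = 0 := by
  obtain ⟨S, rfl⟩ := QuotientGroup.mk_surjective s
  obtain ⟨T, rfl⟩ := QuotientGroup.mk_surjective t
  refine ⟨S, T, rfl, rfl, trace_of_order_two S hs1 hs2, trace_of_order_two T ht1 ht2,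
    trace_of_order_two (S * T) ?_ ?_⟩
  · intro h
    apply hst
    rw [QuotientGroup.mk_mul] at h
    have h1 : (QuotientGroup.mk S : PSL2) = (QuotientGroup.mk T : PSL2)⁻¹ := eq_inv_of_mul_eq_one_left h
    rw [h1]
    exact inv_eq_of_mul_eq_one_left (by rw [← sq]; exact ht2)
  · rw [QuotientGroup.mk_mul, (show Commute (QuotientGroup.mk S : PSL2) (QuotientGroup.mk T) from hc).mul_pow,
      hs2, ht2, one_mul]

/-- **Lemma C** -/
theorem card_dvd_of_klein (p : ℕ) [Fact p.Prime] [CharP F p] (h2 : (2 : F) ≠ 0) (M : Subgroup PSL2)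
    (hM : IsCoatom M) (K : Subfield F) (hK : K ≠ ⊤)
    (htr : ∀ X : SL2, (QuotientGroup.mk X : PSL2) ∈ M → Matrix.trace (X : M2) ∈ K)
    (s t : PSL2) (hs : s ∈ M) (ht : t ∈ M) (hs1 : s ≠ 1) (ht1 : t ≠ 1) (hst : s ≠ t)
    (hs2 : s ^ 2 = 1) (ht2 : t ^ 2 = 1) (hc : s * t = t * s) :
    Nat.card K ∣ Nat.card M := by
  have hS : spanSub K M htr = M := by
    rcases hM.le_iff.1 (le_spanSub K M htr) with h | h
    · exact absurd h (spanSub_ne_top K hK M htr)
    · exact h
  obtain ⟨S, T, rfl, rfl, h3, h4, h5⟩ := klein_lifts s t hs1 ht1 hst hs2 ht2 hc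
  obtain ⟨u, hu, hu1, hup⟩ := exists_unipotent_of_klein p h2 K M htr S T hs ht h3 h4 h5
  rw [hS] at hu
  exact card_dvd_of_isCoatom p M hM K hK htr u hu hu1 hup

/-- **Lemma E** -/
theorem spanSub_le_of_normalizes [Finite F] (h4 : 4 ≤ Nat.card F) (M : Subgroup PSL2)
    (hM : IsCoatom M) (M' : Subgroup PSL2) (hM' : M' ≠ ⊥) (K : Subfield F) (hK : K ≠ ⊤)
    (htr : ∀ X : SL2, (QuotientGroup.mk X : PSL2) ∈ M' → Matrix.trace (X : M2) ∈ K)
    (hn : M ≤ Subgroup.normalizer (spanSub K M' htr : Set PSL2)) : spanSub K M' htr ≤ M := by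
  have hNtop : Subgroup.normalizer (spanSub K M' htr : Set PSL2) ≠ ⊤ := by
    intro htop
    haveI : (spanSub K M' htr).Normal := Subgroup.normalizer_eq_top_iff.1 htop
    haveI : IsSimpleGroup PSL2 := Matrix.ProjectiveSpecialLinearGroup.rank_two_simple h4
    rcases IsSimpleGroup.eq_bot_or_eq_top_of_normal (spanSub K M' htr) inferInstance with h | h
    · apply hM'
      rw [eq_bot_iff, ← h]
      exact le_spanSub K M' htr
    · exact spanSub_ne_top K hK M' htr h
  rcases hM.le_iff.1 hn with h | h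
  · exact absurd h hNtop
  · rw [← h]; exact Subgroup.le_normalizer

/-- **Lemma D**: no maximal subgroup with an involution has its traces in a proper subfield all of
whose elements are squares. -/
theorem not_isCoatom_of_squares [Fintype F] (h2 : (2 : F) ≠ 0) (h4 : 4 ≤ Fintype.card F)
    (M : Subgroup PSL2) (hM : IsCoatom M) (K : Subfield F) (hK : K ≠ ⊤)
    (htr : ∀ X : SL2, (QuotientGroup.mk X : PSL2) ∈ M → Matrix.trace (X : M2) ∈ K)
    (s : PSL2) (hs : s ∈ M) (hs1 : s ≠ 1) (hs2 : s ^ 2 = 1) (hsq : ∀ x ∈ K, IsSquare x) : False := by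
  classical
  have hS : spanSub K M htr = M := by
    rcases hM.le_iff.1 (le_spanSub K M htr) with h | h
    · exact absurd h (spanSub_ne_top K hK M htr)
    · exact h
  obtain ⟨S, rfl⟩ := QuotientGroup.mk_surjective s
  have trS := trace_of_order_two S hs1 hs2
  have hSS : (S : M2) * (S : M2) = -1 := by rw [sl2_sq', trS]; simp
  haveI : Fintype K := Fintype.ofFinite _
  have h2K : (2 : K) ≠ 0 := by
    intro h
    apply h2
    have := congrArg K.subtype h
    rw [map_ofNat, map_zero] at this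
    exact this
  have hKodd : Fintype.card K % 2 = 1 := by
    rcases Nat.even_or_odd (Fintype.card K) with he | ho
    · exfalso
      have h5 := (FiniteField.even_card_iff_char_two (F := K)).2 (Nat.even_iff.1 he)
      haveI : CharP K 2 := h5 ▸ ringChar.charP K
      exact h2K (CharP.cast_eq_zero K 2)
    · exact Nat.odd_iff.1 ho
  obtain ⟨δ, hδ⟩ := FiniteField.exists_nonsquare (F := K) (by
    intro h5
    haveI : CharP K 2 := h5 ▸ ringChar.charP K
    exact h2K (CharP.cast_eq_zero K 2))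
  obtain ⟨x₀, x₁, hx⟩ := quad_sum hKodd (1 : K) 0 1 0 (-δ) one_ne_zero one_ne_zero
  have hx' : (x₀ : F) ^ 2 + (x₁ : F) ^ 2 = δ := by
    have := congrArg Subtype.val hx
    simp at this
    linear_combination this
  obtain ⟨c, hc⟩ := hsq δ δ.2
  have hδ0 : (δ : F) ≠ 0 := by
    intro h
    apply hδ
    have : δ = 0 := Subtype.ext h
    rw [this]
    exact IsSquare.zero
  have hc0 : c ≠ 0 := by
    rintro rfl
    apply hδ0
    rw [hc]; ring
  set a : M2 := (x₀ : F) • (1 : M2) + (x₁ : F) • (S : M2) with ha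
  have hdeta : Matrix.det a = δ := by
    have hd := sl2_det S
    rw [Matrix.trace_fin_two] at trS
    rw [ha, Matrix.det_fin_two]
    simp
    linear_combination hx' + (x₁ : F) ^ 2 * hd + (x₀ : F) * (x₁ : F) * trS
  obtain ⟨X, hX⟩ : ∃ X : SL2, (X : M2) = c⁻¹ • a := by
    refine ⟨⟨c⁻¹ • a, ?_⟩, rfl⟩
    rw [Matrix.det_smul, hdeta, hc]
    simp
    field_simp
  have haA : a ∈ liftSpan K M :=
    Submodule.add_mem _ (Submodule.smul_mem (liftSpan K M) x₀ (coe_mem_liftSpan K M 1 M.one_mem))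
      (Submodule.smul_mem (liftSpan K M) x₁ (coe_mem_liftSpan K M S hs))
  have hcX : c • (X : M2) = a := by
    rw [hX, smul_smul, mul_inv_cancel₀ hc0, one_smul]
  have hnorm := mem_normalizer_spanSub K M htr X c hc0 (by rw [← hc]; exact δ.2)
    (by rw [hcX]; exact haA)
  have hle : spanSub K M htr ≤ M := le_of_eq hS
  have hNM : Subgroup.normalizer (M : Set PSL2) = M := by
    have hNtop : Subgroup.normalizer (M : Set PSL2) ≠ ⊤ := by
      intro htop
      haveI : M.Normal := Subgroup.normalizer_eq_top_iff.1 htop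
      haveI : IsSimpleGroup PSL2 := Matrix.ProjectiveSpecialLinearGroup.rank_two_simple (by
        rw [Nat.card_eq_fintype_card]; exact h4)
      rcases IsSimpleGroup.eq_bot_or_eq_top_of_normal M inferInstance with h | h
      · rw [h, Subgroup.mem_bot] at hs
        exact hs1 hs
      · exact hM.1 h
    rcases hM.le_iff.1 (Subgroup.le_normalizer (H := M)) with h | h
    · exact absurd h hNtop
    · exact h
  rw [hS, hNM, ← hS] at hnorm
  obtain ⟨X', hX', hX'A⟩ := hnorm
  have hXA : (X : M2) ∈ liftSpan K M := by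
    rcases (psl2_mk_eq_iff X' X).1 hX' with h | h
    · rw [← h]; exact hX'A
    · have : (X : M2) = -(X' : M2) := by rw [h, neg_neg]
      rw [this]; exact Submodule.neg_mem _ hX'A
  set a' : M2 := (x₀ : F) • (1 : M2) - (x₁ : F) • (S : M2) with ha'
  have ha'A : a' ∈ liftSpan K M :=
    Submodule.sub_mem _ (Submodule.smul_mem (liftSpan K M) x₀ (coe_mem_liftSpan K M 1 M.one_mem))
      (Submodule.smul_mem (liftSpan K M) x₁ (coe_mem_liftSpan K M S hs))
  have hprod : (X : M2) * a' = c • (1 : M2) := by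
    have h5 : a * a' = (δ : F) • (1 : M2) := by
      rw [ha, ha', ← hx']
      simp only [add_mul, mul_sub, smul_mul_assoc, mul_smul_comm, one_mul, mul_one, hSS]
      module
    rw [hX, smul_mul_assoc, h5, smul_smul, hc]
    congr 1
    field_simp
  have h6 := trace_mem_of_liftSpan K M htr (liftSpan_mul K M hXA ha'A)
  rw [hprod, Matrix.trace_smul] at h6
  simp [Matrix.trace_fin_two] at h6
  have hcK : c ∈ K := by
    have h7 : c = (c * 2) * (2 : F)⁻¹ := by field_simp
    rw [h7]
    exact K.mul_mem h6 (K.inv_mem (by exact_mod_cast (natCast_mem K 2)))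
  apply hδ
  exact ⟨⟨c, hcK⟩, Subtype.ext hc⟩

end Cfsg.Agent.Lib.Helper41.Dickson
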