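import Mathlib

/-!
# A Sylow conjugation trick for excluding maximal subgroups
-/

set_option autoImplicit false

namespace Cfsg.Agent.Lib.Helper41.Dickson

/-- two subgroups of the full `r`-power order are conjugate -/
theorem exists_conj_of_card {G : Type*} [Group G] [Finite G] (r a : ℕ) [Fact r.Prime]
    (hra : ¬ r ^ (a + 1) ∣ Nat.card G) (T T' : Subgroup G) (hT : Nat.card T = r ^ a)
    (hT' : Nat.card T' = r ^ a) :
    ∃ g : G, ∀ x : G, x ∈ T' → g * x * g⁻¹ ∈ T := by
  have hr : r.Prime := Fact.out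
  have hG : Nat.card G ≠ 0 := Nat.card_pos.ne'
  have hfac : (Nat.card G).factorization r = a := by
    apply le_antisymm
    · by_contra hcon
      push Not at hcon
      exact hra ((hr.pow_dvd_iff_le_factorization hG).2 hcon)
    · apply (hr.pow_dvd_iff_le_factorization hG).1
      rw [← hT]
      exact Subgroup.card_subgroup_dvd_card T
  let P : Sylow r G := Sylow.ofCard T (by rw [hT, hfac])
  let P' : Sylow r G := Sylow.ofCard T' (by rw [hT', hfac])
  obtain ⟨g, hg⟩ := MulAction.exists_smul_eq G P' P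
  refine ⟨g, fun x hx => ?_⟩
  have h1 : ((g • P' : Sylow r G) : Subgroup G) = T := by rw [hg]; rfl
  rw [Sylow.coe_subgroup_smul] at h1
  rw [← h1]
  exact ⟨x, hx, rfl⟩

theorem sylow_trick {G Q : Type*} [Group G] [Finite G] [IsSimpleGroup G] [Group Q] (r a : ℕ)
    [Fact r.Prime] (ha : a ≠ 0) (hra : ¬ r ^ (a + 1) ∣ Nat.card G)
    (M : Subgroup G) (hM : IsCoatom M) (T : Subgroup G) (hT : Nat.card T = r ^ a)
    (hMT : M ≤ Subgroup.normalizer (T : Set G))
    (φ : Q →* G) (hφ : Function.Injective φ) (hQ : φ.range ≠ ⊤) (T0 : Subgroup Q)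
    (hT0 : Nat.card T0 = r ^ a)
    (hcard : Nat.card M ≤ Nat.card (Subgroup.normalizer (T0 : Set Q)))
    (hQM : Nat.card Q ≠ Nat.card M) : False := by
  have hr : r.Prime := Fact.out
  have hT' : Nat.card (T0.map φ) = r ^ a := by
    rw [← hT0]
    exact Nat.card_congr (T0.equivMapOfInjective φ hφ).symm.toEquiv
  obtain ⟨g, hg⟩ := exists_conj_of_card r a hra T (T0.map φ) hT hT'
  have hNT : Subgroup.normalizer (T : Set G) = M := by
    rcases hM.le_iff.1 hMT with h | h
    · exfalso
      haveI : T.Normal := Subgroup.normalizer_eq_top_iff.1 h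
      rcases IsSimpleGroup.eq_bot_or_eq_top_of_normal T inferInstance with h1 | h1
      · rw [h1, Subgroup.card_bot] at hT
        have := Nat.one_lt_pow ha hr.one_lt
        omega
      · apply hQ
        apply Subgroup.eq_top_of_le_card
        have h2 : Nat.card (T0.map φ) ≤ Nat.card φ.range :=
          Subgroup.card_le_of_le (Subgroup.map_le_range φ T0)
        rw [hT', ← hT, h1, Subgroup.card_top] at h2
        exact h2
    · exact h
  -- the conjugation automorphism
  let c : G →* G := (MulAut.conj g).toMonoidHom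
  have hc : Function.Injective c := (MulAut.conj g).injective
  have hTeq : (T0.map φ).map c = T := by
    apply Subgroup.eq_of_le_of_card_ge
    · rintro _ ⟨x, hx, rfl⟩
      exact hg x hx
    · rw [hT, ← hT']
      exact le_of_eq (Nat.card_congr ((T0.map φ).equivMapOfInjective c hc).toEquiv)
  set D : Subgroup G := ((Subgroup.normalizer (T0 : Set Q)).map φ).map c with hD
  have hDcard : Nat.card D = Nat.card (Subgroup.normalizer (T0 : Set Q)) := by
    rw [hD]
    exact (Nat.card_congr ((((Subgroup.normalizer (T0 : Set Q)).map φ).equivMapOfInjective c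
      hc).symm.toEquiv)).trans (Nat.card_congr
        ((Subgroup.normalizer (T0 : Set Q)).equivMapOfInjective φ hφ).symm.toEquiv)
  have hDM : D ≤ M := by
    rw [← hNT]
    rintro _ ⟨_, ⟨n, hn, rfl⟩, rfl⟩
    have key : ∀ n : Q, n ∈ Subgroup.normalizer (T0 : Set Q) → ∀ x ∈ T,
        c (φ n) * x * (c (φ n))⁻¹ ∈ T := by
      intro n hn x hx
      rw [← hTeq] at hx ⊢
      obtain ⟨_, ⟨y, hy, rfl⟩, rfl⟩ := hx
      refine ⟨φ (n * y * n⁻¹), ⟨n * y * n⁻¹, (Subgroup.mem_normalizer_iff.1 hn y).1 hy, rfl⟩, ?_⟩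
      simp only [map_mul, map_inv]
    rw [Subgroup.mem_normalizer_iff]
    intro x
    constructor
    · exact key n hn x
    · intro hx
      have := key n⁻¹ (Subgroup.inv_mem _ hn) _ hx
      simp only [map_inv, inv_inv] at this
      have h2 : (c (φ n))⁻¹ * (c (φ n) * x * (c (φ n))⁻¹) * c (φ n) = x := by group
      rwa [h2] at this
  have hDM' : D = M := Subgroup.eq_of_le_of_card_ge hDM (by rw [hDcard]; exact hcard)
  set Y : Subgroup G := φ.range.map c with hY
  have hYcard : Nat.card Y = Nat.card Q := by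
    rw [hY]
    exact (Nat.card_congr ((φ.range.equivMapOfInjective c hc).symm.toEquiv)).trans
      (Nat.card_congr (MonoidHom.ofInjective hφ).symm.toEquiv)
  have hMY : M ≤ Y := by
    rw [← hDM', hD, hY]
    exact Subgroup.map_mono (Subgroup.map_le_range φ _)
  rcases hM.le_iff.1 hMY with h | h
  · apply hQ
    apply Subgroup.eq_top_of_le_card
    have h3 : Nat.card φ.range = Nat.card Q := Nat.card_congr (MonoidHom.ofInjective hφ).symm.toEquiv
    rw [h3, ← hYcard, h, Subgroup.card_top]
  · apply hQM
    rw [← hYcard, h]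

/-- Burnside: in a simple group an abelian Sylow subgroup (proper, non-trivial) is not
self-normalizing. -/
theorem normalizer_ne_of_simple {Q : Type*} [Group Q] [Finite Q] [IsSimpleGroup Q] (r : ℕ)
    [Fact r.Prime] (P : Sylow r Q) (hab : ∀ x ∈ P, ∀ y ∈ P, x * y = y * x)
    (h1 : (P : Subgroup Q) ≠ ⊥) (h2 : (P : Subgroup Q) ≠ ⊤) :
    Subgroup.normalizer ((P : Subgroup Q) : Set Q) ≠ P := by
  intro hN
  have hP : Subgroup.normalizer ((P : Subgroup Q) : Set Q) ≤
      Subgroup.centralizer ((P : Subgroup Q) : Set Q) := by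
    rw [hN]
    intro x hx
    rw [Subgroup.mem_centralizer_iff]
    intro y hy
    exact hab y hy x hx
  have hcompl := MonoidHom.ker_transferSylow_isComplement' P hP
  rcases IsSimpleGroup.eq_bot_or_eq_top_of_normal (MonoidHom.transferSylow P hP).ker inferInstance
    with h | h
  · rw [h] at hcompl
    exact h2 (Subgroup.isComplement'_bot_left.1 hcompl)
  · rw [h] at hcompl
    exact h1 (Subgroup.isComplement'_top_left.1 hcompl)

end Cfsg.Agent.Lib.Helper41.Dickson
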