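import Cfsg.Agent.Lib.Helper41.Dickson.SylowTrick
import Cfsg.Agent.Lib.Helper41.Dickson.Cards

/-!
# Normalizers of small Sylow subgroups of `A₅`, `S₄`; corollaries of the Sylow trick
-/

set_option autoImplicit false

namespace Cfsg.Agent.Lib.Helper41.Dickson

theorem exists_sylow_of_card {G : Type*} [Group G] [Finite G] (r a : ℕ) [Fact r.Prime]
    (hra : ¬ r ^ (a + 1) ∣ Nat.card G) (T : Subgroup G) (hT : Nat.card T = r ^ a) :
    ∃ P : Sylow r G, (P : Subgroup G) = T := by
  have hr : r.Prime := Fact.out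
  have hG : Nat.card G ≠ 0 := Nat.card_pos.ne'
  have hfac : (Nat.card G).factorization r = a := by
    apply le_antisymm
    · by_contra hcon
      push Not at hcon
      exact hra ((hr.pow_dvd_iff_le_factorization hG).2 hcon)
    · apply (hr.pow_dvd_iff_le_factorization hG).1
      rw [← hT]
      exact Subgroup.card_subgroup_dvd_card T
  exact ⟨Sylow.ofCard T (by rw [hT, hfac]), rfl⟩

/-- in a simple group, an abelian subgroup of full prime power order has a strictly bigger
normalizer -/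
theorem exists_two_mul_le_normalizer {Q : Type*} [Group Q] [Finite Q] [IsSimpleGroup Q] (r a : ℕ)
    [Fact r.Prime] (ha : a = 1 ∨ a = 2) (hdvd : r ^ a ∣ Nat.card Q)
    (hra : ¬ r ^ (a + 1) ∣ Nat.card Q) (hQne : Nat.card Q ≠ r ^ a) :
    ∃ T0 : Subgroup Q, Nat.card T0 = r ^ a ∧
      ∃ m : ℕ, 2 ≤ m ∧ Nat.card (Subgroup.normalizer (T0 : Set Q)) = r ^ a * m := by
  have hr : r.Prime := Fact.out
  obtain ⟨T0, hT0⟩ := Sylow.exists_subgroup_card_pow_prime r hdvd
  obtain ⟨P, hP⟩ := exists_sylow_of_card r a hra T0 hT0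
  refine ⟨T0, hT0, ?_⟩
  have hab : ∀ x ∈ P, ∀ y ∈ P, x * y = y * x := by
    have hab' : ∀ x y : T0, x * y = y * x := by
      rcases ha with rfl | rfl
      · rw [pow_one] at hT0
        haveI := isCyclic_of_prime_card hT0
        intro x y
        exact (IsCyclic.isMulCommutative (α := T0)).is_comm.comm x y
      · intro x y
        exact (IsPGroup.isMulCommutative_of_card_eq_prime_sq hT0).is_comm.comm x y
    intro x hx y hy
    have hx' : x ∈ T0 := hP ▸ hx
    have hy' : y ∈ T0 := hP ▸ hy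
    exact congrArg Subtype.val (hab' ⟨x, hx'⟩ ⟨y, hy'⟩)
  have ha0 : a ≠ 0 := by rcases ha with rfl | rfl <;> norm_num
  have h1 : (P : Subgroup Q) ≠ ⊥ := by
    rw [hP]
    rintro rfl
    rw [Subgroup.card_bot] at hT0
    have := Nat.one_lt_pow ha0 hr.one_lt
    omega
  have h2 : (P : Subgroup Q) ≠ ⊤ := by
    rw [hP]
    rintro rfl
    rw [Subgroup.card_top] at hT0
    exact hQne hT0
  have hne := normalizer_ne_of_simple r P hab h1 h2
  rw [hP] at hne
  have hle : T0 ≤ Subgroup.normalizer (T0 : Set Q) := Subgroup.le_normalizer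
  obtain ⟨m, hm⟩ := Subgroup.card_dvd_of_le hle
  rw [hT0] at hm
  refine ⟨m, ?_, hm⟩
  by_contra hcon
  have hm01 : m = 0 ∨ m = 1 := by omega
  rcases hm01 with rfl | rfl
  · have : 0 < Nat.card (Subgroup.normalizer (T0 : Set Q)) := Nat.card_pos
    omega
  · apply hne
    symm
    apply Subgroup.eq_of_le_of_card_ge hle
    rw [hm, hT0, mul_one]

theorem alt5_five : ∃ T0 : Subgroup (alternatingGroup (Fin 5)), Nat.card T0 = 5 ^ 1 ∧
    10 ≤ Nat.card (Subgroup.normalizer (T0 : Set (alternatingGroup (Fin 5)))) := by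
  haveI : Fact (Nat.Prime 5) := ⟨by norm_num⟩
  haveI := alternatingGroup.isSimpleGroup_five
  obtain ⟨T0, h1, m, hm, h2⟩ := exists_two_mul_le_normalizer (Q := alternatingGroup (Fin 5)) 5 1
    (Or.inl rfl) (by rw [natCard_alt_five]; norm_num) (by rw [natCard_alt_five]; norm_num)
    (by rw [natCard_alt_five]; norm_num)
  refine ⟨T0, h1, ?_⟩
  rw [h2]
  omega

theorem alt5_four : ∃ T0 : Subgroup (alternatingGroup (Fin 5)), Nat.card T0 = 2 ^ 2 ∧
    12 ≤ Nat.card (Subgroup.normalizer (T0 : Set (alternatingGroup (Fin 5)))) := by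
  haveI : Fact (Nat.Prime 2) := ⟨by norm_num⟩
  haveI := alternatingGroup.isSimpleGroup_five
  obtain ⟨T0, h1, m, hm, h2⟩ := exists_two_mul_le_normalizer (Q := alternatingGroup (Fin 5)) 2 2
    (Or.inr rfl) (by rw [natCard_alt_five]; norm_num) (by rw [natCard_alt_five]; norm_num)
    (by rw [natCard_alt_five]; norm_num)
  refine ⟨T0, h1, ?_⟩
  have h3 := Subgroup.card_subgroup_dvd_card
    (Subgroup.normalizer (T0 : Set (alternatingGroup (Fin 5))))
  rw [h2, natCard_alt_five] at h3
  rw [h2]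
  have h4 : m ≠ 2 := by
    rintro rfl
    norm_num at h3
  omega

theorem perm4_three : ∃ T0 : Subgroup (Equiv.Perm (Fin 4)), Nat.card T0 = 3 ^ 1 ∧
    6 ≤ Nat.card (Subgroup.normalizer (T0 : Set (Equiv.Perm (Fin 4)))) := by
  haveI : Fact (Nat.Prime 3) := ⟨by norm_num⟩
  haveI : Fact (Nat.Prime 2) := ⟨by norm_num⟩
  set t : Equiv.Perm (Fin 4) := c[0, 1, 2] with ht
  set s : Equiv.Perm (Fin 4) := Equiv.swap 0 1 with hs
  have ot : orderOf t = 3 := orderOf_eq_prime (by decide) (by decide)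
  have os : orderOf s = 2 := orderOf_eq_prime (by decide) (by decide)
  have hst : s * t * s⁻¹ = t⁻¹ := by decide
  refine ⟨Subgroup.zpowers t, by rw [Nat.card_zpowers, ot, pow_one], ?_⟩
  have h3 : 3 ∣ Nat.card (Subgroup.normalizer ((Subgroup.zpowers t : Subgroup _) :
      Set (Equiv.Perm (Fin 4)))) := by
    have := Subgroup.card_dvd_of_le (Subgroup.le_normalizer (H := Subgroup.zpowers t))
    rwa [Nat.card_zpowers, ot] at this
  have hsN : s ∈ Subgroup.normalizer ((Subgroup.zpowers t : Subgroup _) :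
      Set (Equiv.Perm (Fin 4))) := by
    have key : ∀ x ∈ Subgroup.zpowers t, s * x * s⁻¹ ∈ Subgroup.zpowers t := by
      rintro _ ⟨n, rfl⟩
      refine ⟨-n, ?_⟩
      simp only
      rw [← MulAut.conj_apply, map_zpow, MulAut.conj_apply, hst, inv_zpow, zpow_neg]
    rw [Subgroup.mem_normalizer_iff]
    intro x
    refine ⟨key x, fun hx => ?_⟩
    have h5 := key _ hx
    have hss : s⁻¹ = s := by decide
    have h6 : s * (s * x * s⁻¹) * s⁻¹ = x := by
      have hs2 : s * s = 1 := by decide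
      rw [hss]
      calc s * (s * x * s) * s = (s * s) * x * (s * s) := by group
        _ = x := by rw [hs2]; group
    rwa [h6] at h5
  have h2 : 2 ∣ Nat.card (Subgroup.normalizer ((Subgroup.zpowers t : Subgroup _) :
      Set (Equiv.Perm (Fin 4)))) := by
    have := orderOf_dvd_natCard (⟨s, hsN⟩ : Subgroup.normalizer
      ((Subgroup.zpowers t : Subgroup _) : Set (Equiv.Perm (Fin 4))))
    rwa [Subgroup.orderOf_mk, os] at this
  have h6 : 6 ∣ Nat.card (Subgroup.normalizer ((Subgroup.zpowers t : Subgroup _) :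
      Set (Equiv.Perm (Fin 4)))) :=
    Nat.Coprime.mul_dvd_of_dvd_of_dvd (by norm_num : Nat.Coprime 2 3) h2 h3
  exact Nat.le_of_dvd Nat.card_pos h6

/-- a maximal subgroup that is a full Sylow subgroup cannot exist next to a bigger proper subgroup
of order divisible by its order -/
theorem sylow_trick_self {G Q : Type*} [Group G] [Finite G] [IsSimpleGroup G] [Group Q] [Finite Q]
    (r a : ℕ) [Fact r.Prime] (ha : a ≠ 0) (hra : ¬ r ^ (a + 1) ∣ Nat.card G)
    (M : Subgroup G) (hM : IsCoatom M) (hT : Nat.card M = r ^ a)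
    (φ : Q →* G) (hφ : Function.Injective φ) (hQ : φ.range ≠ ⊤) (hdvd : r ^ a ∣ Nat.card Q)
    (hQM : Nat.card Q ≠ Nat.card M) : False := by
  obtain ⟨T0, hT0⟩ := Sylow.exists_subgroup_card_pow_prime r hdvd
  refine sylow_trick r a ha hra M hM M hT Subgroup.le_normalizer φ hφ hQ T0 hT0 ?_ hQM
  rw [hT, ← hT0]
  exact Subgroup.card_le_of_le Subgroup.le_normalizer

end Cfsg.Agent.Lib.Helper41.Dickson
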