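import Cfsg.Agent.Lib.Helper41.Dickson.Ident
import Cfsg.Agent.Lib.Helper41.Dickson.GeomMob

/-!
# Abstract lemmas: two-point stabilisers, swaps, and the stabiliser of a pair
-/

set_option autoImplicit false
set_option linter.style.haveILetI false
set_option linter.unusedSectionVars false
set_option linter.unusedSimpArgs false

namespace Cfsg.Agent.Lib.Helper41.Dickson

open MulAction

namespace Mob

variable {Γ X : Type*} [Group Γ] [MulAction Γ X] (h : Mob Γ X)
include h

theorem Q_trans [Finite Γ] (x : X) (hn : h.n x = h.qq x + 1) (y z : X) (hy : y ∈ orbit Γ x)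
    (hyx : y ≠ x) (hz : z ∈ orbit Γ x) (hzx : z ≠ x) : ∃ u ∈ h.Q x, u • y = z := by
  have hfin : (orbit Γ x).Finite := Set.finite_range _
  haveI : Finite (h.orbMinus x) := (hfin.subset Set.sdiff_subset).to_subtype
  have hcard : Nat.card (h.orbMinus x) = h.qq x := by
    have : Nat.card (h.orbMinus x) = (orbit Γ x \ {x}).ncard := Nat.card_coe_set_eq _
    rw [this, Set.ncard_sdiff_singleton_of_mem (mem_orbit_self x), ← h.n_eq_ncard, hn]
    simp
  let f : h.Q x → h.orbMinus x := fun u => u • (⟨y, hy, hyx⟩ : h.orbMinus x)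
  have hinj : Function.Injective f := by
    intro u v huv
    have h1 : (u : Γ) • y = (v : Γ) • y := congrArg Subtype.val huv
    have h2 : ((v : Γ)⁻¹ * (u : Γ)) • y = y := by rw [mul_smul, h1, inv_smul_smul]
    have h3 : (v : Γ)⁻¹ * (u : Γ) ∈ h.Q x := (h.Q x).mul_mem ((h.Q x).inv_mem v.2) u.2
    have h4 := h3.2.eq_one h2 h3.1 hyx
    apply Subtype.ext
    rw [inv_mul_eq_one] at h4
    exact h4.symm
  have hbij := hinj.bijective_of_nat_card_le (by rw [hcard]; exact le_refl _)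
  obtain ⟨u, hu⟩ := hbij.2 ⟨z, hz, hzx⟩
  exact ⟨u.1, u.2, congrArg Subtype.val hu⟩

theorem card_two_point [Finite Γ] (x : X) (hn : h.n x = h.qq x + 1) (y : X) (hy : y ∈ orbit Γ x)
    (hyx : y ≠ x) :
    h.qq x * Nat.card (stabilizer Γ x ⊓ stabilizer Γ y : Subgroup Γ) = h.e x := by
  let f : h.Q x × (stabilizer Γ x ⊓ stabilizer Γ y : Subgroup Γ) → stabilizer Γ x :=
    fun uc => ⟨uc.1.1 * uc.2.1, (stabilizer Γ x).mul_mem uc.1.2.1 uc.2.2.1⟩
  have hbij : Function.Bijective f := by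
    constructor
    · rintro ⟨⟨u, hu⟩, ⟨c, hc⟩⟩ ⟨⟨u', hu'⟩, ⟨c', hc'⟩⟩ heq
      have h1 : u * c = u' * c' := congrArg Subtype.val heq
      have h2 : u'⁻¹ * u = c' * c⁻¹ := by
        rw [inv_mul_eq_iff_eq_mul, ← mul_assoc, ← h1]; group
      have h3 : u'⁻¹ * u ∈ h.Q x := (h.Q x).mul_mem ((h.Q x).inv_mem hu') hu
      have h4 : (u'⁻¹ * u) • y = y := by
        rw [h2]
        exact (stabilizer Γ y).mul_mem hc'.2 ((stabilizer Γ y).inv_mem hc.2)
      have h5 := h3.2.eq_one h4 h3.1 hyx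
      have h6 : u = u' := by
        rw [inv_mul_eq_one] at h5; exact h5.symm
      subst h6
      have h7 : c = c' := mul_left_cancel h1
      subst h7
      rfl
    · rintro ⟨a, ha⟩
      have ha' : a • x = x := ha
      obtain ⟨u, hu, huy⟩ := h.Q_trans x hn y (a • y) hy hyx
        (by
          obtain ⟨g, rfl⟩ := hy
          exact ⟨a * g, mul_smul _ _ _⟩)
        (by
          intro hcon
          apply hyx
          exact smul_left_cancel a (by rw [hcon, ha']))
      refine ⟨⟨⟨u, hu⟩, ⟨u⁻¹ * a, ?_, ?_⟩⟩, ?_⟩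
      · exact (stabilizer Γ x).mul_mem ((stabilizer Γ x).inv_mem hu.1) ha
      · show (u⁻¹ * a) • y = y
        rw [mul_smul, ← huy, inv_smul_smul]
      · apply Subtype.ext
        show u * (u⁻¹ * a) = a
        group
  have := Nat.card_congr (Equiv.ofBijective f hbij)
  rw [Nat.card_prod] at this
  exact this

theorem exists_swap_of_two_trans [Finite Γ] (x : X) (hn : h.n x = h.qq x + 1) (y : X)
    (hy : y ∈ orbit Γ x) (hyx : y ≠ x) : ∃ w : Γ, w • x = y ∧ w • y = x := by
  obtain ⟨g, hg⟩ := hy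
  change g • x = y at hg
  have hny : h.n y = h.qq y + 1 := by rw [← hg, h.n_smul, h.qq_smul, hn]
  have horb : orbit Γ y = orbit Γ x := by rw [← hg, MulAction.orbit_smul]
  obtain ⟨u, hu, huz⟩ := h.Q_trans y hny (g • y) x
    (by rw [horb, ← hg]; exact ⟨g * g, mul_smul _ _ _⟩)
    (by
      intro hcon
      apply hyx
      exact smul_left_cancel g (by rw [hcon, hg]))
    (by rw [horb]; exact mem_orbit_self x) (Ne.symm hyx)
  refine ⟨u * g, ?_, ?_⟩
  · rw [mul_smul, hg]; exact hu.1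
  · rw [mul_smul, huz]

theorem exists_swap_of_orbit [Finite Γ] (x : X) (he : 2 ≤ h.e x) (y : X) (hyx : y ≠ x)
    (hfix : ∀ c : Γ, c • x = x → c • y = y) (hy : y ∈ orbit Γ x) :
    ∃ w : Γ, w • x = y ∧ w • y = x := by
  obtain ⟨w, hw⟩ := hy
  change w • x = y at hw
  refine ⟨w, hw, ?_⟩
  have hle : stabilizer Γ x ≤ stabilizer Γ y := fun c hc => hfix c hc
  have heq : stabilizer Γ x = stabilizer Γ y := by
    apply Subgroup.eq_of_le_of_card_ge hle
    have : h.e y = h.e x := by rw [← hw, h.e_smul]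
    exact this.le
  have hnt : Nontrivial (stabilizer Γ x) := by
    rw [← Finite.one_lt_card_iff_nontrivial]
    exact he
  obtain ⟨⟨c, hc⟩, hc1⟩ := exists_ne (1 : stabilizer Γ x)
  have hc1' : c ≠ 1 := fun hcon => hc1 (Subtype.ext hcon)
  have hcy : c • y = y := hfix c hc
  have h1 : (w⁻¹ * c * w) • x = x := by
    rw [mul_smul, mul_smul, hw, hcy, ← hw, inv_smul_smul]
  have h2 : (w⁻¹ * c * w) • y = y := hfix _ h1
  have h3 : c • (w • y) = w • y := by
    rw [mul_smul, mul_smul, inv_smul_eq_iff] at h2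
    exact h2
  by_contra hcon
  have h4 : w • y ≠ y := by
    intro h5
    apply hyx
    exact smul_left_cancel w (by rw [h5, hw])
  exact hc1' (h.three_fix c x y (w • y) hc hcy h3 (Ne.symm hyx) (Ne.symm hcon) (Ne.symm h4))

omit h in
/-- the stabiliser of the pair `{x, y}` -/
def pairStab (Γ : Type*) {X : Type*} [Group Γ] [MulAction Γ X] (x y : X) : Subgroup Γ where
  carrier := {g | (g • x = x ∧ g • y = y) ∨ (g • x = y ∧ g • y = x)}
  one_mem' := Or.inl ⟨one_smul _ _, one_smul _ _⟩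
  mul_mem' := by
    rintro a b (⟨h1, h2⟩ | ⟨h1, h2⟩) (⟨h3, h4⟩ | ⟨h3, h4⟩)
    · left; exact ⟨by rw [mul_smul, h3, h1], by rw [mul_smul, h4, h2]⟩
    · right; exact ⟨by rw [mul_smul, h3, h2], by rw [mul_smul, h4, h1]⟩
    · right; exact ⟨by rw [mul_smul, h3, h1], by rw [mul_smul, h4, h2]⟩
    · left; exact ⟨by rw [mul_smul, h3, h2], by rw [mul_smul, h4, h1]⟩
  inv_mem' := by
    rintro a (⟨h1, h2⟩ | ⟨h1, h2⟩)
    · left; exact ⟨smul_eq_iff_inv.2 h1, smul_eq_iff_inv.2 h2⟩
    · right; exact ⟨by rw [inv_smul_eq_iff, h2], by rw [inv_smul_eq_iff, h1]⟩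

omit h in
theorem mem_pairStab {x y : X} {g : Γ} :
    g ∈ pairStab Γ x y ↔ (g • x = x ∧ g • y = y) ∨ (g • x = y ∧ g • y = x) := Iff.rfl

/-- the stabiliser of a pair of points that can be swapped is dihedral -/
theorem pairStab_dihedral [Finite Γ] (x y : X) (hxy : x ≠ y) (w : Γ) (hw : w • x = y)
    (hw' : w • y = x) :
    Nonempty (pairStab Γ x y ≃*
      DihedralGroup (Nat.card (stabilizer Γ x ⊓ stabilizer Γ y : Subgroup Γ))) := by
  have hN : Mob (pairStab Γ x y) X := h.subgroup _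
  have hq : hN.qq x = 1 := by
    unfold qq
    rw [Subgroup.card_eq_one, eq_bot_iff]
    rintro ⟨a, ha⟩ ⟨h1, h2⟩
    have h1' : a • x = x := h1
    have h3 : a • y = y := by
      rcases ha with ha | ha
      · exact ha.2
      · exact absurd (h1'.symm.trans ha.1) hxy
    exact h2.eq_one h1 h3 hxy
  have hn : hN.n x = 2 := by
    rw [hN.n_eq_ncard]
    have : orbit (pairStab Γ x y) x = {x, y} := by
      ext z
      constructor
      · rintro ⟨⟨a, ha⟩, rfl⟩
        show a • x ∈ _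
        rcases ha with ha | ha
        · rw [ha.1]; simp
        · rw [ha.1]; simp
      · rintro (rfl | rfl)
        · exact mem_orbit_self _
        · exact ⟨⟨w, Or.inr ⟨hw, hw'⟩⟩, hw⟩
    rw [this, Set.ncard_pair hxy]
  obtain ⟨e⟩ := hN.dihedral hq hn
  have he : hN.e x = Nat.card (stabilizer Γ x ⊓ stabilizer Γ y : Subgroup Γ) := by
    unfold Mob.e
    apply Nat.card_congr
    refine ⟨fun a => ⟨a.1.1, a.2, ?_⟩, fun a => ⟨⟨a.1, Or.inl ⟨a.2.1, a.2.2⟩⟩, a.2.1⟩,
      fun a => rfl, fun a => rfl⟩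
    have h1' : a.1.1 • x = x := a.2
    rcases a.1.2 with ha | ha
    · exact ha.2
    · exact absurd (h1'.symm.trans ha.1) hxy
  rw [he] at e
  exact ⟨e⟩

end Mob

end Cfsg.Agent.Lib.Helper41.Dickson
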