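import Cfsg.Agent.Lib.Helper41.Dickson.PSLOrbits
import Cfsg.Agent.Lib.Helper41.Dickson.TwoTrans

/-!
# Tori of `PSL₂(F)` and their normalisers
-/

set_option autoImplicit false
set_option linter.style.haveILetI false
set_option linter.unusedSectionVars false
set_option linter.unusedSimpArgs false

namespace Cfsg.Agent.Lib.Helper41.Dickson

open Matrix OnePoint MulAction
open scoped MatrixGroups

variable {F : Type*} [Field F] {L : Type*} [Field L] [Algebra F L] [DecidableEq L]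

attribute [local instance] pslAct

local notation "G" => Matrix.ProjectiveSpecialLinearGroup (Fin 2) F
local notation "X" => OnePoint L

theorem second_fix_rational [IsAlgClosed L] (c : G) (hc : ¬ Uni X c) (x y : X) (hxy : x ≠ y)
    (hx : c • x = x) (hy : c • y = y) (hxo : x ∈ orbit G (∞ : X)) : y ∈ orbit G (∞ : X) := by
  obtain ⟨g₀, rfl⟩ := hxo
  have hG := psl_mob (F := F) (L := L)
  have h1 : (g₀⁻¹ * c * g₀) • (∞ : X) = ∞ := by
    rw [mul_smul, mul_smul, inv_smul_eq_iff]; exact hx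
  have h2 : (g₀⁻¹ * c * g₀) • (g₀⁻¹ • y) = g₀⁻¹ • y := by
    rw [mul_smul, mul_smul, smul_inv_smul, hy]
  have h3 : ¬ Uni X (g₀⁻¹ * c * g₀) := by
    intro hcon
    apply hc
    have := hcon.conj g₀
    have h4 : g₀ * (g₀⁻¹ * c * g₀) * g₀⁻¹ = c := by group
    rwa [h4] at this
  have h5 : g₀⁻¹ • y ≠ ∞ := by
    intro hcon
    apply hxy
    rw [inv_smul_eq_iff] at hcon
    exact hcon.symm
  obtain ⟨g, hg⟩ := QuotientGroup.mk_surjective (g₀⁻¹ * c * g₀)
  rw [← hg] at h1 h2 h3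
  have h10 : g 1 0 = 0 := by
    by_contra hcon
    rw [mk_smul_infty_of_ne g hcon] at h1
    exact OnePoint.coe_ne_infty _ h1
  have hne : g 0 0 ≠ g 1 1 := by
    intro hcon
    apply h3
    rw [psl_uni_iff, iota_mk, uni_iff_infty]
    · simp [hcon]
    · simp [h10]
  have hdet := Cfsg.Agent.Lib.Helper41.sl2_det g
  have h11 : g 1 1 ≠ 0 := by
    intro hcon
    change g 0 0 * g 1 1 - g 0 1 * g 1 0 = 1 at hdet
    rw [hcon, h10] at hdet
    simp at hdet
  have hne' : g 1 1 - g 0 0 ≠ 0 := sub_ne_zero.2 (Ne.symm hne)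
  have h6 : ((QuotientGroup.mk g : G)) • ((algebraMap F L (g 0 1 / (g 1 1 - g 0 0)) : L) : X) =
      ((algebraMap F L (g 0 1 / (g 1 1 - g 0 0)) : L) : X) := by
    rw [mk_smul_coe_of_ne g _ (by rw [h10, zero_mul, zero_add]; exact h11), h10, zero_mul, zero_add]
    congr 2
    field_simp
    ring
  have h7 : g₀⁻¹ • y = ((algebraMap F L (g 0 1 / (g 1 1 - g 0 0)) : L) : X) := by
    by_contra hcon
    apply h3
    left
    exact hG.three_fix _ _ _ _ h1 h2 h6 (Ne.symm h5) (OnePoint.infty_ne_coe _) hcon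
  have h8 : g₀⁻¹ • y ∈ orbit G (∞ : X) := by
    rw [h7, orbit_infty]; exact coe_mem_ratPts _
  obtain ⟨k, hk⟩ := h8
  refine ⟨g₀ * k, ?_⟩
  show (g₀ * k) • (∞ : X) = y
  rw [mul_smul]
  change k • (∞ : X) = g₀⁻¹ • y at hk
  rw [hk, smul_inv_smul]

variable [Fintype F] [IsAlgClosed L]

theorem torus_geom (c : G) (hc : ¬ Uni X c) :
    ∃ x y : X, x ≠ y ∧ c • x = x ∧ c • y = y ∧ (∃ w : G, w • x = y ∧ w • y = x) ∧
      (Nat.gcd 2 (Fintype.card F - 1) * Nat.card (stabilizer G x ⊓ stabilizer G y : Subgroup G) =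
        Fintype.card F - 1 ∨
       Nat.gcd 2 (Fintype.card F - 1) * Nat.card (stabilizer G x ⊓ stabilizer G y : Subgroup G) =
        Fintype.card F + 1) := by
  set hG := psl_mob (F := F) (L := L)
  obtain ⟨x, y, hxy, hx, hy, hall⟩ := hG.exists_two_fix hc
  have hc1 : c ≠ 1 := fun h => hc (Or.inl h)
  refine ⟨x, y, hxy, hx, hy, ?_⟩
  by_cases hxo : x ∈ orbit G (∞ : X)
  · have hyo := second_fix_rational c hc x y hxy hx hy hxo
    obtain ⟨g₀, hg₀⟩ := hxo
    change g₀ • (∞ : X) = x at hg₀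
    have hn : hG.n x = Fintype.card F + 1 := by rw [← hg₀, hG.n_smul, n_infty]
    have hq : hG.qq x = Fintype.card F := by rw [← hg₀, hG.qq_smul, qq_infty]
    have he : Nat.gcd 2 (Fintype.card F - 1) * hG.e x = Fintype.card F * (Fintype.card F - 1) := by
      rw [← hg₀, hG.e_smul, card_mul_eq]
    have hyx : y ∈ orbit G x := by rw [← hg₀, MulAction.orbit_smul]; exact hyo
    refine ⟨hG.exists_swap_of_two_trans x (by rw [hn, hq]) y hyx (Ne.symm hxy), Or.inl ?_⟩
    have h1 := hG.card_two_point x (by rw [hn, hq]) y hyx (Ne.symm hxy)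
    rw [hq] at h1
    rw [← h1] at he
    have h2 : Fintype.card F * (Nat.gcd 2 (Fintype.card F - 1) *
        Nat.card (stabilizer G x ⊓ stabilizer G y : Subgroup G)) =
        Fintype.card F * (Fintype.card F - 1) := by
      rw [← he]; ring
    exact Nat.eq_of_mul_eq_mul_left Fintype.card_pos h2
  · have hyo : y ∉ orbit G (∞ : X) := fun hcon =>
      hxo (second_fix_rational c hc y x (Ne.symm hxy) hy hx hcon)
    obtain ⟨x₁, -, he₁, hq₁, hall₁⟩ := nonsplit_orbit (F := F) (L := L)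
    have hx1 : x ∈ orbit G x₁ := (hall₁ x ⟨c, hc1, hx⟩).resolve_left hxo
    have hy1 : y ∈ orbit G x₁ := (hall₁ y ⟨c, hc1, hy⟩).resolve_left hyo
    obtain ⟨g₁, hg₁⟩ := hx1
    change g₁ • x₁ = x at hg₁
    have hyx : y ∈ orbit G x := by rw [← hg₁, MulAction.orbit_smul]; exact hy1
    have hq : hG.qq x = 1 := by rw [← hg₁, hG.qq_smul, hq₁]
    have he : Nat.gcd 2 (Fintype.card F - 1) * hG.e x = Fintype.card F + 1 := by
      rw [← hg₁, hG.e_smul, he₁]
    have he2 : 2 ≤ hG.e x := hG.two_le_e ⟨c, hc1, hx⟩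
    obtain ⟨y', hy'x, hfix, hall'⟩ := hG.exists_second_fix hq he2
    have hyy : y = y' := (hall' c hc1 hx y hy).resolve_left (Ne.symm hxy)
    subst hyy
    refine ⟨hG.exists_swap_of_orbit x he2 y hy'x hfix hyx, Or.inr ?_⟩
    have h1 : (stabilizer G x ⊓ stabilizer G y : Subgroup G) = stabilizer G x :=
      inf_eq_left.2 (fun a ha => hfix a ha)
    rw [h1]
    exact he

end Cfsg.Agent.Lib.Helper41.Dickson
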