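import Cfsg.Agent.Lib.Helper41.Dickson.PrimeExp
import Cfsg.Agent.Lib.Helper41.Dickson.MaxTools
import Cfsg.Agent.Lib.Helper41.SL2Invol

/-!
# Traces and element orders, odd characteristic; groups generated by `p`-elements
-/

set_option autoImplicit false
set_option linter.style.haveILetI false
set_option linter.unusedSectionVars false
set_option linter.unusedSimpArgs false

namespace Cfsg.Agent.Lib.Helper41.Dickson

open Matrix
open Cfsg.Agent.Lib.Helper41

variable {F : Type*} [Field F]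

local notation "SL2" => Matrix.SpecialLinearGroup (Fin 2) F
local notation "PSL2" => Matrix.ProjectiveSpecialLinearGroup (Fin 2) F
local notation "M2" => Matrix (Fin 2) (Fin 2) F

theorem natCast_pow_char (p : ℕ) [Fact p.Prime] [CharP F p] (n j : ℕ) :
    (n : F) ^ p ^ j = n := by
  have := map_natCast (iterateFrobenius F p j) n
  rwa [iterateFrobenius_def] at this

/-- lifts of elements of order dividing `p` have trace `±2` -/
theorem trace_of_pow_p (p : ℕ) [Fact p.Prime] [CharP F p] (X : SL2)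
    (h : (QuotientGroup.mk X : PSL2) ^ p = 1) :
    Matrix.trace (X : M2) = 2 ∨ Matrix.trace (X : M2) = -2 := by
  obtain ⟨U, hU, htr⟩ := exists_lift_trace_two p _ h
  rcases (psl2_mk_eq_iff U X).1 hU with h1 | h1
  · left; rw [← h1, htr]
  · right
    have : (X : M2) = -(U : M2) := by rw [h1, neg_neg]
    rw [this, Matrix.trace_neg, htr]

theorem sl2_pow_two_mul (X : SL2) (n : ℕ) (h : (QuotientGroup.mk X : PSL2) ^ n = 1) :
    X ^ (2 * n) = 1 := by
  apply Subtype.ext
  rw [Matrix.SpecialLinearGroup.coe_pow, mul_comm, pow_mul]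
  rcases (psl2_pow_eq_one_iff X n).1 h with h | h
  · rw [h, one_pow]; rfl
  · rw [h]; simp

theorem trace_fix_odd (p : ℕ) [Fact p.Prime] [CharP F p] (hp2 : p ≠ 2) (j : ℕ) (X : SL2)
    (h : orderOf (QuotientGroup.mk X : PSL2) ∣ p ∨
      2 * orderOf (QuotientGroup.mk X : PSL2) ∣ p ^ j - 1 ∨
      2 * orderOf (QuotientGroup.mk X : PSL2) ∣ p ^ j + 1) :
    Matrix.trace (X : M2) ^ p ^ j = Matrix.trace (X : M2) := by
  have h2 : (2 : F) ^ p ^ j = 2 := by
    have := natCast_pow_char (F := F) p 2 j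
    simpa using this
  have hodd : Odd (p ^ j) := ((Fact.out : p.Prime).odd_of_ne_two hp2).pow
  have hX := sl2_pow_two_mul X _ (pow_orderOf_eq_one (QuotientGroup.mk X : PSL2))
  rcases h with h | h | h
  · rcases trace_of_pow_p p X (orderOf_dvd_iff_pow_eq_one.1 h) with h1 | h1
    · rw [h1, h2]
    · rw [h1, hodd.neg_pow, h2]
  · obtain ⟨c, hc⟩ := h
    exact trace_pow_of_pow_pred p X j (by rw [hc, pow_mul, hX, one_pow])
  · obtain ⟨c, hc⟩ := h
    exact trace_pow_of_pow_succ p X j (by rw [hc, pow_mul, hX, one_pow])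

/-- a group generated by elements of odd order has no subgroup of index two -/
theorem no_index_two_of_closure {G' : Type*} [Group G'] (S : Set G') (p : ℕ) (hp : Odd p)
    (hS : ∀ s ∈ S, s ^ p = 1) (Γ : Subgroup G') (hΓ : Γ = Subgroup.closure S) (N : Subgroup Γ)
    (hN : N.index = 2) : False := by
  have h1 : Subgroup.closure S ≤ N.map Γ.subtype := by
    rw [Subgroup.closure_le]
    intro s hs
    have hsΓ : s ∈ Γ := hΓ ▸ Subgroup.subset_closure hs
    refine ⟨⟨s, hsΓ⟩, ?_, rfl⟩
    obtain ⟨m, hm⟩ := hp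
    have h2 : (⟨s, hsΓ⟩ : Γ) = ((⟨s, hsΓ⟩ : Γ) ^ 2) ^ (m + 1) := by
      apply Subtype.ext
      show s = (s ^ 2) ^ (m + 1)
      rw [← pow_mul]
      have : 2 * (m + 1) = p + 1 := by omega
      rw [this, pow_succ, hS s hs, one_mul]
    rw [SetLike.mem_coe, h2]
    exact N.pow_mem (Subgroup.sq_mem_of_index_two hN _) _
  have h3 : N = ⊤ := by
    rw [eq_top_iff]
    rintro ⟨g, hg⟩ -
    obtain ⟨n, hn, hng⟩ := h1 (hΓ ▸ hg)
    have : n = ⟨g, hg⟩ := Subtype.ext hng
    rw [← this]; exact hn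
  rw [h3, Subgroup.index_top] at hN
  omega

/-- `p`-elements of the normaliser of a Sylow `p`-subgroup lie in it -/
theorem mem_sylow_of_mem_normalizer {G' : Type*} [Group G'] (p : ℕ) [Fact p.Prime] (P : Sylow p G')
    (u : G') (hu : u ∈ Subgroup.normalizer ((P : Subgroup G') : Set G')) (hup : u ^ p = 1) :
    u ∈ P := by
  have h1 : IsPGroup p (Subgroup.zpowers u) := by
    rintro ⟨g, hg⟩
    obtain ⟨n, rfl⟩ := Subgroup.mem_zpowers_iff.1 hg
    refine ⟨1, Subtype.ext ?_⟩
    show (u ^ n) ^ p ^ 1 = 1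
    rw [pow_one, ← zpow_natCast, ← _root_.zpow_mul, mul_comm, _root_.zpow_mul, zpow_natCast, hup,
      _root_.one_zpow]
  have h2 : Subgroup.zpowers u ≤ Subgroup.normalizer ((P : Subgroup G') : Set G') := by
    rw [Subgroup.zpowers_le]; exact hu
  have h3 := IsPGroup.to_sup_of_normal_right' h1 P.2 h2
  have h4 := P.is_maximal' h3 le_sup_right
  have h5 : u ∈ Subgroup.zpowers u ⊔ (P : Subgroup G') :=
    (le_sup_left : Subgroup.zpowers u ≤ _) (Subgroup.mem_zpowers u)
  rw [h4] at h5
  exact h5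

/-- the index of `PSL₂` in `PGL₂`, odd characteristic -/
theorem index_range_toPGL (K : Type*) [Field K] [Finite K] (hodd : Odd (Nat.card K)) :
    (Matrix.ProjectiveSpecialLinearGroup.toPGL (n := Fin 2) (R := K)).range.index = 2 := by
  have hinj := Matrix.ProjectiveSpecialLinearGroup.toPGL_injective (n := Fin 2) (R := K)
  have h1 := natCard_PSL2 K
  have h2 := natCard_PGL2 K
  have hg : Nat.gcd 2 (Nat.card K - 1) = 2 := by
    obtain ⟨a, ha⟩ := hodd
    exact Nat.gcd_eq_left ⟨a, by omega⟩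
  rw [hg] at h1
  have h3 : Nat.card (Matrix.ProjectiveSpecialLinearGroup.toPGL (n := Fin 2) (R := K)).range =
      Nat.card (Matrix.ProjectiveSpecialLinearGroup (Fin 2) K) :=
    (Nat.card_congr (MonoidHom.ofInjective hinj).toEquiv).symm
  have h4 := (Matrix.ProjectiveSpecialLinearGroup.toPGL (n := Fin 2) (R := K)).range.index_mul_card
  rw [h3, h2, ← h1] at h4
  have h5 : 0 < Nat.card (Matrix.ProjectiveSpecialLinearGroup (Fin 2) K) := Nat.card_pos
  exact Nat.eq_of_mul_eq_mul_right h5 h4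

end Cfsg.Agent.Lib.Helper41.Dickson
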