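import Cfsg.Agent.Lib.Helper41.Dickson.Witness

/-!
# Dickson's list for proper subgroups with a witness (odd characteristic)
-/

set_option autoImplicit false
set_option linter.style.haveILetI false
set_option linter.unusedSectionVars false
set_option linter.unusedSimpArgs false

namespace Cfsg.Agent.Lib.Helper41.Dickson

open Matrix
open scoped MatrixGroups

variable {F : Type*} [Field F] [Fintype F]

local notation "G" => Matrix.ProjectiveSpecialLinearGroup (Fin 2) F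

theorem dickson_wit (p : ℕ) [Fact p.Prime] [CharP F p] (hp2 : p ≠ 2) (M : Subgroup G) (hM : M ≠ ⊤)
    (hW : Wit M) :
    (Nonempty (M ≃* alternatingGroup (Fin 4)) ∧ Nat.card M = 12) ∨
    (Nonempty (M ≃* Equiv.Perm (Fin 4)) ∧ Nat.card M = 24) ∨
    (Nonempty (M ≃* alternatingGroup (Fin 5)) ∧ Nat.card M = 60) ∨
    (∃ (K : Subfield F) (m : ℕ), 2 ≤ m ∧ Fintype.card F = Nat.card K ^ m ∧ 2 ≤ Nat.card K ∧
      ((Nonempty (M ≃* Matrix.ProjectiveSpecialLinearGroup (Fin 2) K) ∧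
        2 * Nat.card M = Nat.card K * (Nat.card K ^ 2 - 1)) ∨
      (Nonempty (M ≃* Matrix.ProjGenLinGroup (Fin 2) K) ∧
        Nat.card M = Nat.card K * (Nat.card K ^ 2 - 1)))) := by
  obtain ⟨-, ⟨c, d, h1, h2⟩⟩ := id hW
  have hodd : Odd (Fintype.card F) := by
    obtain ⟨n, -, hn⟩ := FiniteField.card F p
    rw [hn]
    exact ((Fact.out : p.Prime).odd_of_ne_two hp2).pow
  have hgcd : Nat.gcd 2 (Fintype.card F - 1) = 2 := by
    obtain ⟨a, ha⟩ := hodd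
    exact Nat.gcd_eq_left ⟨a, by omega⟩
  have htp : ((c * d * c⁻¹ * d⁻¹ : M) : G) ^ p ≠ 1 := by
    intro h6
    have h6' : (c * d * c⁻¹ * d⁻¹) ^ p = 1 := Subtype.ext h6
    have h7 : orderOf (c * d * c⁻¹ * d⁻¹) ∣ Nat.gcd p 2 :=
      Nat.dvd_gcd (orderOf_dvd_of_pow_eq_one h6') (orderOf_dvd_of_pow_eq_one h2)
    have h8 : Nat.gcd p 2 = 1 :=
      (Nat.coprime_primes (Fact.out : p.Prime) Nat.prime_two).2 hp2
    rw [h8, Nat.dvd_one, orderOf_eq_one_iff] at h7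
    exact h1 h7
  rcases dickson_proper p M hM _ (c * d * c⁻¹ * d⁻¹ : M).2 htp with ⟨h, -⟩ | ⟨j, -, h, -⟩ | ⟨P, hP⟩ |
      ⟨e, h, -⟩ | ⟨e, h, -⟩ | ⟨e, h, -⟩ | ⟨K, m, hm, hqm, hK2, hK⟩
  · exact absurd h hW.not_cyclic
  · exact absurd h (hW.not_dihedral j)
  · exact absurd hP (hW.not_borel p hp2 P)
  · exact Or.inl ⟨e, h⟩
  · exact Or.inr (Or.inl ⟨e, h⟩)
  · exact Or.inr (Or.inr (Or.inl ⟨e, h⟩))
  · refine Or.inr (Or.inr (Or.inr ⟨K, m, hm, hqm, hK2, ?_⟩))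
    rw [hgcd] at hK
    rcases hK with ⟨e, h, -⟩ | ⟨e, h, -⟩
    · exact Or.inl ⟨e, h⟩
    · exact Or.inr ⟨e, h⟩

/-- the characteristic of a field of prime order -/
theorem charP_of_card_prime (p : ℕ) (hp : p.Prime) (hF : Fintype.card F = p) : CharP F p := by
  obtain ⟨p', hp'⟩ := CharP.exists F
  obtain ⟨n, hpp, hn⟩ := FiniteField.card F p'
  rw [hF] at hn
  have := (hp.pow_eq_iff).1 hn.symm
  rw [← this.1]
  exact hp'

theorem two_mul_card_psl (hodd : Odd (Fintype.card F)) :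
    2 * Nat.card G = Fintype.card F * (Fintype.card F ^ 2 - 1) := by
  have hg := natCard_PSL2 F
  rw [Nat.card_eq_fintype_card] at hg
  have hgcd : Nat.gcd 2 (Fintype.card F - 1) = 2 := by
    obtain ⟨a, ha⟩ := hodd
    exact Nat.gcd_eq_left ⟨a, by omega⟩
  rwa [hgcd] at hg

end Cfsg.Agent.Lib.Helper41.Dickson
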