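import Cfsg.Agent.Lib.Helper41.Dickson.Proper

/-!
# Witnesses against being cyclic, dihedral or contained in a Borel subgroup
-/

set_option autoImplicit false
set_option linter.style.haveILetI false
set_option linter.unusedSectionVars false
set_option linter.unusedSimpArgs false

namespace Cfsg.Agent.Lib.Helper41.Dickson

open Matrix
open scoped MatrixGroups

theorem dihedral_sq_comm (k : ℕ) (x y : DihedralGroup k) : x ^ 2 * y ^ 2 = y ^ 2 * x ^ 2 := by
  rcases x with i | i <;> rcases y with j | j <;> simp [sq, add_comm, add_left_comm]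

theorem sq_comm_of_dihedral {M : Type*} [Group M] {k : ℕ} (e : M ≃* DihedralGroup k) (x y : M) :
    x ^ 2 * y ^ 2 = y ^ 2 * x ^ 2 := by
  apply e.injective
  simp only [map_mul, map_pow]
  exact dihedral_sq_comm k _ _

theorem sq_comm_of_cyclic {M : Type*} [Group M] [IsCyclic M] (x y : M) :
    x ^ 2 * y ^ 2 = y ^ 2 * x ^ 2 := by
  letI := IsCyclic.commGroup (α := M)
  exact mul_comm _ _

/-- the witness property -/
def Wit (H : Type*) [Group H] : Prop :=
  (∃ a b : H, a ^ 2 * b ^ 2 ≠ b ^ 2 * a ^ 2) ∧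
  (∃ c d : H, c * d * c⁻¹ * d⁻¹ ≠ 1 ∧ (c * d * c⁻¹ * d⁻¹) ^ 2 = 1)

theorem Wit.of_injective {H H' : Type*} [Group H] [Group H'] (h : Wit H) (f : H →* H')
    (hf : Function.Injective f) : Wit H' := by
  obtain ⟨⟨a, b, hab⟩, ⟨c, d, h1, h2⟩⟩ := h
  refine ⟨⟨f a, f b, fun hcon => hab (hf ?_)⟩, ⟨f c, f d, fun hcon => h1 (hf ?_), ?_⟩⟩
  · simpa only [map_mul, map_pow] using hcon
  · simpa only [map_mul, map_inv, map_one] using hcon
  · have := congrArg f h2
    simpa only [map_mul, map_inv, map_one, map_pow] using this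

theorem wit_alt_of {n : ℕ} (a b d : Equiv.Perm (Fin n)) (ha : Equiv.Perm.sign a = 1)
    (hb : Equiv.Perm.sign b = 1) (hd : Equiv.Perm.sign d = 1)
    (h1 : a ^ 2 * b ^ 2 ≠ b ^ 2 * a ^ 2) (h2 : a * d * a⁻¹ * d⁻¹ ≠ 1)
    (h3 : (a * d * a⁻¹ * d⁻¹) ^ 2 = 1) : Wit (alternatingGroup (Fin n)) := by
  refine ⟨⟨⟨a, ha⟩, ⟨b, hb⟩, fun h => h1 (congrArg Subtype.val h)⟩,
    ⟨⟨a, ha⟩, ⟨d, hd⟩, fun h => h2 (congrArg Subtype.val h), Subtype.ext h3⟩⟩

set_option maxRecDepth 100000 in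
theorem wit_alt_four : Wit (alternatingGroup (Fin 4)) :=
  wit_alt_of c[0, 1, 2] c[1, 2, 3] (c[0, 1] * c[2, 3]) (by decide) (by decide) (by decide)
    (by decide) (by decide) (by decide)

theorem wit_perm_four : Wit (Equiv.Perm (Fin 4)) :=
  wit_alt_four.of_injective (alternatingGroup (Fin 4)).subtype Subtype.val_injective

set_option maxRecDepth 100000 in
theorem wit_alt_five : Wit (alternatingGroup (Fin 5)) :=
  wit_alt_of c[0, 1, 2] c[1, 2, 3] (c[0, 1] * c[2, 3]) (by decide) (by decide) (by decide)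
    (by decide) (by decide) (by decide)

variable {F : Type*} [Field F] [Fintype F]

local notation "G" => Matrix.ProjectiveSpecialLinearGroup (Fin 2) F

theorem Wit.le {G' : Type*} [Group G'] {H M : Subgroup G'} (h : Wit H) (hHM : H ≤ M) : Wit M :=
  h.of_injective (Subgroup.inclusion hHM) (Subgroup.inclusion_injective hHM)

theorem Wit.not_cyclic {M : Type*} [Group M] (h : Wit M) : ¬ IsCyclic M := by
  intro hc
  obtain ⟨⟨a, b, hab⟩, -⟩ := h
  exact hab (sq_comm_of_cyclic a b)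

theorem Wit.not_dihedral {M : Type*} [Group M] (h : Wit M) (k : ℕ) :
    ¬ Nonempty (M ≃* DihedralGroup k) := by
  rintro ⟨e⟩
  obtain ⟨⟨a, b, hab⟩, -⟩ := h
  exact hab (sq_comm_of_dihedral e a b)

theorem Wit.not_borel (p : ℕ) [Fact p.Prime] [CharP F p] (hp2 : p ≠ 2) {M : Subgroup G} (h : Wit M)
    (P : Sylow p G) : ¬ M ≤ Subgroup.normalizer ((P : Subgroup G) : Set G) := by
  intro hM
  obtain ⟨-, ⟨c, d, h1, h2⟩⟩ := h
  obtain ⟨-, -, -, h3, -, h4⟩ := borel_package p P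
  have h5 := h4 _ (h3 _ (hM c.2) _ (hM d.2))
  have h6 : (c * d * c⁻¹ * d⁻¹) ^ p = 1 := Subtype.ext h5
  have h7 : orderOf (c * d * c⁻¹ * d⁻¹) ∣ Nat.gcd p 2 :=
    Nat.dvd_gcd (orderOf_dvd_of_pow_eq_one h6) (orderOf_dvd_of_pow_eq_one h2)
  have h8 : Nat.gcd p 2 = 1 :=
    (Nat.coprime_primes (Fact.out : p.Prime) Nat.prime_two).2 hp2
  rw [h8, Nat.dvd_one, orderOf_eq_one_iff] at h7
  exact h1 h7

end Cfsg.Agent.Lib.Helper41.Dickson
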